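import Cfsg.Agent.H42.PairPush.Pair
import Cfsg.Agent.H31.PushUp.ClassTwo

/-!
# The elements of order `p` of the centre of the core modulo the fixed points
-/

set_option autoImplicit false
set_option linter.unusedSectionVars false

namespace Cfsg.Agent.H42.PairPush

open Subgroup Cfsg.Agent Cfsg.Agent.H62 Cfsg.Agent.H60
open scoped Pointwise commutatorElement

universe u

variable {p : ℕ} [Fact p.Prime] {S : Type u} [Group S] [Finite S]

namespace Mem

variable (m : Mem p S)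

theorem Fix_comm {f : S} (hf : f ∈ m.Fix) (x : S) : x * f = f * x :=
  mem_center_iff.mp (m.Fix_le_center hf) x

/-- The elements of order `p` of the centre of the core modulo the fixed points. -/
def upper : Subgroup S where
  carrier := {y | y ∈ m.Q ∧ (∀ q ∈ m.Q, ⁅y, q⁆ ∈ m.Fix) ∧ y ^ p ∈ m.Fix}
  one_mem' := ⟨one_mem _, fun q _ => by rw [commutatorElement_one_left]; exact one_mem _,
    by rw [one_pow]; exact one_mem _⟩
  mul_mem' := by
    rintro a b ⟨ha, ha', ha''⟩ ⟨hb, hb', hb''⟩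
    refine ⟨mul_mem ha hb, fun q hq => ?_, ?_⟩
    · rw [comm_mul_left (m.Fix_comm (hb' q hq) a)]
      exact mul_mem (hb' q hq) (ha' q hq)
    · rw [H31.PushUp.mul_pow_class_two (l := ⁅b, a⁆) (by simp only [commutatorElement_def]; group)
        (m.Fix_comm (hb' a ha) a).symm (m.Fix_comm (hb' a ha) b).symm]
      exact mul_mem (mul_mem ha'' hb'') (pow_mem (hb' a ha) _)
  inv_mem' := by
    rintro a ⟨ha, ha', ha''⟩
    refine ⟨inv_mem ha, fun q hq => ?_, by rw [inv_pow]; exact inv_mem ha''⟩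
    have h1 := ha' q hq
    rw [show ⁅a⁻¹, q⁆ = a⁻¹ * ⁅a, q⁆⁻¹ * a by simp only [commutatorElement_def]; group,
      m.Fix_comm (inv_mem h1) a⁻¹, inv_mul_cancel_right]
    exact inv_mem h1

theorem mem_upper {y : S} : y ∈ m.upper ↔ y ∈ m.Q ∧ (∀ q ∈ m.Q, ⁅y, q⁆ ∈ m.Fix) ∧ y ^ p ∈ m.Fix := Iff.rfl

theorem upper_le_Q : m.upper ≤ m.Q := fun _ h => h.1

theorem nrm_upper : m.Nrm m.upper := by
  refine m.nrm_of m.upper_le_Q fun g y hy => ?_
  obtain ⟨x, ⟨hx, hx', hx''⟩, he⟩ := m.exists_of_mem_cjS hy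
  refine ⟨m.cjS_le_Q m.upper_le_Q g hy, fun q hq => ?_, ?_⟩
  · obtain ⟨q0, hq0, he'⟩ := m.exists_conj le_rfl g⁻¹ hq
    rw [m.nrm_Q.cjS_eq] at hq0
    have hf := hx' q0 hq0
    have e : ⁅y, q⁆ = ⁅x, q0⁆ := by
      refine m.inj ?_
      rw [← m.Fix_conj hf g, map_commutatorElement, map_commutatorElement, conj_comm, he, he']
      group
    rw [e]; exact hf
  · have e : y ^ p = x ^ p := by
      refine m.inj ?_
      rw [← m.Fix_conj hx'' g, map_pow, map_pow, he, conj_pow]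
    rw [e]; exact hx''

theorem le_upper_of {H : Subgroup S} (hH : H ≤ m.Q) (hc : ∀ y ∈ H, ∀ q ∈ m.Q, ⁅y, q⁆ ∈ m.Fix)
    (hp : ∀ y ∈ H, y ^ p ∈ m.Fix) : H ≤ m.upper := fun y hy => ⟨hH hy, hc y hy, hp y hy⟩

theorem cl_le_upper {H : Subgroup S} (hH : H ≤ m.upper) : m.cl H ≤ m.upper := m.cl_le m.nrm_upper hH

variable {m} {i t : Mem p S} (h : Std p S)
include h

theorem V_le_upper_self : i.V ≤ i.upper :=
  i.le_upper_of i.V_le_Q (fun y hy q hq => by
    rw [comm_eq_one (i.V_comm_Q hq hy).symm]; exact one_mem _)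
    fun y hy => by rw [i.V_pow h hy]; exact one_mem _

theorem V_le_upper (hle : t.V ≤ i.Q) (harr : Arrow i t) : t.V ≤ i.upper :=
  i.le_upper_of hle (lemmaA h hle harr) fun y hy => by rw [t.V_pow h hy]; exact one_mem _

theorem not_V_le_center : ¬ i.V ≤ center S := by
  intro hle
  have h2 := Subgroup.card_le_of_le hle
  rw [i.card_V h] at h2
  have h3 : 1 < Fintype.card i.F := Fintype.one_lt_card
  have h4 : 0 < Nat.card (center S) := Nat.card_pos
  nlinarith

end Mem

end Cfsg.Agent.H42.PairPush
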