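import Cfsg.Agent.H42.PairPush.Torus
import Cfsg.Agent.H42.PairPush.Upper

/-!
# A nonzero Engel value over two natural layers forces `p = 3`
-/

set_option autoImplicit false
set_option linter.unusedSectionVars false
set_option maxHeartbeats 800000

namespace Cfsg.Agent.H42.PairPush

open Subgroup Cfsg.Agent Cfsg.Agent.H62 Cfsg.Agent.H60
open Cfsg.Agent.H31.PushUp (NatLayer PreLayer up up_mem up_entries eq_up up_mul map_diag_two)
open scoped Pointwise commutatorElement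

universe u

variable {p : ℕ} [Fact p.Prime] {S : Type u} [Group S] [Finite S]

namespace Mem

variable (m : Mem p S)

/-- Correct an element into the normalizer of the Sylow subgroup. -/
theorem exists_norm {K : Subgroup m.G} [K.Normal] {g : m.G}
    (hg : ∀ s ∈ (m.P : Subgroup m.G), g * s * g⁻¹ ∈ (m.P : Subgroup m.G) ⊔ K) :
    ∃ k ∈ K, k * g ∈ normalizer ((m.P : Subgroup m.G) : Set m.G) := by
  set T := (m.P : Subgroup m.G) ⊔ K with hT
  have hPT : (m.P : Subgroup m.G) ≤ T := le_sup_left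
  let P' : Sylow p m.G := g • m.P
  have hP'T : (P' : Subgroup m.G) ≤ T := by
    rw [Sylow.coe_subgroup_smul]
    rintro _ ⟨s, hs, rfl⟩
    exact hg s hs
  obtain ⟨n, hn⟩ := MulAction.exists_smul_eq T (m.P.subtype hPT) (P'.subtype hP'T)
  have h2 : ((n : m.G) • m.P : Sylow p m.G) = P' := by
    apply Sylow.subtype_injective (hP := by
      rw [Sylow.coe_subgroup_smul]
      rintro _ ⟨x, hx, rfl⟩
      exact mul_mem (mul_mem n.2 (hPT hx)) (inv_mem n.2)) (hQ := hP'T)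
    rw [← hn, Sylow.smul_subtype hPT n]
    rfl
  have h3 : ((n : m.G)⁻¹ * g) • m.P = m.P := by
    rw [mul_smul, show g • m.P = P' from rfl, ← h2, inv_smul_smul]
  obtain ⟨k, hk, s, hs, he⟩ := mem_sup_of_normal_left.mp (show (n : m.G) ∈ K ⊔ (m.P : Subgroup m.G) by
    rw [sup_comm]; exact n.2)
  refine ⟨k⁻¹, inv_mem hk, ?_⟩
  have : k⁻¹ * g = s * ((n : m.G)⁻¹ * g) := by rw [← he]; group
  rw [this]
  exact mul_mem (le_normalizer hs) (Sylow.smul_eq_iff_mem_normalizer.mp h3)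

variable {lo hi : Subgroup m.G}

/-- Elements of a normal subgroup in the maximal subgroup act by scalars. -/
theorem scalar_of_le (N : PreLayer m.R lo hi) {K : Subgroup m.G} [hn : K.Normal] (hK : K ≤ m.R.M) {c : m.G}
    (hc : c ∈ K) : N.e c = 1 ∨ N.e c = -1 := by
  have hall : ∀ x : Matrix.SpecialLinearGroup (Fin 2) m.F,
      ((x * N.e c * x⁻¹ : Matrix.SpecialLinearGroup (Fin 2) m.F) : Matrix (Fin 2) (Fin 2) m.F) 1 0 = 0 := by
    intro x
    obtain ⟨g, rfl⟩ := N.surj x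
    rw [← map_inv, ← map_mul, ← map_mul, ← N.mem_M]
    exact hK (hn.conj_mem c hc g)
  let w : Matrix.SpecialLinearGroup (Fin 2) m.F := ⟨!![0, -1; 1, 0], by simp [Matrix.det_fin_two_of]⟩
  let l : Matrix.SpecialLinearGroup (Fin 2) m.F := ⟨!![1, 0; 1, 1], by simp [Matrix.det_fin_two_of]⟩
  have h0 := hall 1
  have h1 := hall w
  have h2 := hall l
  generalize N.e c = C at h0 h1 h2 ⊢
  have hw : (w : Matrix (Fin 2) (Fin 2) m.F) 0 0 = 0 ∧ (w : Matrix (Fin 2) (Fin 2) m.F) 0 1 = -1 ∧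
      (w : Matrix (Fin 2) (Fin 2) m.F) 1 0 = 1 ∧ (w : Matrix (Fin 2) (Fin 2) m.F) 1 1 = 0 := ⟨rfl, rfl, rfl, rfl⟩
  have hl : (l : Matrix (Fin 2) (Fin 2) m.F) 0 0 = 1 ∧ (l : Matrix (Fin 2) (Fin 2) m.F) 0 1 = 0 ∧
      (l : Matrix (Fin 2) (Fin 2) m.F) 1 0 = 1 ∧ (l : Matrix (Fin 2) (Fin 2) m.F) 1 1 = 1 := ⟨rfl, rfl, rfl, rfl⟩
  obtain ⟨w0, w1, w2, w3⟩ := hw
  obtain ⟨l0, l1, l2, l3⟩ := hl
  obtain ⟨i0, i1, i2, i3⟩ := Linear.SL_inv_entries w
  obtain ⟨j0, j1, j2, j3⟩ := Linear.SL_inv_entries l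
  clear_value w l
  simp at h0
  simp [Linear.SL_mul_entries, i0, i1, i2, i3, w0, w1, w2, w3] at h1
  simp [Linear.SL_mul_entries, j0, j1, j2, j3, l0, l1, l2, l3, h0, h1] at h2
  have hd := Linear.SL_det_two C
  rw [h0, h1, mul_zero, sub_zero] at hd
  have e : (C : Matrix (Fin 2) (Fin 2) m.F) 1 1 = (C : Matrix (Fin 2) (Fin 2) m.F) 0 0 := by linear_combination -h2
  rw [e] at hd
  rcases mul_self_eq_one_iff.mp hd with h | h
  · exact Or.inl (Linear.SL_ext_two (by simp [h]) (by simp [h1]) (by simp [h0]) (by simp [e, h]))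
  · exact Or.inr (Linear.SL_ext_two (by simp [h]) (by simp [h1]) (by simp [h0]) (by simp [e, h]))

variable {m} {k : Mem p S}

/-- A nonzero Engel value forces `p = 3`. -/
theorem engel_three (h : Std p S) (hp : p ≠ 2) {Y M : Subgroup S} (nM : k.Nrm M)
    (N : NatLayer k.R (k.V.map k.τ) (M.map k.τ)) (hYn : ∀ s, ∀ y ∈ Y, s * y * s⁻¹ ∈ Y)
    (hYY : ∀ y ∈ Y, ∀ y' ∈ Y, ⁅y, y'⁆ ∈ center S) (hQM : ∀ q ∈ k.Q, ∀ w ∈ M, ⁅q, w⁆ ∈ k.Fix)
    (hline : ∀ w ∈ M, N.ψ (k.τ w) 1 = 0 → ∀ y ∈ Y, ⁅y, w⁆ ∈ center S) {a w : S} (ha : a ∈ Y) (hw : w ∈ M)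
    (hne : ⁅⁅a, w⁆, a⁆ ∉ k.Fix) : p = 3 := by
  haveI := k.R.char
  have h2 : (2 : k.F) ≠ 0 := fun e => hp (((Nat.prime_dvd_prime_iff_eq Fact.out Nat.prime_two).mp
    ((CharP.cast_eq_zero_iff k.F p 2).mp (by exact_mod_cast e))))
  let W := fun z : S => N.ψ (k.τ z)
  have hmap : ∀ {z : S}, z ∈ M → k.τ z ∈ M.map k.τ := fun hz => mem_map_of_mem _ hz
  have hMQ := nM.le_Q
  have cM : ∀ {b v : S}, v ∈ M → ⁅b, v⁆ ∈ M := fun {b v} hv => by
    rw [commutatorElement_def]; exact mul_mem (nM.conj hv b) (inv_mem hv)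
  have cY : ∀ {b v : S}, b ∈ Y → ⁅b, v⁆ ∈ Y := fun {b v} hb => by
    rw [show ⁅b, v⁆ = b * (v * b⁻¹ * v⁻¹) by simp only [commutatorElement_def]; group]
    exact mul_mem hb (hYn v _ (inv_mem hb))
  have hEZ : ∀ {b v : S}, b ∈ Y → ⁅⁅b, v⁆, b⁆ ∈ center S := fun hb => hYY _ (cY hb) _ hb
  have hcZ : ∀ {z : S}, z ∈ center S → ∀ x : S, x * z = z * x := fun hz x => mem_center_iff.mp hz x
  -- linearity
  have mul_right : ∀ {b v v' : S}, b ∈ Y → v ∈ M → v' ∈ M →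
      ⁅⁅b, v * v'⁆, b⁆ = ⁅⁅b, v⁆, b⁆ * ⁅⁅b, v'⁆, b⁆ := by
    intro b v v' hb hv hv'
    have hd : ⁅v, ⁅b, v'⁆⁆ ∈ center S := k.Fix_le_center (hQM v (hMQ hv) _ (cM hv'))
    have e : ⁅b, v * v'⁆ = ⁅b, v⁆ * ⁅b, v'⁆ * ⁅v, ⁅b, v'⁆⁆ := by
      calc ⁅b, v * v'⁆ = ⁅b, v⁆ * (⁅v, ⁅b, v'⁆⁆ * ⁅b, v'⁆) := by simp only [commutatorElement_def]; group
        _ = _ := by rw [← hcZ hd ⁅b, v'⁆]; group
    rw [e, comm_mul_left (by rw [comm_eq_one (hcZ hd b).symm, one_mul, mul_one]), comm_eq_one (hcZ hd b).symm,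
      one_mul, comm_mul_left (hcZ (hEZ hb) _)]
    exact hcZ (hEZ hb) _ |>.symm
  have right_line : ∀ {b v k₁ : S}, b ∈ Y → v ∈ M → k₁ ∈ M → W k₁ 1 = 0 →
      ⁅⁅b, v * k₁⁆, b⁆ = ⁅⁅b, v⁆, b⁆ := fun {b v k₁} hb hv hk h1 => by
    rw [mul_right hb hv hk, comm_eq_one (x := ⁅b, k₁⁆) (hcZ (hline _ hk h1 b hb) b).symm, mul_one]
  have mul_Q : ∀ {b v q : S}, v ∈ M → q ∈ k.Q →
      ∃ δ ∈ k.Fix, ⁅⁅b * q, v⁆, b * q⁆ = ⁅⁅b, v⁆, b⁆ * δ := by
    intro b v q hv hq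
    set d := ⁅b, v⁆ with hd
    have h1 : ⁅q, v⁆ ∈ k.Fix := hQM q hq v hv
    have h3 : ⁅d, q⁆ ∈ k.Fix := by rw [← commutatorElement_inv]; exact inv_mem (hQM q hq d (cM hv))
    refine ⟨⁅d, q⁆, h3, ?_⟩
    have e : ⁅b * q, v⁆ = ⁅q, v⁆ * d := comm_mul_left (k.Fix_comm h1 b)
    rw [e, comm_mul_left (by rw [← commutatorElement_inv (b * q) d]; exact (k.Fix_comm h1 _).symm),
      comm_eq_one (x := ⁅q, v⁆) (k.Fix_comm h1 (b * q)).symm, mul_one, comm_mul_right (k.Fix_comm h3 b)]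
  have sq_left : ∀ {b v : S}, b ∈ Y → v ∈ M →
      ⁅⁅b * b, v⁆, b * b⁆ = (⁅⁅b, v⁆, b⁆ * ⁅⁅b, v⁆, b⁆) * (⁅⁅b, v⁆, b⁆ * ⁅⁅b, v⁆, b⁆) := by
    intro b v hb hv
    set d := ⁅b, v⁆ with hd
    set l := ⁅d, b⁆ with hl
    have hlZ : l ∈ center S := hEZ hb
    have e1 : ⁅d, b * b⁆ = l * l := comm_mul_right (hcZ hlZ b)
    have e2 : ⁅b * b, v⁆ = l⁻¹ * (d * d) := by
      calc ⁅b * b, v⁆ = b * d * b⁻¹ * d := by rw [hd]; simp only [commutatorElement_def]; group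
        _ = _ := by rw [hl]; simp only [commutatorElement_def]; group
    rw [e2, comm_mul_left (k := b * b) (y := d * d) (x := l⁻¹) ((hcZ (inv_mem hlZ) _).symm),
      comm_eq_one (x := l⁻¹) (hcZ (inv_mem hlZ) (b * b)).symm, mul_one,
      comm_mul_left (by rw [e1]; exact hcZ (mul_mem hlZ hlZ) d), e1]
  -- transfer
  set x := ⁅⁅a, w⁆, a⁆ with hx
  have hxZ : x ∈ center S := hEZ ha
  have hxV : x ∈ k.V := k.center_le_V hxZ
  have hx1 : k.ψ h x 1 = 0 := (k.ψ_one_iff h hxV).mpr hxZ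
  have hconjE : ∀ {g : k.G} {a' w' x' : S}, k.τ a' = g * k.τ a * g⁻¹ → k.τ w' = g * k.τ w * g⁻¹ →
      k.τ x' = g * k.τ x * g⁻¹ → x' = ⁅⁅a', w'⁆, a'⁆ := by
    intro g a' w' x' e1 e2 e3
    refine k.inj ?_
    rw [e3, hx, map_commutatorElement, map_commutatorElement, map_commutatorElement, map_commutatorElement,
      e1, e2, conj_comm, conj_comm]
  have hconjM : ∀ g : k.G, ∀ {v : S}, v ∈ M → ∃ v' ∈ M, k.τ v' = g * k.τ v * g⁻¹ := fun g {v} hv => by
    obtain ⟨v', hv', e⟩ := k.exists_conj hMQ g hv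
    exact ⟨v', (nM.cjS_eq g).le hv', e⟩
  have hWmul : ∀ {v v' : S}, v ∈ M → v' ∈ M → W (v * v') = W v + W v' := fun hv hv' => by
    show N.ψ _ = _
    rw [map_mul]; exact N.ψ_mul _ (hmap hv) _ (hmap hv')
  have hWinv : ∀ {v : S}, v ∈ M → W v⁻¹ = -W v := fun hv => by
    show N.ψ _ = _
    rw [map_inv]; exact N.ψ_inv (hmap hv)
  have hV2 : ∀ {z : S}, z ∈ k.V → k.ψ h z⁻¹ = -k.ψ h z := fun hz => by
    rw [ψ, map_inv, (k.lay h).ψ_inv (mem_map_of_mem _ hz)]; rfl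
  -- equality of the kernels
  have sign : ∀ c ∈ normalizer ((k.P : Subgroup k.G) : Set k.G),
      ¬ ((k.lay h).e c = 1 ∧ N.e c = -1) ∧ ¬ ((k.lay h).e c = -1 ∧ N.e c = 1) := by
    intro c hcN
    obtain ⟨a', ha'⟩ := k.exists_conj_norm hcN a
    obtain ⟨w', hw', hew'⟩ := hconjM c hw
    obtain ⟨x', -, hex'⟩ := k.exists_conj k.V_le_Q c hxV
    have hE := hconjE ha' hew' hex'
    set q := a⁻¹ * a' with hq
    have hQ : ((k.lay h).e c = 1 ∨ (k.lay h).e c = -1) → q ∈ k.Q := fun hcen => by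
      rw [← k.e_eq_one h, hq, map_mul, map_inv, ha', map_mul, map_inv, map_mul, map_mul, map_inv, inv_mul_eq_one]
      rcases hcen with e | e <;> rw [e]
      · simp
      · rw [inv_eq_of_mul_eq_one_right (show (-1 : Matrix.SpecialLinearGroup (Fin 2) k.F) * -1 = 1 by
          rw [neg_mul_neg, one_mul]), neg_one_mul, mul_neg_one, neg_neg]
    have hψ : k.ψ h x' = ((k.lay h).e c : Matrix (Fin 2) (Fin 2) k.F).mulVec (k.ψ h x) := by
      rw [ψ, hex']; exact (k.lay h).equiv c _ (mem_map_of_mem _ hxV)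
    have hWw : W w' = (N.e c : Matrix (Fin 2) (Fin 2) k.F).mulVec (W w) := by
      show N.ψ _ = _
      rw [hew']; exact N.equiv c _ (hmap hw)
    have ha'' : a' = a * q := by rw [hq, mul_inv_cancel_left]
    have hzero : k.ψ h x + k.ψ h x = 0 → False := fun h0 => by
      refine hne ((k.ψ_zero_iff h hxV).mp (funext fun i => ?_))
      have := congrFun h0 i
      exact (mul_eq_zero.mp (show (2 : k.F) * k.ψ h x i = 0 by
        simp only [Pi.add_apply, Pi.zero_apply] at this; linear_combination this)).resolve_left h2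
    constructor <;> rintro ⟨hcV, hcW⟩
    · set k₁ := w * w' with hk₁
      have hk₁M : k₁ ∈ M := mul_mem hw hw'
      obtain ⟨δ, hδ, hd⟩ := mul_Q (b := a) hw' (hQ (Or.inl hcV))
      have hy : ⁅⁅a, w'⁆, a⁆ = x⁻¹ := by
        have e1 := right_line ha (inv_mem hw) hk₁M (by
          rw [hk₁, hWmul hw hw', hWw, hcW]; simp [Matrix.neg_mulVec])
        rw [hk₁, inv_mul_cancel_left] at e1
        have e0 := mul_right ha hw (inv_mem hw)
        rw [mul_inv_cancel, commutatorElement_one_right, commutatorElement_one_left] at e0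
        rw [e1, eq_inv_iff_mul_eq_one, hcZ hxZ]
        exact e0.symm
      rw [← ha'', ← hE, hy] at hd
      have hδV := k.Fix_le_V hδ
      have h0 := hψ
      rw [hd, k.ψ_mul h (inv_mem hxV) hδV, (k.ψ_zero_iff h hδV).mpr hδ, add_zero, hV2 hxV, hcV] at h0
      simp at h0
      exact hzero (by rw [add_eq_zero_iff_eq_neg]; exact h0.symm)
    · set k₁ := w⁻¹ * w' with hk₁
      have hk₁M : k₁ ∈ M := mul_mem (inv_mem hw) hw'
      obtain ⟨δ, hδ, hd⟩ := mul_Q (b := a) hw' (hQ (Or.inr hcV))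
      have hy : ⁅⁅a, w'⁆, a⁆ = x := by
        have e1 := right_line ha hw hk₁M (by
          rw [hk₁, hWmul (inv_mem hw) hw', hWw, hWinv hw, hcW]; simp)
        rwa [hk₁, mul_inv_cancel_left] at e1
      rw [← ha'', ← hE, hy] at hd
      have hδV := k.Fix_le_V hδ
      have h0 := hψ
      rw [hd, k.ψ_mul h hxV hδV, (k.ψ_zero_iff h hδV).mpr hδ, add_zero, hcV] at h0
      simp [Matrix.neg_mulVec] at h0
      exact hzero (by rw [add_eq_zero_iff_eq_neg]; exact h0)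
  have hker : N.e.ker = (k.lay h).e.ker := by
    set K := N.e.ker ⊓ (k.lay h).e.ker
    have hfix : ∀ {c : k.G}, ((k.lay h).e c = 1 ∨ (k.lay h).e c = -1) → (N.e c = 1 ∨ N.e c = -1) →
        ∃ c' ∈ normalizer ((k.P : Subgroup k.G) : Set k.G), (k.lay h).e c' = (k.lay h).e c ∧ N.e c' = N.e c := by
      intro c hV hW
      have hsc : ∀ (z u : Matrix.SpecialLinearGroup (Fin 2) k.F), (z = 1 ∨ z = -1) → z * u * z⁻¹ = u := by
        rintro z u (rfl | rfl)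
        · simp
        · rw [inv_eq_of_mul_eq_one_right (show (-1 : Matrix.SpecialLinearGroup (Fin 2) k.F) * -1 = 1 by
            rw [neg_mul_neg, one_mul]), neg_one_mul, mul_neg_one, neg_neg]
      obtain ⟨n, hn, hN⟩ := k.exists_norm (K := K) (g := c) fun s hs => by
        have e : c * s * c⁻¹ * s⁻¹ ∈ K := by
          refine ⟨MonoidHom.mem_ker.mpr ?_, MonoidHom.mem_ker.mpr ?_⟩
          · rw [map_mul, map_mul, map_mul, map_inv, map_inv, hsc _ _ hW, mul_inv_cancel]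
          · rw [map_mul, map_mul, map_mul, map_inv, map_inv, hsc _ _ hV, mul_inv_cancel]
        have := Subgroup.mul_mem _ (mem_sup_right (S := (k.P : Subgroup k.G)) e) (mem_sup_left hs)
        rwa [inv_mul_cancel_right] at this
      exact ⟨n * c, hN, by rw [map_mul, MonoidHom.mem_ker.mp hn.2, one_mul],
        by rw [map_mul, MonoidHom.mem_ker.mp hn.1, one_mul]⟩
    refine le_antisymm (fun c hc => ?_) (fun c hc => ?_)
    · refine MonoidHom.mem_ker.mpr (((k.lay h).toPreLayer |> fun L =>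
        k.scalar_of_le L (K := N.e.ker) N.ker_le hc).resolve_right fun e => ?_)
      obtain ⟨c', hc', e1, e2⟩ := hfix (Or.inr e) (Or.inl hc)
      exact (sign c' hc').2 ⟨e1.trans e, e2.trans hc⟩
    · refine MonoidHom.mem_ker.mpr ((k.scalar_of_le N.toPreLayer (K := (k.lay h).e.ker) (k.lay h).ker_le hc).resolve_right
        fun e => ?_)
      obtain ⟨c', hc', e1, e2⟩ := hfix (Or.inl hc) (Or.inr e)
      exact (sign c' hc').1 ⟨e1.trans hc, e2.trans e⟩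
  -- an element of the torus
  obtain ⟨kk, hk⟩ : ∃ kk : ℕ, (2 : k.F) * kk = 1 := by
    obtain ⟨n, hn⟩ := (Fact.out : p.Prime).odd_of_ne_two hp
    refine ⟨n + 1, ?_⟩
    have h0 : ((2 * n + 1 : ℕ) : k.F) = 0 := by rw [← hn]; exact CharP.cast_eq_zero k.F p
    push_cast at h0 ⊢
    linear_combination h0
  let dg : Matrix.SpecialLinearGroup (Fin 2) k.F := ⟨!![2, 0; 0, (kk : k.F)], by simp [Matrix.det_fin_two_of, hk]⟩
  have hdg : (dg : Matrix (Fin 2) (Fin 2) k.F) 0 0 = 2 ∧ (dg : Matrix (Fin 2) (Fin 2) k.F) 0 1 = 0 ∧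
      (dg : Matrix (Fin 2) (Fin 2) k.F) 1 0 = 0 ∧ (dg : Matrix (Fin 2) (Fin 2) k.F) 1 1 = kk := ⟨rfl, rfl, rfl, rfl⟩
  obtain ⟨hd0, hd1, hd2, hd3⟩ := hdg
  obtain ⟨g0, hg0⟩ := N.surj dg
  clear_value dg
  obtain ⟨n, hn, hgN⟩ := k.exists_norm (K := N.e.ker) (g := g0) fun s hs => by
    have hu : N.e (g0 * s * g0⁻¹) ∈ Linear.unitriSL 2 k.F := by
      obtain ⟨u1, u2, u3⟩ := Linear.unitriSL_two_eq.mp (N.mem_unitri s hs)
      obtain ⟨i0, i1, i2, i3⟩ := Linear.SL_inv_entries dg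
      rw [map_mul, map_mul, map_inv, hg0]
      refine Linear.unitriSL_two_eq.mpr ⟨?_, ?_, ?_⟩ <;>
        simp [Linear.SL_mul_entries, hd0, hd1, hd2, hd3, i0, i1, i2, i3, u1, u2, u3] <;>
        linear_combination hk
    obtain ⟨s', hs', he⟩ := N.surj_S _ hu
    have hmem : g0 * s * g0⁻¹ * s'⁻¹ ∈ N.e.ker := MonoidHom.mem_ker.mpr (by rw [map_mul, map_inv, he, mul_inv_cancel])
    have := Subgroup.mul_mem _ (mem_sup_right (S := (k.P : Subgroup k.G)) hmem) (mem_sup_left hs')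
    rwa [inv_mul_cancel_right] at this
  set g := n * g0 with hg'
  have hg : N.e g = dg := by rw [hg', map_mul, MonoidHom.mem_ker.mp hn, one_mul, hg0]
  clear_value g
  let φ : Matrix.SpecialLinearGroup (Fin 2) k.F →* Matrix.SpecialLinearGroup (Fin 2) k.F :=
    ((QuotientGroup.quotientKerEquivOfSurjective N.e N.surj).symm.trans
      ((QuotientGroup.quotientMulEquivOfEq hker).trans
        (QuotientGroup.quotientKerEquivOfSurjective (k.lay h).e (k.lay h).surj))).toMonoidHom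
  have hφ : ∀ z, φ (N.e z) = (k.lay h).e z := fun z => by
    have e : (QuotientGroup.quotientKerEquivOfSurjective N.e N.surj).symm (N.e z) = QuotientGroup.mk z :=
      (MulEquiv.symm_apply_eq _).mpr rfl
    show (QuotientGroup.quotientKerEquivOfSurjective (k.lay h).e (k.lay h).surj)
      ((QuotientGroup.quotientMulEquivOfEq hker)
        ((QuotientGroup.quotientKerEquivOfSurjective N.e N.surj).symm (N.e z))) = _
    rw [e]; rfl
  have hV00 : ((k.lay h).e g : Matrix (Fin 2) (Fin 2) k.F) 0 0 = 2 := by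
    rw [← hφ g, hg]
    refine map_diag_two (f := φ) (MulEquiv.injective _) (fun u hu => ?_) h2 hk hd0 hd2 hd1
    obtain ⟨s, hs, rfl⟩ := N.surj_S u hu
    rw [hφ]; exact (k.lay h).mem_unitri s hs
  -- the conjugates
  obtain ⟨a', hea⟩ := k.exists_conj_norm hgN a
  obtain ⟨w', hw', hew⟩ := hconjM g hw
  obtain ⟨x', -, hex⟩ := k.exists_conj k.V_le_Q g hxV
  have hE := hconjE hea hew hex
  set k₁ := (w' * w')⁻¹ * w with hk₁
  have hk₁M : k₁ ∈ M := mul_mem (inv_mem (mul_mem hw' hw')) hw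
  have hk₁0 : W k₁ 1 = 0 := by
    have h1 : W w' 1 = (kk : k.F) * W w 1 := by
      show N.ψ _ 1 = _
      rw [hew, N.equiv g _ (hmap hw), hg]
      simp [Matrix.mulVec, dotProduct, Fin.sum_univ_two, hd2, hd3, W]
    rw [hk₁, hWmul (inv_mem (mul_mem hw' hw')) hw, hWinv (mul_mem hw' hw'), hWmul hw' hw']
    simp only [Pi.add_apply, Pi.neg_apply, h1]
    linear_combination -(W w 1) * hk
  set q := (a * a * (a * a))⁻¹ * a' with hq
  have hqQ : q ∈ k.Q := by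
    refine (N.ker_S _ (k.τ_mem q)).mp ?_
    rw [hq, map_mul, map_inv, hea]
    simp only [map_mul, map_inv]
    rw [hg, eq_up (N.mem_unitri _ (k.τ_mem a)), up_mul, up_mul, inv_mul_eq_one]
    set y := (N.e (k.τ a) : Matrix (Fin 2) (Fin 2) k.F) 0 1
    obtain ⟨u0, u1, u2, u3⟩ := up_entries y
    obtain ⟨v0, v1, v2, v3⟩ := up_entries (y + y + (y + y))
    obtain ⟨i0, i1, i2, i3⟩ := Linear.SL_inv_entries dg
    refine Linear.SL_ext_two ?_ ?_ ?_ ?_ <;>
      simp [Linear.SL_mul_entries, u0, u1, u2, u3, v0, v1, v2, v3, i0, i1, i2, i3, hd0, hd1, hd2, hd3] <;>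
      first
        | linear_combination hk
        | linear_combination -hk
        | linear_combination (4 * y) * hk
        | linear_combination -(4 * y) * hk
        | ring1
  have e1 : x = ⁅⁅a, w'⁆, a⁆ * ⁅⁅a, w'⁆, a⁆ := by
    rw [hx, show w = w' * w' * k₁ by rw [hk₁]; group, right_line ha (mul_mem hw' hw') hk₁M hk₁0,
      mul_right ha hw' hw']
  obtain ⟨δ, hδ, e2⟩ := mul_Q (b := a * a * (a * a)) hw' hqQ
  rw [show a * a * (a * a) * q = a' by rw [hq]; group, ← hE, sq_left (mul_mem ha ha) hw',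
    sq_left ha hw'] at e2
  set y := ⁅⁅a, w'⁆, a⁆
  have hyV : y ∈ k.V := k.center_le_V (hEZ ha)
  have h1 : k.ψ h _ 0 = k.ψ h _ 0 := congrArg (fun z => k.ψ h z 0) e2
  have hy2 := mul_mem hyV hyV
  have hy4 := mul_mem hy2 hy2
  have hy8 := mul_mem hy4 hy4
  have hδV := k.Fix_le_V hδ
  rw [k.ψ_mul h (mul_mem hy8 hy8) hδV, (k.ψ_zero_iff h hδV).mpr hδ, add_zero, k.ψ_mul h hy8 hy8,
    k.ψ_mul h hy4 hy4, k.ψ_mul h hy2 hy2, k.ψ_mul h hyV hyV] at h1
  have hxp : k.ψ h x' 0 = 2 * k.ψ h x 0 := by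
    have e := congrFun ((k.lay h).equiv g _ (mem_map_of_mem k.τ hxV)) 0
    rw [← hex] at e
    simp [Matrix.mulVec, dotProduct, Fin.sum_univ_two, hV00, show (k.lay h).ψ (k.τ x) 1 = 0 from hx1] at e
    exact e
  rw [hxp, e1, k.ψ_mul h hyV hyV] at h1
  simp only [Pi.add_apply] at h1
  have hy0 : k.ψ h y 0 ≠ 0 := fun h0 => hne ((k.ψ_zero_iff h hxV).mp (funext (Fin.forall_fin_two.mpr
    ⟨by rw [e1, k.ψ_mul h hyV hyV, Pi.add_apply, h0, add_zero]; rfl, hx1⟩)))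
  have h3 : ((12 : ℕ) : k.F) = 0 := by
    have : ((12 : ℕ) : k.F) * k.ψ h y 0 = 0 := by push_cast; linear_combination -h1
    exact (mul_eq_zero.mp this).resolve_right hy0
  have hdvd : p ∣ 2 * (2 * 3) := (CharP.cast_eq_zero_iff k.F p 12).mp h3
  have hpp : p.Prime := Fact.out
  rcases hpp.dvd_mul.mp hdvd with h' | h'
  · exact absurd ((Nat.prime_dvd_prime_iff_eq hpp Nat.prime_two).mp h') hp
  rcases hpp.dvd_mul.mp h' with h' | h'
  · exact absurd ((Nat.prime_dvd_prime_iff_eq hpp Nat.prime_two).mp h') hp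
  exact (Nat.prime_dvd_prime_iff_eq hpp Nat.prime_three).mp h'

end Mem

end Cfsg.Agent.H42.PairPush
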