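import Cfsg.Agent.H42.PairPush.Member

/-!
# The centre of the core of a member
-/

set_option autoImplicit false
set_option linter.unusedSectionVars false

namespace Cfsg.Agent.H42.PairPush

open Subgroup Cfsg.Agent Cfsg.Agent.H62 Cfsg.Agent.H60
open Cfsg.Agent.H31.PushUp (NatLayer Vm omegaZ)
open Cfsg.Agent.Cores
open scoped Pointwise commutatorElement

universe u

variable {p : ℕ} [Fact p.Prime] {S : Type u} [Group S] [Finite S]

namespace Mem

variable (m : Mem p S) (h : Std p S)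

theorem card_S : Nat.card S = Nat.card m.Q * Fintype.card m.F := by
  have := m.R.card_sylow
  rw [← m.map_Q, card_map_of_injective m.inj,
    show Nat.card m.P = Nat.card ((m.P : Subgroup m.G)) from rfl, ← m.map_top,
    card_map_of_injective m.inj, card_top] at this
  exact this

theorem not_top_le : ¬ (⊤ : Subgroup S) ≤ m.Q := fun e => by
  have h1 := m.card_S
  rw [top_le_iff.mp e, card_top] at h1
  have h2 : 1 < Fintype.card m.F := Fintype.one_lt_card
  have h3 : 0 < Nat.card S := Nat.card_pos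
  nlinarith

theorem V_le_Q : m.V ≤ m.Q := fun x hx => by
  refine m.cent ?_
  rw [← m.map_Q]
  rintro _ ⟨q, hq, rfl⟩
  rw [← map_mul, ← map_mul, hx q hq]

theorem center_le_V : center S ≤ m.V := center_le_cc _

theorem V_comm_Q {q v : S} (hq : q ∈ m.Q) (hv : v ∈ m.V) : q * v = v * q := hv q hq

theorem V_comm {v w : S} (hv : v ∈ m.V) (hw : w ∈ m.V) : v * w = w * v := m.V_comm_Q (m.V_le_Q hv) hw

theorem nrm_V : m.Nrm m.V := by
  have := m.nrm_inf_cc m.nrm_Q
  rwa [show m.Q ⊓ cc m.Q = m.V from inf_eq_right.mpr m.V_le_Q] at this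

include h

theorem exists_A : ∃ A ∈ maxAbelianSubgroups S, ¬ A ≤ m.Q := by
  by_contra hno
  push Not at hno
  exact m.not_top_le (h.J ▸ sSup_le hno)

theorem structure_V : m.V.map m.τ = Vm p m.G ∧ Nonempty (NatLayer m.R ⊥ (Vm p m.G)) ∧
    (∀ A ∈ maxAbelianSubgroups S, ¬ A ≤ m.Q → A ⊔ m.Q = ⊤) ∧ IsCentralizerLarge m.Q ∧
    Nat.card m.V = Fintype.card m.F * Nat.card (center S) := by
  classical
  have hVoV : Vm p m.G ≤ m.V.map m.τ := by
    intro v hv
    obtain ⟨s, rfl⟩ := m.pCore_le_range (H31.PushUp.omegaZ_le _ hv)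
    refine mem_map_of_mem _ fun q hq => m.inj ?_
    rw [map_mul, map_mul]
    exact H31.PushUp.omegaZ_comm hv hq
  have hmov : ∃ w ∈ Vm p m.G, (∀ s ∈ (m.P : Subgroup m.G), ⁅s, w⁆ ∈ (⊥ : Subgroup m.G)) ∧
      ∃ g : m.G, ⁅g, w⁆ ∉ (⊥ : Subgroup m.G) := by
    obtain ⟨z, hz, g, hg⟩ : ∃ z ∈ center S, ∃ g, ⁅g, m.τ z⁆ ≠ 1 := by
      by_contra hno
      push Not at hno
      refine m.moved ⟨?_⟩
      rintro _ ⟨z, hz, rfl⟩ g
      rw [commutatorElement_eq_one_iff_mul_comm.mp (hno z hz g), mul_inv_cancel_right]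
      exact mem_map_of_mem _ hz
    refine ⟨m.τ z, H31.PushUp.mem_omegaZ (m.V_le_Q (m.center_le_V hz)) (fun x hx => ?_) ?_,
      fun s hs => mem_bot.mpr ?_, g, fun e => hg (mem_bot.mp e)⟩
    · obtain ⟨q, rfl⟩ := m.pCore_le_range hx
      rw [← map_mul, ← map_mul, mem_center_iff.mp hz q]
    · rw [← map_pow, h.elemZ.2 z hz, map_one]
    · obtain ⟨s, rfl⟩ := m.exists_pre hs
      rw [← map_commutatorElement, commutatorElement_eq_one_iff_mul_comm.mpr (mem_center_iff.mp hz s), map_one]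
  have key : ∀ A ∈ maxAbelianSubgroups S, ¬ A ≤ m.Q → Nonempty (NatLayer m.R ⊥ (Vm p m.G)) ∧
      A.map m.τ ⊔ Cfsg.pCore p m.G = m.P := by
    intro A hA hAQ
    have hcom : ∀ a ∈ A, ∀ b ∈ A, a * b = b * a := fun a ha b hb =>
      congrArg Subtype.val (hA.1.is_comm.comm (⟨a, ha⟩ : A) ⟨b, hb⟩)
    have hAc : A.map m.τ ≤ m.P := by rw [← m.map_top]; exact map_mono le_top
    have hAQ' : ¬ A.map m.τ ≤ Cfsg.pCore p m.G := fun e => hAQ fun x hx => e (mem_map_of_mem _ hx)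
    refine (H31.PushUp.exists_natLayer m.R ⊥ (Vm p m.G) bot_le (fun a ha b hb => ?_) (fun a ha => ?_)
      (fun x hx v hv => ?_) (A.map m.τ) hAc hAQ' ?_ ?_
      (Vm p m.G ⊓ centralizer ((A.map m.τ : Subgroup m.G) : Set m.G)) bot_le inf_le_left
      (fun a ha d hd => ?_) ?_ hmov).imp_right And.left
    · exact mem_bot.mpr (commutatorElement_eq_one_iff_mul_comm.mpr
        (H31.elem_comm (H31.elem_omegaOne_center p _) ha hb))
    · exact mem_bot.mpr (H31.PushUp.omegaZ_pow ha)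
    · exact mem_bot.mpr (commutatorElement_eq_one_iff_mul_comm.mpr (H31.PushUp.omegaZ_comm hv hx))
    · rintro _ ⟨a, ha, rfl⟩ _ ⟨b, hb, rfl⟩
      rw [← map_commutatorElement, commutatorElement_eq_one_iff_mul_comm.mpr (hcom a ha b hb), map_one]
      exact one_mem _
    · rintro _ ⟨a, -, rfl⟩
      refine m.R.inf_ker_le (mem_inf.mpr ⟨(m.P : Subgroup m.G).pow_mem (m.τ_mem a) p, ?_⟩)
      haveI := m.R.char
      obtain ⟨c, hin, -, -⟩ := m.R.exists_frame
      obtain ⟨u, hu, he⟩ := hin _ (m.τ_mem a)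
      rw [MonoidHom.mem_ker, map_pow, he, ← map_pow, conj_pow]
      have hup : u ^ p = 1 := by
        obtain ⟨a1, a2, a3⟩ := Linear.unitriSL_two_eq.mp hu
        have hn : ∀ n : ℕ, ((u ^ n : Matrix.SpecialLinearGroup (Fin 2) m.F) : Matrix (Fin 2) (Fin 2) m.F) 0 1 =
            (n : m.F) * (u : Matrix (Fin 2) (Fin 2) m.F) 0 1 ∧ u ^ n ∈ Linear.unitriSL 2 m.F := fun n => by
          induction n with
          | zero => simp
          | succ n ih =>
            refine ⟨?_, pow_mem hu _⟩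
            rw [pow_succ, ← H31.PushUp.unitri_pow _ ih.2 _ hu, ih.1, Nat.cast_succ, add_mul, one_mul]
        obtain ⟨b1, b2, b3⟩ := Linear.unitriSL_two_eq.mp (hn p).2
        exact Linear.SL_ext_two (by simp [b2]) (by simp [(hn p).1]) (by simp [b1]) (by simp [b3])
      rw [hup, mul_one, mul_inv_cancel, map_one]
    · exact mem_bot.mpr (commutatorElement_eq_one_iff_mul_comm.mpr (mem_centralizer_iff.mp hd.2 a ha))
    · set Vo' := (Vm p m.G).comap m.τ with hVo'
      have hm : Vo'.map m.τ = Vm p m.G :=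
        map_comap_eq_self ((H31.PushUp.omegaZ_le _).trans m.pCore_le_range)
      have hVo : Vo' ≤ m.V := fun x hx => m.mem_map.mp (hVoV hx)
      set B := A ⊓ m.Q with hB
      have hab : IsMulCommutative (Vo' ⊔ B : Subgroup S) := by
        refine isMulCommutative_of_le_cc (sup_le ?_ ?_) <;> rw [cc_sup] <;> refine le_inf ?_ ?_
        · exact fun v hv w hw => m.V_comm (hVo hw) (hVo hv)
        · exact fun v hv b hb => m.V_comm_Q hb.2 (hVo hv)
        · exact fun b hb v hv => (m.V_comm_Q hb.2 (hVo hv)).symm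
        · exact fun b hb b' hb' => hcom b' hb'.1 b hb.1
      have h1 := hA.2 _ hab
      have h2 : Nat.card Vo' * Nat.card B ≤ Nat.card ↥(Vo' ⊔ B) * Nat.card ↥(Vo' ⊓ B) := by
        rw [← card_prod_mul_card_inf]
        exact Nat.mul_le_mul_right _ (card_prod_le_sup _ _)
      have h3 : Nat.card ↥(Vo' ⊓ B) ≤
          Nat.card ↥(Vm p m.G ⊓ centralizer ((A.map m.τ : Subgroup m.G) : Set m.G)) := by
        rw [← card_map_of_injective m.inj]
        refine Subgroup.card_le_of_le ?_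
        rintro _ ⟨v, hv, rfl⟩
        refine ⟨hv.1, mem_centralizer_iff.mpr ?_⟩
        rintro _ ⟨a, ha, rfl⟩
        rw [← map_mul, ← map_mul, hcom a ha v hv.2.1]
      rw [card_map_of_injective m.inj, ← hm, card_map_of_injective m.inj, hm, ← m.map_Q,
        ← Subgroup.map_inf _ _ _ m.inj, card_map_of_injective m.inj]
      exact h2.trans (Nat.mul_le_mul h1 h3)
  obtain ⟨A, hA, hAQ⟩ := m.exists_A h
  obtain ⟨⟨N⟩, -⟩ := key A hA hAQ
  have hline : N.line = (center S).map m.τ := by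
    refine le_antisymm (fun v hv => ?_) ?_
    · obtain ⟨hv, h0⟩ := hv
      obtain ⟨s, rfl⟩ := m.pCore_le_range (H31.PushUp.omegaZ_le _ hv)
      refine mem_map_of_mem _ (mem_center_iff.mpr fun x => m.inj ?_)
      rw [map_mul, map_mul]
      exact commutatorElement_eq_one_iff_mul_comm.mp (mem_bot.mp (N.fix_S _ (m.τ_mem x) _ hv h0))
    · rintro _ ⟨z, hz, rfl⟩
      obtain ⟨x, hx, hxQ⟩ := SetLike.not_le_iff_exists.mp hAQ
      have hzV : m.τ z ∈ Vm p m.G := by
        refine H31.PushUp.mem_omegaZ (m.V_le_Q (m.center_le_V hz)) (fun y hy => ?_)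
          (by rw [← map_pow, h.elemZ.2 z hz, map_one])
        obtain ⟨q, rfl⟩ := m.pCore_le_range hy
        rw [← map_mul, ← map_mul, mem_center_iff.mp hz q]
      exact ⟨hzV, N.line_of_fixed (m.τ_mem x) hxQ hzV (mem_bot.mpr
        (commutatorElement_eq_one_iff_mul_comm.mpr (by rw [← map_mul, ← map_mul, mem_center_iff.mp hz x])))⟩
  have hcard := N.card_line
  rw [hline, card_map_of_injective m.inj] at hcard
  have hmeas := meas_le m.Q
  rw [meas, show cc m.Q = m.V from rfl, h.max_eq, m.card_S] at hmeas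
  have hV1 : Nat.card m.V ≤ Fintype.card m.F * Nat.card (center S) :=
    Nat.le_of_mul_le_mul_left (hmeas.trans (le_of_eq (by ring))) (Nat.card_pos (α := m.Q))
  have hV2 : Nat.card (Vm p m.G) ≤ Nat.card m.V := by
    rw [← card_map_of_injective (K := m.V) m.inj]; exact Subgroup.card_le_of_le hVoV
  have hVeq : m.V.map m.τ = Vm p m.G :=
    (eq_of_le_of_card_ge hVoV (by rw [card_map_of_injective m.inj, hcard]; exact hV1)).symm
  have hVc : Nat.card m.V = Fintype.card m.F * Nat.card (center S) := le_antisymm hV1 (hcard ▸ hV2)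
  refine ⟨hVeq, ⟨N⟩, fun A hA hAQ => map_injective m.inj ?_, large_of_le ?_, hVc⟩
  · rw [Subgroup.map_sup, m.map_Q, (key A hA hAQ).2, m.map_top]
  · rw [h.max_eq, meas, show cc m.Q = m.V from rfl, hVc, m.card_S, mul_assoc]

theorem exists_lay : Nonempty (NatLayer m.R ⊥ (m.V.map m.τ)) := by
  rw [(m.structure_V h).1]
  exact (m.structure_V h).2.1

theorem sup_Q {A : Subgroup S} (hA : A ∈ maxAbelianSubgroups S) (hAQ : ¬ A ≤ m.Q) : A ⊔ m.Q = ⊤ :=
  (m.structure_V h).2.2.1 A hA hAQ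

theorem large_Q : IsCentralizerLarge m.Q := (m.structure_V h).2.2.2.1

theorem large_V : IsCentralizerLarge m.V := large_cc' (m.large_Q h)

theorem cc_V : cc m.V = m.Q := cc_cc (m.large_Q h)

theorem card_V : Nat.card m.V = Fintype.card m.F * Nat.card (center S) := (m.structure_V h).2.2.2.2

theorem V_pow {v : S} (hv : v ∈ m.V) : v ^ p = 1 := by
  refine m.inj ?_
  rw [map_pow, map_one]
  exact H31.PushUp.omegaZ_pow ((m.structure_V h).1 ▸ mem_map_of_mem m.τ hv)

/-- The natural module. -/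
noncomputable def lay : NatLayer m.R ⊥ (m.V.map m.τ) := (m.exists_lay h).some

/-- The coordinates. -/
noncomputable def ψ (v : S) : Fin 2 → m.F := (m.lay h).ψ (m.τ v)

theorem ψ_mul {v w : S} (hv : v ∈ m.V) (hw : w ∈ m.V) : m.ψ h (v * w) = m.ψ h v + m.ψ h w := by
  rw [ψ, map_mul]
  exact (m.lay h).ψ_mul _ (mem_map_of_mem _ hv) _ (mem_map_of_mem _ hw)

theorem fixed_Z {x v : S} (hx : x ∉ m.Q) (hv : v ∈ m.V) (hc : x * v = v * x) : v ∈ center S := by
  have h0 := (m.lay h).line_of_fixed (m.τ_mem x) hx (mem_map_of_mem _ hv) (mem_bot.mpr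
    (commutatorElement_eq_one_iff_mul_comm.mpr (by rw [← map_mul, ← map_mul, hc])))
  refine mem_center_iff.mpr fun y => m.inj ?_
  rw [map_mul, map_mul]
  exact commutatorElement_eq_one_iff_mul_comm.mp (mem_bot.mp
    ((m.lay h).fix_S _ (m.τ_mem y) _ (mem_map_of_mem _ hv) h0))

theorem ψ_one_iff {v : S} (hv : v ∈ m.V) : m.ψ h v 1 = 0 ↔ v ∈ center S := by
  constructor
  · intro h0
    refine mem_center_iff.mpr fun y => m.inj ?_
    rw [map_mul, map_mul]
    exact commutatorElement_eq_one_iff_mul_comm.mp (mem_bot.mp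
      ((m.lay h).fix_S _ (m.τ_mem y) _ (mem_map_of_mem _ hv) h0))
  · intro hz
    obtain ⟨A, hA, hAQ⟩ := m.exists_A h
    obtain ⟨x, -, hxQ⟩ := SetLike.not_le_iff_exists.mp hAQ
    exact (m.lay h).line_of_fixed (m.τ_mem x) hxQ (mem_map_of_mem _ hv) (mem_bot.mpr
      (commutatorElement_eq_one_iff_mul_comm.mpr (by rw [← map_mul, ← map_mul, mem_center_iff.mp hz x])))

theorem ψ_zero_iff {v : S} (hv : v ∈ m.V) : m.ψ h v = 0 ↔ v ∈ m.Fix := by
  rw [ψ, (m.lay h).ψ_zero _ (mem_map_of_mem _ hv)]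
  show _ ↔ m.τ v ∈ center m.G
  rw [mem_center_iff]
  exact forall_congr' fun g => mem_bot.trans commutatorElement_eq_one_iff_mul_comm

theorem comm_Z {v : S} (hv : v ∈ m.V) (x : S) : ⁅x, v⁆ ∈ center S := by
  have hm : ⁅x, v⁆ ∈ m.V := by
    rw [commutatorElement_def]; exact mul_mem (m.nrm_V.conj hv x) (inv_mem hv)
  rw [← m.ψ_one_iff h hm, ψ, map_commutatorElement]
  exact (m.lay h).comm_line (m.τ_mem x) (mem_map_of_mem _ hv)

theorem comm_fix {x v : S} (hx : x ∉ m.Q) (hv : v ∈ m.V) (hc : ⁅x, v⁆ ∈ m.Fix) : v ∈ center S := by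
  have hm : ⁅x, v⁆ ∈ m.V := by
    rw [commutatorElement_def]; exact mul_mem (m.nrm_V.conj hv x) (inv_mem hv)
  rw [← m.ψ_one_iff h hv]
  have h1 := congrFun ((m.ψ_zero_iff h hm).mpr hc) 0
  rw [ψ, map_commutatorElement, (m.lay h).ψ_comm _ (mem_map_of_mem _ hv), Pi.sub_apply,
    (H31.PushUp.PreLayer.unitri_mulVec ((m.lay h).mem_unitri _ (m.τ_mem x)) _).1, add_sub_cancel_left,
    Pi.zero_apply] at h1
  exact (mul_eq_zero.mp h1).resolve_left (H31.PushUp.PreLayer.unitri_ne_zero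
    ((m.lay h).mem_unitri _ (m.τ_mem x)) fun e => hx (((m.lay h).ker_S _ (m.τ_mem x)).mp e))

omit h in
theorem Fix_le_center : m.Fix ≤ center S := fun v hv => mem_center_iff.mpr fun x => m.inj (by
  rw [map_mul, map_mul, mem_center_iff.mp hv])

omit h in
theorem Fix_le_V : m.Fix ≤ m.V := m.Fix_le_center.trans m.center_le_V

omit h in
theorem Fix_conj {v : S} (hv : v ∈ m.Fix) (g : m.G) : g * m.τ v * g⁻¹ = m.τ v := by
  rw [mem_center_iff.mp hv g, mul_inv_cancel_right]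

omit h in
theorem nrm_of_le_Fix {H : Subgroup S} (hH : H ≤ m.Fix) : m.Nrm H := ⟨by
  rintro _ ⟨v, hv, rfl⟩ g
  rw [m.Fix_conj (hH hv) g]
  exact mem_map_of_mem _ hv⟩

omit h in
theorem le_Fix_of_nrm {H : Subgroup S} (hn : m.Nrm H) (hH : H ≤ center S) : H ≤ m.Fix := fun v hv => by
  haveI : (H.map m.τ).Normal := hn
  refine H31.PushUp.le_center_of_normal m.R (H.map m.τ) ?_ (mem_map_of_mem _ hv)
  rintro _ ⟨w, hw, rfl⟩ s hs
  obtain ⟨s, rfl⟩ := m.exists_pre hs
  rw [← map_mul, ← map_mul, mem_center_iff.mp (hH hw) s]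

theorem fix_of_two {v w : S} {g : m.G} (hg : g ∉ m.R.M) (hv : v ∈ center S) (hw : w ∈ center S)
    (he : m.τ w = g * m.τ v * g⁻¹) : v ∈ m.Fix := by
  have h1 := (m.ψ_one_iff h (m.center_le_V hv)).mpr hv
  have h2 := (m.ψ_one_iff h (m.center_le_V hw)).mpr hw
  rw [← m.ψ_zero_iff h (m.center_le_V hv)]
  rw [ψ, he, (m.lay h).equiv g _ (mem_map_of_mem _ (m.center_le_V hv))] at h2
  simp only [Matrix.mulVec, dotProduct, Fin.sum_univ_two] at h2
  rw [show (m.lay h).ψ (m.τ v) 1 = 0 from h1, mul_zero, add_zero] at h2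
  have hg' : ((m.lay h).e g : Matrix (Fin 2) (Fin 2) m.F) 1 0 ≠ 0 := fun e => hg (((m.lay h).mem_M g).mpr e)
  refine funext (Fin.forall_fin_two.mpr ⟨?_, h1⟩)
  exact (mul_eq_zero.mp h2).resolve_left hg'

omit h in
theorem gen {g : m.G} (hg : g ∉ m.R.M) {x : S} (hx : x ∉ m.Q) :
    cj (m.P : Subgroup m.G) g ⊔ zpowers (m.τ x) = ⊤ := by
  by_contra hne
  obtain ⟨T, hT, hle⟩ := (eq_top_or_exists_le_coatom _).resolve_left hne
  have hM : cj T g⁻¹ = m.R.M := by
    refine m.R.uniq _ (((MulAut.conj g⁻¹).mapSubgroup.isCoatom_iff T).mpr hT) ?_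
    rw [le_cj_iff, inv_inv]
    exact le_sup_left.trans hle
  have hxM : g⁻¹ * m.τ x * g ∈ m.R.M := by
    rw [← hM, H60.mem_cj, show g⁻¹⁻¹ * (g⁻¹ * m.τ x * g) * g⁻¹ = m.τ x by group]
    exact hle (mem_sup_right (mem_zpowers _))
  obtain ⟨k, hk⟩ := m.pgroup x
  exact hx (m.R.inf_ker_le ⟨m.τ_mem x, m.R.mem_ker_of_conj hg (m.R.SM (m.τ_mem x)) (k := k)
    (by rw [← map_pow, hk, map_one]) hxM⟩)

/-- A subgroup normalized by a conjugate of the Sylow subgroup and by one further element is normal. -/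
theorem nrm_of_gen {H : Subgroup S} {g : m.G} (hg : g ∉ m.R.M) {x : S}
    (hx : x ∉ m.Q) (h1 : cj (m.P : Subgroup m.G) g ≤ normalizer ((H.map m.τ : Subgroup m.G) : Set m.G))
    (h2 : m.τ x ∈ normalizer ((H.map m.τ : Subgroup m.G) : Set m.G)) : m.Nrm H := by
  show (H.map m.τ).Normal
  rw [← normalizer_eq_top_iff, eq_top_iff, ← m.gen hg hx]
  exact sup_le h1 (zpowers_le.mpr h2)

theorem e_unitri (x : S) : (m.lay h).e (m.τ x) ∈ Linear.unitriSL 2 m.F := (m.lay h).mem_unitri _ (m.τ_mem x)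

theorem e_eq_one {x : S} : (m.lay h).e (m.τ x) = 1 ↔ x ∈ m.Q := (m.lay h).ker_S _ (m.τ_mem x)

theorem comm_mem_Q (x y : S) : ⁅x, y⁆ ∈ m.Q := by
  rw [← m.e_eq_one h, map_commutatorElement, map_commutatorElement,
    H31.PushUp.eq_up (m.e_unitri h x), H31.PushUp.eq_up (m.e_unitri h y),
    commutatorElement_eq_one_iff_mul_comm, H31.PushUp.up_mul, H31.PushUp.up_mul, add_comm]

theorem pow_mem_Q (x : S) : x ^ p ∈ m.Q := by
  haveI := m.R.char
  rw [← m.e_eq_one h, map_pow, map_pow, H31.PushUp.eq_up (m.e_unitri h x)]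
  set a := ((m.lay h).e (m.τ x) : Matrix (Fin 2) (Fin 2) m.F) 0 1
  have hn : ∀ n : ℕ, (H31.PushUp.up a : Matrix.SpecialLinearGroup (Fin 2) m.F) ^ n = H31.PushUp.up ((n : m.F) * a) :=
    fun n => by
      induction n with
      | zero =>
        have := H31.PushUp.up_mul (0 : m.F) 0
        rw [add_zero, mul_eq_left] at this
        rw [pow_zero, Nat.cast_zero, zero_mul, this]
      | succ n ih => rw [pow_succ, ih, H31.PushUp.up_mul, Nat.cast_succ, add_mul, one_mul]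
  rw [hn, CharP.cast_eq_zero, zero_mul]
  have := H31.PushUp.up_mul (0 : m.F) 0
  rwa [add_zero, mul_eq_left] at this

end Mem

end Cfsg.Agent.H42.PairPush
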