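import Cfsg.Agent.H42.PairPush.Pair
import Mathlib.GroupTheory.PushoutI

/-!
# The critical distance is at most two
-/

set_option autoImplicit false
set_option linter.unusedSectionVars false

namespace Cfsg.Agent.H42.PairPush

open Subgroup Cfsg.Agent Cfsg.Agent.H62 Cfsg.Agent.H60 Monoid
open scoped Pointwise commutatorElement

universe u

variable {p : ℕ} [Fact p.Prime] {S : Type u} [Group S] [Finite S]

namespace Mem

variable (m : Mem p S) (h : Std p S)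

/-- The line. -/
def L : Subgroup S := ⁅(⊤ : Subgroup S), m.V⁆

theorem L_le_center (h : Std p S) : m.L ≤ center S := commutator_le.mpr fun x _ _ hv => m.comm_Z h hv x

theorem L_le_V (h : Std p S) : m.L ≤ m.V := (m.L_le_center h).trans m.center_le_V

include h

theorem L_not_fix : ¬ m.L ≤ m.Fix := by
  intro hle
  obtain ⟨A, hA, hAQ⟩ := m.exists_A h
  obtain ⟨x, -, hx⟩ := SetLike.not_le_iff_exists.mp hAQ
  have h1 : m.V ≤ center S := fun v hv =>
    m.comm_fix h hx hv (hle (commutator_mem_commutator (mem_top x) hv))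
  have h2 := Subgroup.card_le_of_le h1
  rw [m.card_V h] at h2
  have h3 : 1 < Fintype.card m.F := Fintype.one_lt_card
  have h4 : 0 < Nat.card (center S) := Nat.card_pos
  nlinarith

end Mem

namespace Graph

variable {J : Type (u + 1)} (μ : J → Mem p S)

/-- The amalgam of all members. -/
abbrev X := PushoutI (fun j => (μ j).τ)

/-- The base. -/
abbrev σ : S →* X μ := PushoutI.base _

/-- A member in the amalgam. -/
abbrev ι (j : J) : (μ j).G →* X μ :=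
  PushoutI.of (G := fun j => (μ j).G) (φ := fun j => (μ j).τ) j

theorem ι_τ (j : J) (s : S) : ι μ j ((μ j).τ s) = σ μ s :=
  PushoutI.of_apply_eq_base (fun j => (μ j).τ) j s

theorem σ_inj : Function.Injective (σ μ) := PushoutI.base_injective fun j => (μ j).inj

theorem ι_inj (j : J) : Function.Injective (ι μ j) :=
  PushoutI.of_injective (φ := fun j => (μ j).τ) (fun j => (μ j).inj) j

/-- The image of the core. -/
def Q' (j : J) : Subgroup (X μ) := (μ j).Q.map (σ μ)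
/-- The image of the centre of the core. -/
def V' (j : J) : Subgroup (X μ) := (μ j).V.map (σ μ)
/-- The image of the line. -/
def L' (j : J) : Subgroup (X μ) := (μ j).L.map (σ μ)

theorem cj_ι {j : J} {H : Subgroup S} (hH : H ≤ (μ j).Q) (g : (μ j).G) :
    cj (H.map (σ μ)) (ι μ j g) = ((μ j).cjS g H).map (σ μ) := by
  ext x
  constructor
  · rintro ⟨_, ⟨a, ha, rfl⟩, rfl⟩
    obtain ⟨y, hy, he⟩ := (μ j).exists_conj hH g ha
    refine ⟨y, hy, ?_⟩
    rw [← ι_τ μ j, he, map_mul, map_mul, map_inv, ι_τ μ j]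
    simp [MulAut.conj_apply]
  · rintro ⟨y, hy, rfl⟩
    obtain ⟨a, ha, he⟩ := (μ j).exists_of_mem_cjS hy
    refine ⟨σ μ a, mem_map_of_mem _ ha, ?_⟩
    rw [← ι_τ μ j y, he, map_mul, map_mul, map_inv, ι_τ μ j]
    simp [MulAut.conj_apply]

theorem cj_ι_nrm {j : J} {H : Subgroup S} (hH : (μ j).Nrm H) (g : (μ j).G) :
    cj (H.map (σ μ)) (ι μ j g) = H.map (σ μ) := by rw [cj_ι μ hH.le_Q, hH.cjS_eq]

theorem cj_Q' (j : J) (g : (μ j).G) : cj (Q' μ j) (ι μ j g) = Q' μ j := cj_ι_nrm μ (μ j).nrm_Q g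

theorem cj_V' (j : J) (g : (μ j).G) : cj (V' μ j) (ι μ j g) = V' μ j := cj_ι_nrm μ (μ j).nrm_V g

/-- Vertices at distance at most `n`. -/
def Reach : ℕ → J → X μ → J → Prop
  | 0, j, x, l => l = j ∧ ∃ g, x = ι μ j g
  | n + 1, j, x, l => ∃ k y g, Reach n j y k ∧ x = y * ι μ l g

theorem Reach.mul_ι {n : ℕ} {j l : J} {x : X μ} (h : Reach μ n j x l) (g : (μ l).G) :
    Reach μ n j (x * ι μ l g) l := by
  cases n with
  | zero =>
    obtain ⟨rfl, g', rfl⟩ := h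
    exact ⟨rfl, g' * g, (map_mul _ _ _).symm⟩
  | succ n =>
    obtain ⟨k, y, g', hy, rfl⟩ := h
    exact ⟨k, y, g' * g, hy, by rw [map_mul, mul_assoc]⟩

theorem Reach.ι_mul {n : ℕ} {j l : J} {x : X μ} (h : Reach μ n j x l) (g : (μ j).G) :
    Reach μ n j (ι μ j g * x) l := by
  induction n generalizing x l with
  | zero =>
    obtain ⟨rfl, g', rfl⟩ := h
    exact ⟨rfl, g * g', (map_mul _ _ _).symm⟩
  | succ n ih =>
    obtain ⟨k, y, g', hy, rfl⟩ := h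
    exact ⟨k, _, g', ih hy, (mul_assoc _ _ _).symm⟩

theorem Reach.trans {a b : ℕ} {j k l : J} {x y : X μ} (hx : Reach μ a j x k) (hy : Reach μ b k y l) :
    Reach μ (a + b) j (x * y) l := by
  induction b generalizing y l with
  | zero =>
    obtain ⟨rfl, g, rfl⟩ := hy
    exact hx.mul_ι μ g
  | succ b ih =>
    obtain ⟨k', z, g, hz, rfl⟩ := hy
    exact ⟨k', _, g, ih hz, (mul_assoc _ _ _).symm⟩

theorem edge (j l : J) : Reach μ 1 j 1 l := ⟨j, 1, 1, ⟨rfl, 1, (map_one _).symm⟩, by simp⟩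

theorem edge_trans {n : ℕ} {j k l : J} {x : X μ} (h : Reach μ n k x l) : Reach μ (n + 1) j x l := by
  have := (edge μ j k).trans μ h
  rwa [one_mul, add_comm] at this

theorem Reach.symm {n : ℕ} {j l : J} {x : X μ} (h : Reach μ n j x l) : Reach μ n l x⁻¹ j := by
  induction n generalizing x l with
  | zero =>
    obtain ⟨rfl, g, rfl⟩ := h
    exact ⟨rfl, g⁻¹, (map_inv _ _).symm⟩
  | succ n ih =>
    obtain ⟨k, y, g, hy, rfl⟩ := h
    rw [_root_.mul_inv_rev, ← map_inv]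
    exact (edge_trans μ (ih hy)).ι_mul μ g⁻¹

theorem exists_left {n : ℕ} {j l : J} {x : X μ} (h : Reach μ (n + 1) j x l) :
    ∃ g k y, x = ι μ j g * y ∧ Reach μ n k y l := by
  obtain ⟨k, y, g, hy, he⟩ := h.symm μ
  exact ⟨g⁻¹, k, y⁻¹, by rw [map_inv, ← _root_.mul_inv_rev, ← he, inv_inv], hy.symm μ⟩

theorem exists_reach (x : X μ) : ∀ j l : J, ∃ n, Reach μ n j x l := by
  induction x using PushoutI.induction_on with
  | of i g =>
    intro j l
    have h0 : Reach μ 0 i (ι μ i g) i := ⟨rfl, g, rfl⟩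
    have h1 := ((edge μ j i).trans μ h0).trans μ (edge μ i l)
    simp only [one_mul, mul_one] at h1
    exact ⟨_, h1⟩
  | base s =>
    intro j l
    refine ⟨1, ?_⟩
    rw [← ι_τ μ j]
    simpa using (edge μ j l).ι_mul μ ((μ j).τ s)
  | mul x y hx hy =>
    intro j l
    obtain ⟨a, ha⟩ := hx j j
    obtain ⟨b, hb⟩ := hy j l
    exact ⟨_, ha.trans μ hb⟩

/-- Some centre at distance `n` leaves the core. -/
def Far (n : ℕ) : Prop := ∃ j x l, Reach μ n j x l ∧ ¬ cj (V' μ l) x ≤ Q' μ j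

theorem Q'_le (j : J) : Q' μ j ≤ (σ μ).range := map_le_range _ _

theorem exists_invariant (hfar : ∀ n, ¬ Far μ n) :
    ∃ Y : Subgroup S, Y ≤ cc Y ∧ ∀ j, (μ j).V ≤ Y ∧ Y ≤ (μ j).Q ∧ (μ j).Nrm Y := by
  have hle : ∀ (j l : J) (x : X μ), cj (V' μ l) x ≤ Q' μ j := fun j l x => by
    obtain ⟨n, hn⟩ := exists_reach μ x j l
    by_contra hne
    exact hfar n ⟨j, x, l, hn, hne⟩
  set U := ⨆ a : J × X μ, cj (V' μ a.1) a.2 with hU
  have hcj : ∀ g, cj U g ≤ U := fun g => by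
    rw [hU, show cj (⨆ a : J × X μ, cj (V' μ a.1) a.2) g = _ from Subgroup.map_iSup _ _]
    refine iSup_le fun a => le_trans (le_of_eq (cj_cj (V' μ a.1) a.2 g)) ?_
    exact le_iSup (fun a : J × X μ => cj (V' μ a.1) a.2) (a.1, g * a.2)
  have hUQ : ∀ j, U ≤ Q' μ j := fun j => iSup_le fun a => hle j a.1 a.2
  have hcomm : U ≤ centralizer (U : Set (X μ)) := by
    refine iSup_le fun a => le_centralizer_iff.mpr (iSup_le fun c => ?_)
    intro y hy z hz
    have h1 := hle a.1 c.1 (a.2⁻¹ * c.2)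
    rw [← cj_le_cj_iff a.2, cj_cj, mul_inv_cancel_left] at h1
    obtain ⟨v, hv, rfl⟩ := hz
    obtain ⟨_, ⟨q, hq, rfl⟩, rfl⟩ := h1 hy
    obtain ⟨v, hv, rfl⟩ := hv
    simp only [MulEquiv.coe_toMonoidHom, MulAut.conj_apply]
    have := congrArg (σ μ) ((μ a.1).V_comm_Q hq hv)
    rw [map_mul, map_mul] at this
    calc a.2 * σ μ v * a.2⁻¹ * (a.2 * σ μ q * a.2⁻¹) = a.2 * (σ μ v * σ μ q) * a.2⁻¹ := by group
      _ = a.2 * (σ μ q * σ μ v) * a.2⁻¹ := by rw [this]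
      _ = _ := by group
  refine ⟨U.comap (σ μ), fun a ha b hb => σ_inj μ ?_, fun j => ⟨fun v hv => ?_, fun a ha => ?_, ?_⟩⟩
  · rw [map_mul, map_mul]
    exact hcomm ha _ hb
  · refine (le_iSup (fun a : J × X μ => cj (V' μ a.1) a.2) (j, 1)) ?_
    rw [cj_one]
    exact mem_map_of_mem _ hv
  · exact (mem_map_iff_mem (σ_inj μ)).mp (hUQ j ha)
  · have hQ : U.comap (σ μ) ≤ (μ j).Q := fun a ha => (mem_map_iff_mem (σ_inj μ)).mp (hUQ j ha)
    refine (μ j).nrm_of hQ fun g y hy => ?_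
    have : σ μ y ∈ cj ((U.comap (σ μ)).map (σ μ)) (ι μ j g) := by
      rw [cj_ι μ hQ]; exact mem_map_of_mem _ hy
    exact hcj _ (cj_mono (map_comap_le _ _) _ this)

variable {b : ℕ} (hb : ∀ n < b, ¬ Far μ n)

theorem V'_le_Q' (j : J) : V' μ j ≤ Q' μ j := map_mono (μ j).V_le_Q

theorem not_far_zero : ¬ Far μ 0 := by
  rintro ⟨j, x, l, ⟨rfl, g, rfl⟩, hne⟩
  exact hne (by rw [cj_V']; exact V'_le_Q' μ _)

include hb

theorem below {n : ℕ} (hn : n < b) {j l : J} {x : X μ} (hx : Reach μ n j x l) : cj (V' μ l) x ≤ Q' μ j :=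
  by_contra fun e => hb n hn ⟨j, x, l, hx, e⟩

theorem V_le (hb2 : 2 ≤ b) (j l : J) : (μ l).V ≤ (μ j).Q := by
  have := below μ hb (by omega) (edge μ j l)
  rw [cj_one] at this
  exact fun v hv => (mem_map_iff_mem (σ_inj μ)).mp (this (mem_map_of_mem _ hv))

variable (hs : Std p S)
include hs

theorem crit_symm {j l : J} {x : X μ} (hb1 : 1 ≤ b) (hx : Reach μ b j x l) (h : cj (V' μ l) x ≤ Q' μ j) :
    cj (V' μ j) x⁻¹ ≤ Q' μ l := by
  obtain ⟨c, rfl⟩ : ∃ c, b = c + 1 := ⟨b - 1, by omega⟩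
  obtain ⟨g, k, z, he, hz⟩ := exists_left μ (hx.symm μ)
  rw [he, ← cj_cj, ← cj_Q' μ l g]
  refine cj_mono (fun a ha => ?_) _
  obtain ⟨s, hs', rfl⟩ := below μ hb (by omega) hz ha
  refine mem_map_of_mem _ ?_
  rw [← (μ l).cc_V hs]
  intro w hw
  obtain ⟨_, ⟨v, hv, rfl⟩, hev⟩ := ha
  have hw' : σ μ w ∈ cj (V' μ l) (ι μ l g⁻¹) := by rw [cj_V']; exact mem_map_of_mem _ hw
  have h1 : z⁻¹ * σ μ w * z ∈ cj (V' μ l) x := by
    have := cj_mono le_rfl z⁻¹ (mem_map_of_mem (MulAut.conj z⁻¹).toMonoidHom hw')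
    rw [cj_cj] at this
    have ex : z⁻¹ * ι μ l g⁻¹ = x := by rw [map_inv, ← _root_.mul_inv_rev, ← he, inv_inv]
    rw [ex] at this
    simpa [MulAut.conj_apply] using this
  obtain ⟨q, hq, heq⟩ := h h1
  have hc := congrArg (σ μ) ((μ j).V_comm_Q hq hv)
  rw [map_mul, map_mul, heq] at hc
  apply σ_inj μ
  rw [map_mul, map_mul, ← hev]
  simp only [MulEquiv.coe_toMonoidHom, MulAut.conj_apply]
  calc σ μ w * (z * σ μ v * z⁻¹) = z * ((z⁻¹ * σ μ w * z) * σ μ v) * z⁻¹ := by group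
    _ = z * (σ μ v * (z⁻¹ * σ μ w * z)) * z⁻¹ := by rw [hc]
    _ = _ := by group

/-- A critical window: `j, k` share the edge `1` and `n, l` share the edge `y`. -/
structure Win (j k : J) (y : X μ) (n l : J) : Prop where
  left : Reach μ (b - 1) k y l
  right : Reach μ (b - 1) j y n
  crit : ¬ cj (V' μ l) y ≤ Q' μ j

variable (hb1 : 1 ≤ b)
include hb1

theorem Win.reach {j k n l : J} {y : X μ} (w : Win (b := b) μ j k y n l) : Reach μ b j y l := by
  have := edge_trans μ (j := j) w.left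
  rwa [show b - 1 + 1 = b by omega] at this

theorem Win.inv {j k n l : J} {y : X μ} (w : Win (b := b) μ j k y n l) : Win (b := b) μ l n y⁻¹ k j := by
  refine ⟨w.right.symm μ, w.left.symm μ, fun e => w.crit ?_⟩
  have h := crit_symm μ hb hs hb1 ((w.reach μ hb hs hb1).symm μ) e
  rwa [inv_inv] at h

theorem Win.card_le {j k n l : J} {y : X μ} (w : Win (b := b) μ j k y n l) :
    ∃ A : Subgroup S, A.map (σ μ) = cj (V' μ l) y ∧ ¬ A ≤ (μ j).Q ∧
      Fintype.card (μ l).F * Nat.card (μ j).Q ≤ Nat.card ↥(A ⊔ (μ j).Q) := by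
  have hS : cj (V' μ l) y ≤ (σ μ).range := (below μ hb (by omega) w.left).trans (Q'_le μ k)
  set A := (cj (V' μ l) y).comap (σ μ) with hA
  have hAm : A.map (σ μ) = cj (V' μ l) y := map_comap_eq_self hS
  refine ⟨A, hAm, fun e => w.crit (hAm ▸ map_mono e), ?_⟩
  have hw := w.inv μ hb hs hb1
  have hB : cj (V' μ j) y⁻¹ ≤ (σ μ).range := (below μ hb (by omega) hw.left).trans (Q'_le μ n)
  obtain ⟨_, ⟨_, ⟨v, hv, rfl⟩, rfl⟩, hne⟩ := SetLike.not_le_iff_exists.mp hw.crit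
  obtain ⟨x, hx⟩ := hB (show y⁻¹ * σ μ v * y⁻¹⁻¹ ∈ cj (V' μ j) y⁻¹ from
    ⟨σ μ v, mem_map_of_mem _ hv, rfl⟩)
  have hxQ : x ∉ (μ l).Q := fun e => hne ⟨x, e, by rw [hx]; rfl⟩
  have hinf : Nat.card ↥(A ⊓ (μ j).Q) ≤ Nat.card (center S) := by
    have hle : (A ⊓ (μ j).Q).map (σ μ) ≤ cj ((center S).map (σ μ)) y := by
      rintro _ ⟨a, ⟨ha, haQ⟩, rfl⟩
      obtain ⟨_, ⟨w', hw', rfl⟩, he⟩ := (show σ μ a ∈ cj (V' μ l) y from ha)
      refine ⟨σ μ w', mem_map_of_mem _ ((μ l).fixed_Z hs hxQ hw' (σ_inj μ ?_)), he⟩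
      rw [map_mul, map_mul, hx]
      have hc := congrArg (σ μ) ((μ j).V_comm_Q haQ hv)
      rw [map_mul, map_mul, ← he] at hc
      simp only [MulEquiv.coe_toMonoidHom, MulAut.conj_apply] at hc
      calc y⁻¹ * σ μ v * y⁻¹⁻¹ * σ μ w' = y⁻¹ * (σ μ v * (y * σ μ w' * y⁻¹)) * y := by group
        _ = y⁻¹ * (y * σ μ w' * y⁻¹ * σ μ v) * y := by rw [hc]
        _ = _ := by group
    have := Nat.card_mono (s := ((A ⊓ (μ j).Q).map (σ μ) : Set (X μ)))
      (t := (cj ((center S).map (σ μ)) y : Set (X μ))) ?_ hle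
    · rw [show Nat.card ((cj ((center S).map (σ μ)) y : Set (X μ))) = Nat.card ↥(cj ((center S).map (σ μ)) y)
          from rfl, card_cj, card_map_of_injective (σ_inj μ)] at this
      rwa [show Nat.card (((A ⊓ (μ j).Q).map (σ μ) : Set (X μ))) = Nat.card ↥((A ⊓ (μ j).Q).map (σ μ)) from rfl,
        card_map_of_injective (σ_inj μ)] at this
    · rw [show (cj ((center S).map (σ μ)) y : Set (X μ)) = MulAut.conj y '' (σ μ '' (center S : Set S)) from rfl]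
      exact ((Set.toFinite _).image _).image _
  have hcA : Nat.card A = Fintype.card (μ l).F * Nat.card (center S) := by
    rw [← card_map_of_injective (σ_inj μ), hAm, card_cj, V', card_map_of_injective (σ_inj μ), (μ l).card_V hs]
  have h1 := card_prod_mul_card_inf A (μ j).Q
  have h2 := card_prod_le_sup A (μ j).Q
  refine Nat.le_of_mul_le_mul_right ?_ (Nat.card_pos (α := center S))
  calc Fintype.card (μ l).F * Nat.card (μ j).Q * Nat.card (center S)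
      = Nat.card A * Nat.card (μ j).Q := by rw [hcA]; ring
    _ ≤ Nat.card ↥(A ⊔ (μ j).Q) * Nat.card ↥(A ⊓ (μ j).Q) := h1 ▸ Nat.mul_le_mul_right _ h2
    _ ≤ _ := Nat.mul_le_mul_left _ hinf

theorem Win.q_eq {j k n l : J} {y : X μ} (w : Win (b := b) μ j k y n l) :
    Fintype.card (μ l).F ≤ Fintype.card (μ j).F := by
  obtain ⟨A, -, -, hA⟩ := w.card_le μ hb hs hb1
  refine Nat.le_of_mul_le_mul_right ?_ (Nat.card_pos (α := (μ j).Q))
  calc _ ≤ _ := hA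
    _ ≤ Nat.card S := Subgroup.card_le_card_group _
    _ = _ := by rw [(μ j).card_S, mul_comm]

theorem Win.full {j k n l : J} {y : X μ} (w : Win (b := b) μ j k y n l) :
    ∃ A : Subgroup S, A.map (σ μ) = cj (V' μ l) y ∧ ¬ A ≤ (μ j).Q ∧ A ⊔ (μ j).Q = ⊤ := by
  obtain ⟨A, hAm, hAQ, hA⟩ := w.card_le μ hb hs hb1
  refine ⟨A, hAm, hAQ, eq_top_of_le_card _ ?_⟩
  rw [(μ j).card_S, mul_comm, le_antisymm ((w.inv μ hb hs hb1).q_eq μ hb hs hb1) (w.q_eq μ hb hs hb1)]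
  exact hA

theorem Win.comm_eq {j k n l : J} {y : X μ} (w : Win (b := b) μ j k y n l) :
    ⁅cj (V' μ l) y, V' μ j⁆ = L' μ j := by
  obtain ⟨A, hAm, -, hA⟩ := w.full μ hb hs hb1
  rw [← hAm, V', ← map_commutator, L', Mem.L]
  congr 1
  refine le_antisymm (commutator_mono le_top le_rfl) (commutator_le.mpr fun x _ v hv => ?_)
  obtain ⟨a, ha, q, hq, rfl⟩ : ∃ a ∈ A, ∃ q ∈ (μ j).Q, a * q = x := by
    haveI : (μ j).Q.Normal := ⟨fun q hq s => (μ j).Q_conj hq s⟩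
    exact mem_sup_of_normal_right.mp (hA ▸ mem_top x)
  rw [show ⁅a * q, v⁆ = a * ⁅q, v⁆ * a⁻¹ * ⁅a, v⁆ by simp only [commutatorElement_def]; group,
    comm_eq_one ((μ j).V_comm_Q hq hv), mul_one, mul_inv_cancel, one_mul]
  exact commutator_mem_commutator ha hv

/-- The line equation. -/
theorem Win.line {j k n l : J} {y : X μ} (w : Win (b := b) μ j k y n l) :
    cj (L' μ l) y = L' μ j := by
  rw [← (w.inv μ hb hs hb1).comm_eq μ hb hs hb1, ← w.comm_eq μ hb hs hb1, cj, Subgroup.map_commutator]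
  show ⁅cj (cj (V' μ j) y⁻¹) y, cj (V' μ l) y⁆ = _
  rw [cj_cj, mul_inv_cancel, cj_one, Subgroup.commutator_comm]

/-- The first step of a window moves. -/
theorem Win.arrow (hb2 : 2 ≤ b) {j k n l : J} {y : X μ} (w : Win (b := b) μ j k y n l) :
    Mem.Arrow (μ k) (μ j) := by
  intro hn
  obtain ⟨c, hc⟩ : ∃ c, b - 1 = c + 1 := ⟨b - 2, by omega⟩
  obtain ⟨g, k', z, rfl, hz⟩ := exists_left μ (hc ▸ w.left)
  refine (w.inv μ hb hs hb1).crit ?_
  have h1 : cj (V' μ j) z⁻¹ ≤ Q' μ l := below μ hb (by omega) ((edge_trans μ (j := j) hz).symm μ)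
  have h2 : cj (V' μ k) (ι μ k g * z)⁻¹ ≤ Q' μ l := below μ hb (by omega) (w.left.symm μ)
  have h3 : V' μ j ≤ V' μ k ⊔ cj (V' μ j) (ι μ k g) := by
    refine (le_sup_right : V' μ j ≤ V' μ k ⊔ V' μ j).trans ?_
    conv_lhs => rw [V', V', ← Subgroup.map_sup, ← cj_ι_nrm μ hn g, Subgroup.map_sup, cj_sup]
    rw [← V', ← V', cj_V']
  refine (cj_mono h3 _).trans ?_
  rw [cj_sup, cj_cj]
  refine sup_le h2 ?_
  rwa [_root_.mul_inv_rev, inv_mul_cancel_right]

/-- A critical window moves one step backwards. -/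
theorem Win.backshift {j k n l : J} {y : X μ} (w : Win (b := b) μ j k y n l) {i : J}
    (harr : Mem.Arrow (μ j) (μ i)) (hh : (μ i).V ≤ (μ j).Q) {g : (μ j).G} (hg : g ∉ (μ j).R.M) :
    ¬ cj (V' μ n) (ι μ j g⁻¹ * y) ≤ Q' μ i := by
  intro hle
  have hr : Reach μ b i (ι μ j g⁻¹ * y) n := by
    have := edge_trans μ (j := i) (w.right.ι_mul μ g⁻¹)
    rwa [show b - 1 + 1 = b by omega] at this
  have h1 := crit_symm μ hb hs hb1 hr hle
  rw [_root_.mul_inv_rev, map_inv, inv_inv, ← cj_le_cj_iff y, cj_cj, mul_inv_cancel_left] at h1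
  obtain ⟨A, hAm, hAQ, -⟩ := w.full μ hb hs hb1
  obtain ⟨a, ha, haQ⟩ := SetLike.not_le_iff_exists.mp hAQ
  set H := (μ j).V ⊔ (μ i).V with hH
  have hHQ : H ≤ (μ j).Q := sup_le (μ j).V_le_Q hh
  have hHn : ∀ s, ∀ x ∈ H, s * x * s⁻¹ ∈ H :=
    Mem.sup_conj (fun s x hx => (μ j).nrm_V.conj hx s) fun s x hx => (μ i).nrm_V.conj hx s
  set H' := (μ j).cjS g H with hH'
  have hH'Q : H' ≤ (μ j).Q := (μ j).cjS_le_Q hHQ g
  have hVH : (μ j).V ≤ H' := ((μ j).nrm_V.cjS_eq g).ge.trans ((μ j).cjS_mono le_sup_left g)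
  have haH : ∀ x ∈ H', a * x * a⁻¹ ∈ H' := by
    have key : ∀ x ∈ (μ j).cjS g (μ i).V, ⁅a, x⁆ ∈ (μ j).V := by
      intro x hx
      have hx' : σ μ x ∈ cj (Q' μ n) y := h1 (by rw [V', cj_ι μ hh]; exact mem_map_of_mem _ hx)
      have ha' : σ μ a ∈ cj (V' μ l) y := hAm ▸ mem_map_of_mem _ ha
      have : σ μ ⁅a, x⁆ ∈ L' μ j := by
        rw [← w.line μ hb hs hb1, map_commutatorElement, ← commutatorElement_inv]
        refine inv_mem ?_
        obtain ⟨_, ⟨q, hq, rfl⟩, he⟩ := hx'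
        obtain ⟨_, ⟨v, hv, rfl⟩, he'⟩ := ha'
        refine ⟨σ μ ⁅q, v⁆, mem_map_of_mem _ (commutator_mem_commutator (mem_top q) hv), ?_⟩
        rw [← he, ← he', ← map_commutatorElement, map_commutatorElement (σ μ)]
      exact (μ j).L_le_V hs ((mem_map_iff_mem (σ_inj μ)).mp this)
    have : H' ≤ H'.comap (MulAut.conj a).toMonoidHom := by
      refine le_trans (le_of_eq ((μ j).cjS_sup (μ j).V_le_Q hh g)) (sup_le (fun x hx => ?_) (fun x hx => ?_))
      · show a * x * a⁻¹ ∈ H'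
        rw [(μ j).nrm_V.cjS_eq] at hx
        exact hVH ((μ j).nrm_V.conj hx a)
      · show a * x * a⁻¹ ∈ H'
        rw [conj_eq_comm_mul]
        exact mul_mem (hVH (key x hx)) ((μ j).cjS_mono le_sup_right g hx)
    exact fun x hx => this hx
  have hP : ((μ j).P : Subgroup (μ j).G) ≤ normalizer ((H.map (μ j).τ : Subgroup (μ j).G) : Set (μ j).G) :=
    fun x hx => by
      obtain ⟨s, rfl⟩ := (μ j).exists_pre hx
      exact (μ j).mem_normalizer_of hHQ ((μ j).cjS_τ_eq (hHn s) hHQ)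
  have hn : (μ j).Nrm H' := by
    refine (μ j).nrm_of_gen hs hg haQ ?_ ((μ j).mem_normalizer_of hH'Q ((μ j).cjS_τ_eq haH hH'Q))
    rw [hH', (μ j).map_cjS hHQ, ← cj_normalizer]
    exact cj_mono hP g
  refine harr ?_
  show (μ j).Nrm H
  rw [← (μ j).cjS_inv_cancel' hHQ g, ← hH', hn.cjS_eq]
  exact hn

omit hb1 in
theorem le_two (hfar : Far μ b) : b ≤ 2 := by
  by_contra hlt
  push Not at hlt
  have hb1 : 1 ≤ b := by omega
  obtain ⟨j, x, l, hx, hne⟩ := hfar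
  obtain ⟨c, rfl⟩ : ∃ c, b = c + 3 := ⟨b - 3, by omega⟩
  obtain ⟨g₀, k, y, rfl, hy⟩ := exists_left μ hx
  rw [← cj_cj, ← cj_Q' μ j g₀, cj_le_cj_iff] at hne
  obtain ⟨n, y0, h0, hy0, rfl⟩ := edge_trans μ (j := j) hy
  rw [← cj_cj, cj_V'] at hne
  have w0 : Win (b := c + 3) μ j k y0 n l := ⟨by simpa [mul_assoc] using hy.mul_ι μ h0⁻¹, hy0, hne⟩
  have hkj := w0.arrow μ hb hs hb1 (by omega)
  have hVjk := V_le μ hb (by omega) k j
  have hVkj := V_le μ hb (by omega) j k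
  have hjk : Mem.Arrow (μ j) (μ k) := by
    refine Mem.lemmaB hs hVjk hkj (iSup_le fun g => ?_)
    rw [← map_le_map_iff_of_injective (σ_inj μ), ← cj_ι μ hVjk]
    exact below μ hb (by omega : 2 < c + 3)
      ((((edge μ j k).mul_ι μ g).trans μ (edge μ k j)) |> fun h => by simpa using h)
  obtain ⟨n1, y1, h1, hy1, rfl⟩ := hy0
  obtain ⟨n2, y2, h2, hy2, rfl⟩ := hy1
  have key : ∀ g : (μ j).G, g ∉ (μ j).R.M → ∀ g' : (μ k).G, g' ∉ (μ k).R.M →
      cj (L' μ n1) (ι μ k g'⁻¹ * (ι μ j g⁻¹ * y2)) = L' μ j := by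
    intro g hg g' hg'
    have c1 := w0.backshift μ hb hs hb1 hjk hVkj hg
    rw [← mul_assoc (ι μ j g⁻¹), ← cj_cj, cj_V'] at c1
    have r1 : Reach μ (c + 1) j (ι μ j g⁻¹ * (y2 * ι μ n1 h2)) n1 :=
      Reach.ι_mul μ (n := c + 1) (j := j) (l := n1) ⟨n2, y2, h2, hy2, rfl⟩ g⁻¹
    have w1 : Win (b := c + 3) μ k j (ι μ j g⁻¹ * (y2 * ι μ n1 h2)) n1 n := by
      refine ⟨⟨n1, _, 1, r1, by simp⟩, edge_trans μ r1, c1⟩
    have c2 := w1.backshift μ hb hs hb1 hkj hVjk hg'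
    rw [← mul_assoc (ι μ j g⁻¹), ← mul_assoc (ι μ k g'⁻¹), ← cj_cj, cj_V'] at c2
    have r2 : Reach μ (c + 1) k (ι μ k g'⁻¹ * (ι μ j g⁻¹ * y2)) n2 :=
      (edge_trans μ (Reach.ι_mul μ hy2 g⁻¹)).ι_mul μ g'⁻¹
    have w2 : Win (b := c + 3) μ j k (ι μ k g'⁻¹ * (ι μ j g⁻¹ * y2)) n2 n1 := by
      refine ⟨⟨n2, _, 1, r2, by simp⟩, edge_trans μ r2, c2⟩
    exact w2.line μ hb hs hb1
  have hLQ : ∀ i, (μ j).L ≤ (μ i).Q := fun i =>
    ((μ j).L_le_center hs).trans ((μ i).center_le_V.trans (μ i).V_le_Q)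
  have conv : ∀ (i : J) (C : Subgroup (X μ)), (∀ g : (μ i).G, g ∉ (μ i).R.M → cj (L' μ j) (ι μ i g) = C) →
      (μ j).L ≤ (μ i).Fix := by
    intro i C hC
    refine (μ i).le_Fix_of_nrm ?_ ((μ j).L_le_center hs)
    show (((μ j).L).map (μ i).τ).Normal
    refine (μ i).R.normal_of_const (g₀ := 1) fun g g' hg hg' => ?_
    simp only [inv_one, one_mul] at hg hg'
    rw [← (μ i).map_cjS (hLQ i), ← (μ i).map_cjS (hLQ i)]
    congr 1
    apply map_injective (σ_inj μ)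
    rw [← cj_ι μ (hLQ i), ← cj_ι μ (hLQ i)]
    exact (hC g hg).trans (hC g' hg').symm
  obtain ⟨gj, hgj⟩ := (μ j).R.exists_not_mem
  obtain ⟨gk, hgk⟩ := (μ k).R.exists_not_mem
  have hfixk : (μ j).L ≤ (μ k).Fix := conv k _ fun g hg => by
    rw [← key gj hgj g hg, cj_cj, ← mul_assoc, ← map_mul, mul_inv_cancel, map_one, one_mul]
  refine (μ j).L_not_fix hs (conv j (cj (L' μ n1) y2) fun g hg => ?_)
  have h3 := congrArg (fun H => cj H (ι μ k gk)) (key g hg gk hgk)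
  simp only [cj_cj] at h3
  rw [← mul_assoc (ι μ k gk), ← map_mul, mul_inv_cancel, map_one, one_mul,
    L', L', cj_ι_nrm μ ((μ k).nrm_of_le_Fix hfixk) gk] at h3
  rw [L', ← h3, cj_cj, ← mul_assoc, ← map_mul, mul_inv_cancel, map_one, one_mul, L']

end Graph

end Cfsg.Agent.H42.PairPush
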