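import Cfsg.Agent.H62.CD
import Cfsg.Agent.H62.MCLNormal
import Cfsg.Agent.S3007

/-!
# The lattice of large subgroups when the abelian subgroups of largest order are centrally large
-/

set_option autoImplicit false

namespace Cfsg.Agent.H42.PairPush

open Subgroup Cfsg Cfsg.Agent Cfsg.Agent.H62

universe u

/-- The standing hypotheses on the `p`-group. -/
structure Std (p : ℕ) (S : Type u) [Group S] : Prop where
  pgroup : IsPGroup p S
  J : thompsonSubgroupA S = ⊤
  ab : ∀ Q : Subgroup S, IsMinimalCentrallyLarge Q → IsMulCommutative Q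
  elemZ : IsElementaryAbelian p (center S)

variable {S : Type u} [Group S] [Finite S] {p : ℕ} [Fact p.Prime]

theorem Std.cl_maxAbelian (h : Std p S) {A : Subgroup S} (hA : A ∈ maxAbelianSubgroups S) :
    IsCentrallyLarge A := by
  obtain ⟨Q, hQ⟩ := exists_minimal_cl (G := S)
  exact (((S3007.result S h.pgroup Q Q hQ hQ).2.2.2.2 (h.ab Q hQ) A).mpr hA).1

theorem Std.large_A (h : Std p S) {A : Subgroup S} (hA : A ∈ maxAbelianSubgroups S) : IsCentralizerLarge A :=
  (cl_iff.mp (h.cl_maxAbelian hA)).1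

theorem Std.cl_top (h : Std p S) : IsCentrallyLarge (⊤ : Subgroup S) := by
  rw [← h.J]
  obtain ⟨A, hA⟩ := exists_maxAbelian (G := S)
  exact cl_sSup ⟨A, hA⟩ fun R hR => h.cl_maxAbelian hR

theorem cc_top : cc (⊤ : Subgroup S) = center S := by
  rw [cc, coe_top, centralizer_univ]

theorem Std.max_eq (h : Std p S) : maxCentralizerProduct S = Nat.card S * Nat.card (center S) := by
  have := (cl_iff.mp h.cl_top).1
  rw [IsCentralizerLarge, card_top] at this
  rw [← this, ← cc_top]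

theorem center_le_cc (H : Subgroup S) : center S ≤ cc H := center_le_centralizer _

theorem large_sup {H K : Subgroup S} (hH : IsCentralizerLarge H) (hK : IsCentralizerLarge K) :
    IsCentralizerLarge (H ⊔ K) := (large_sup_inf hH hK).1

theorem large_inf {H K : Subgroup S} (hH : IsCentralizerLarge H) (hK : IsCentralizerLarge K) :
    IsCentralizerLarge (H ⊓ K) := (large_sup_inf hH hK).2.1

theorem cc_inf {H K : Subgroup S} (hH : IsCentralizerLarge H) (hK : IsCentralizerLarge K) :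
    cc (H ⊓ K) = cc H ⊔ cc K := (large_sup_inf hH hK).2.2.2.2

theorem mem_large_sup {H K : Subgroup S} (hH : IsCentralizerLarge H) (hK : IsCentralizerLarge K) {x : S}
    (hx : x ∈ H ⊔ K) : ∃ a ∈ H, ∃ b ∈ K, x = a * b := by
  have h : x ∈ ((H ⊔ K : Subgroup S) : Set S) := hx
  rw [(large_sup_inf hH hK).2.2.1] at h
  obtain ⟨a, ha, b, hb, rfl⟩ := h
  exact ⟨a, ha, b, hb, rfl⟩

theorem large_cc' {H : Subgroup S} (hH : IsCentralizerLarge H) : IsCentralizerLarge (cc H) := (large_cc hH).1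

theorem cc_cc {H : Subgroup S} (hH : IsCentralizerLarge H) : cc (cc H) = H := (large_cc hH).2.symm

theorem cc_le_iff {H K : Subgroup S} (hH : IsCentralizerLarge H) (h : cc H ≤ cc K) : K ≤ H := by
  rw [← cc_cc hH]
  exact (le_cc_cc K).trans (cc_anti h)

theorem exists_large_max {P : Subgroup S → Prop} {H : Subgroup S} (hH : P H)
    (hl : ∀ K, P K → IsCentralizerLarge K) (hs : ∀ K L, P K → P L → P (K ⊔ L)) :
    ∃ T, P T ∧ IsCentralizerLarge T ∧ ∀ K, P K → K ≤ T := by
  obtain ⟨T, hT, hmax⟩ := (Set.toFinite {K : Subgroup S | P K}).exists_maximal ⟨H, hH⟩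
  exact ⟨T, hT, hl T hT, fun K hK => (le_sup_right : K ≤ T ⊔ K).trans (hmax (hs T K hT hK) le_sup_left)⟩

theorem large_iSup {ι : Type*} [Nonempty ι] {f : ι → Subgroup S} (hf : ∀ i, IsCentralizerLarge (f i)) :
    IsCentralizerLarge (⨆ i, f i) := by
  obtain ⟨i₀⟩ := ‹Nonempty ι›
  obtain ⟨T, ⟨hT, hTle⟩, -, hmax⟩ := exists_large_max (P := fun K => IsCentralizerLarge K ∧ K ≤ ⨆ i, f i)
    (H := f i₀) ⟨hf i₀, le_iSup f i₀⟩ (fun K hK => hK.1) fun K L hK hL => ⟨large_sup hK.1 hL.1, sup_le hK.2 hL.2⟩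
  have : ⨆ i, f i = T := le_antisymm (iSup_le fun i => hmax _ ⟨hf i, le_iSup f i⟩) hTle
  rw [this]
  exact hT

end Cfsg.Agent.H42.PairPush
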