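import Cfsg.Agent.H42.PairPush.Pair
import Cfsg.Agent.H46.PushUp.Main
import Cfsg.Agent.H31.PushUp.ClassTwo

/-!
# The subgroup measuring the failure of the exceptional conditions
-/

set_option autoImplicit false
set_option linter.unusedSectionVars false

namespace Cfsg.Agent.H42.PairPush

open Subgroup Cfsg.Agent Cfsg.Agent.H62 Cfsg.Agent.H60
open Cfsg.Agent.H46.PushUp (phi phi_mono phi_le phi_map phi_sup_central frattini_map)
open scoped Pointwise commutatorElement

universe u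

variable {p : ℕ} [Fact p.Prime] {S : Type u} [Group S] [Finite S]

section General

variable {G : Type*} [Group G]

/-- The subgroup measuring the failure of the exceptional conditions. -/
def szero (p : ℕ) (H : Subgroup G) : Subgroup G :=
  if p = 2 then ⁅phi p H, H⁆ ⊔ phi p (phi p H)
  else if p = 3 then ⁅⁅phi p H, H⁆, H⁆ ⊔ phi p (phi p H)
  else ⁅phi p H, H⁆ ⊔ Cfsg.powerClosure p 1 H

theorem powerClosure_mono {H K : Subgroup G} (h : H ≤ K) :
    Cfsg.powerClosure p 1 H ≤ Cfsg.powerClosure p 1 K :=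
  Subgroup.closure_mono fun _ ⟨x, hx, e⟩ => ⟨x, h hx, e⟩

theorem powerClosure_le (H : Subgroup G) : Cfsg.powerClosure p 1 H ≤ H := by
  refine (Subgroup.closure_le _).mpr ?_
  rintro _ ⟨x, hx, rfl⟩
  exact pow_mem hx _

theorem powerClosure_map {G' : Type*} [Group G'] (f : G →* G') (H : Subgroup G) :
    (Cfsg.powerClosure p 1 H).map f = Cfsg.powerClosure p 1 (H.map f) := by
  rw [Cfsg.powerClosure, MonoidHom.map_closure]
  refine congrArg Subgroup.closure (Set.ext fun y => ?_)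
  constructor
  · rintro ⟨_, ⟨x, hx, rfl⟩, rfl⟩
    exact ⟨f x, mem_map_of_mem _ hx, map_pow f x _⟩
  · rintro ⟨_, ⟨x, hx, rfl⟩, rfl⟩
    exact ⟨_, ⟨x, hx, rfl⟩, map_pow f x _⟩

theorem comm_le_self (H : Subgroup G) : ⁅phi p H, H⁆ ≤ H :=
  commutator_le.mpr fun a ha b hb => by
    rw [commutatorElement_def]
    exact mul_mem (mul_mem (mul_mem (phi_le H ha) hb) (inv_mem (phi_le H ha))) (inv_mem hb)

theorem szero_mono {H K : Subgroup G} (h : H ≤ K) : szero p H ≤ szero p K := by
  have h1 := phi_mono (p := p) h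
  unfold szero
  split_ifs
  · exact sup_le_sup (commutator_mono h1 h) (phi_mono h1)
  · exact sup_le_sup (commutator_mono (commutator_mono h1 h) h) (phi_mono h1)
  · exact sup_le_sup (commutator_mono h1 h) (powerClosure_mono h)

theorem szero_le (H : Subgroup G) : szero p H ≤ H := by
  have h1 := comm_le_self (p := p) H
  have h2 : phi p (phi p H) ≤ H := (phi_le _).trans (phi_le _)
  unfold szero
  split_ifs
  · exact sup_le h1 h2
  · refine sup_le (commutator_le.mpr fun a ha b hb => ?_) h2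
    rw [commutatorElement_def]
    exact mul_mem (mul_mem (mul_mem (h1 ha) hb) (inv_mem (h1 ha))) (inv_mem hb)
  · exact sup_le h1 (powerClosure_le H)

theorem szero_map {G' : Type*} [Group G'] (f : G →* G') (H : Subgroup G) :
    (szero p H).map f = szero p (H.map f) := by
  unfold szero
  split_ifs <;> simp only [Subgroup.map_sup, map_commutator, phi_map, powerClosure_map]

theorem szero_normal [Finite G] (H : Subgroup G) [hH : H.Normal] : (szero p H).Normal := by
  refine ⟨fun x hx g => ?_⟩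
  have h : (szero p H).map (MulAut.conj g).toMonoidHom = szero p H := by
    rw [szero_map]
    exact congrArg (szero p) (H31.PushUp.cj_normal g)
  exact h ▸ mem_map_of_mem (MulAut.conj g).toMonoidHom hx

end General

theorem phi_top (hS : IsPGroup p S) : phi p (⊤ : Subgroup S) = frattini S := by
  refine le_antisymm ((Subgroup.closure_le _).mpr ?_) ?_
  · rintro _ (⟨a, -, b, -, rfl⟩ | ⟨a, -, rfl⟩)
    · exact PGroups.commutator_le_frattini hS (commutator_mem_commutator (mem_top a) (mem_top b))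
    · exact PGroups.pow_mem_frattini hS a
  · have hn : (phi p (⊤ : Subgroup S)).Normal := by
      refine ⟨fun y hy x => ?_⟩
      have hc : ⁅x, y⁆ ∈ phi p (⊤ : Subgroup S) := Subgroup.subset_closure (Or.inl ⟨x, mem_top _, y, mem_top _, rfl⟩)
      simpa [commutatorElement_def, mul_assoc] using mul_mem hc hy
    refine PGroups.frattini_le_of_commutator_le (p := p) _ ?_ fun x =>
      Subgroup.subset_closure (Or.inr ⟨x, mem_top _, rfl⟩)
    rw [commutator_def, commutator_le]
    exact fun a _ b _ => Subgroup.subset_closure (Or.inl ⟨a, mem_top _, b, mem_top _, rfl⟩)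

namespace Mem

variable (m : Mem p S)

theorem nrm_szero {H : Subgroup S} (hH : m.Nrm H) : m.Nrm (szero p H) := by
  haveI : (H.map m.τ).Normal := hH
  show ((szero p H).map m.τ).Normal
  rw [szero_map]
  exact szero_normal _

variable {m} {i k : Mem p S}

/-- The centre part of `szero` is central in a member if its partner centre is outside the core. -/
theorem fix_of_pair (h : Std p S) (hi : k.V ⊔ i.Q = ⊤) (hk : i.V ⊔ k.Q = ⊤) :
    center S ⊓ szero p (⊤ : Subgroup S) ≤ i.Fix := by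
  set D := i.Q ⊓ k.Q with hD
  set R := ⁅i.V, k.V⁆ with hR
  haveI : i.Q.Normal := ⟨fun q hq s => i.Q_conj hq s⟩
  haveI : k.Q.Normal := ⟨fun q hq s => k.Q_conj hq s⟩
  have hdec : ∀ x : S, ∃ w ∈ k.V, ∃ v ∈ i.V, ∃ d ∈ D, x = w * v * d := by
    intro x
    obtain ⟨w, hw, q, hq, rfl⟩ := mem_sup_of_normal_right.mp (hi ▸ mem_top x)
    obtain ⟨v, hv, d, hd, rfl⟩ := mem_sup_of_normal_right.mp (hk ▸ mem_top q)
    refine ⟨w, hw, v, hv, d, ⟨?_, hd⟩, by rw [mul_assoc]⟩
    simpa using mul_mem (inv_mem (i.V_le_Q hv)) hq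
  have hDi : D ≤ cc i.V := (inf_le_left).trans (i.cc_V h).ge
  have hDk : D ≤ cc k.V := (inf_le_right).trans (k.cc_V h).ge
  have hRZ : R ≤ center S := commutator_le.mpr fun v _ w hw => k.comm_Z h hw v
  have hRp : ∀ r ∈ R, r ^ p = 1 := fun r hr => h.elemZ.2 r (hRZ hr)
  have hcwd : ∀ w ∈ k.V, ∀ v ∈ i.V, ∀ d ∈ D, Commute (w * v) d := fun w hw v hv d hd =>
    Commute.mul_left (hDk hd w hw) (hDi hd v hv)
  have hlR : ∀ w ∈ k.V, ∀ v ∈ i.V, ∀ w' ∈ k.V, ∀ v' ∈ i.V, ⁅w * v, w' * v'⁆ ∈ R := by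
    intro w hw v hv w' hw' v' hv'
    have r1 : ⁅v, w'⁆ ∈ R := commutator_mem_commutator hv hw'
    have r2 : ⁅w, v'⁆ ∈ R := by
      rw [← commutatorElement_inv]; exact inv_mem (commutator_mem_commutator hv' hw)
    have e1 : ⁅v, w' * v'⁆ = ⁅v, w'⁆ := by
      rw [comm_mul_right (k := w') (by rw [comm_eq_one (i.V_comm hv hv'), mul_one, one_mul]),
        comm_eq_one (i.V_comm hv hv'), mul_one]
    have e2 : ⁅w, w' * v'⁆ = ⁅w, v'⁆ := by
      rw [comm_mul_right (k := w') (mem_center_iff.mp (hRZ r2) w'), comm_eq_one (k.V_comm hw hw'), one_mul]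
    rw [comm_mul_left (by rw [e1]; exact mem_center_iff.mp (hRZ r1) w), e1, e2]
    exact mul_mem r1 r2
  -- the Frattini subgroup
  have hphi : phi p (⊤ : Subgroup S) ≤ R ⊔ phi p D := by
    refine (Subgroup.closure_le _).mpr ?_
    rintro _ (⟨a, -, b, -, rfl⟩ | ⟨a, -, rfl⟩)
    · obtain ⟨w, hw, v, hv, d, hd, rfl⟩ := hdec a
      obtain ⟨w', hw', v', hv', d', hd', rfl⟩ := hdec b
      rw [H31.PushUp.comm_mul_comm (hcwd w hw v hv d' hd').eq (hcwd w' hw' v' hv' d hd).eq
        (hcwd w hw v hv d hd).eq (hcwd w' hw' v' hv' d' hd').eq]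
      exact Subgroup.mul_mem _ (mem_sup_left (hlR w hw v hv w' hw' v' hv'))
        (mem_sup_right (Subgroup.subset_closure (Or.inl ⟨d, hd, d', hd', rfl⟩)))
    · obtain ⟨w, hw, v, hv, d, hd, rfl⟩ := hdec a
      have hl : ⁅v, w⁆ ∈ R := commutator_mem_commutator hv hw
      have hz := mem_center_iff.mp (hRZ hl)
      rw [(hcwd w hw v hv d hd).mul_pow, H31.PushUp.mul_pow_class_two (l := ⁅v, w⁆)
        (by simp only [commutatorElement_def]; group) (hz w).symm (hz v).symm, k.V_pow h hw, i.V_pow h hv,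
        one_mul, one_mul]
      exact Subgroup.mul_mem _ (mem_sup_left (pow_mem hl _))
        (mem_sup_right (Subgroup.subset_closure (Or.inr ⟨d, hd, rfl⟩)))
  have hsplit : ∀ x ∈ R ⊔ phi p D, ∃ r ∈ R, ∃ a ∈ phi p D, x = r * a := by
    haveI : R.Normal := ⟨fun r hr s => by rwa [mem_center_iff.mp (hRZ hr) s, mul_inv_cancel_right]⟩
    intro x hx
    obtain ⟨r, hr, a, ha, rfl⟩ := mem_sup_of_normal_left.mp hx
    exact ⟨r, hr, a, ha, rfl⟩
  have hstep : ∀ r ∈ R, ∀ a ∈ D, ∀ x : S, ∃ d ∈ D, ⁅r * a, x⁆ = ⁅a, d⁆ := by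
    intro r hr a ha x
    obtain ⟨w, hw, v, hv, d, hd, rfl⟩ := hdec x
    refine ⟨d, hd, ?_⟩
    have hcom : ⁅a, d⁆ ∈ D := by
      rw [commutatorElement_def]; exact mul_mem (mul_mem (mul_mem ha hd) (inv_mem ha)) (inv_mem hd)
    rw [comm_mul_left (mem_center_iff.mp (hRZ hr) ⁅a, w * v * d⁆).symm,
      comm_eq_one (mem_center_iff.mp (hRZ hr) (w * v * d)).symm, mul_one,
      comm_mul_right (k := w * v) (hcwd w hw v hv _ hcom).eq, comm_eq_one (hcwd w hw v hv a ha).eq.symm, one_mul]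
  have hc1 : ⁅phi p (⊤ : Subgroup S), ⊤⁆ ≤ ⁅phi p D, D⁆ := commutator_le.mpr fun x hx y _ => by
    obtain ⟨r, hr, a, ha, rfl⟩ := hsplit x (hphi hx)
    obtain ⟨d, hd, e⟩ := hstep r hr a (phi_le D ha) y
    rw [e]
    exact commutator_mem_commutator ha hd
  have hc2 : ⁅⁅phi p (⊤ : Subgroup S), ⊤⁆, ⊤⁆ ≤ ⁅⁅phi p D, D⁆, D⁆ := commutator_le.mpr fun x hx y _ => by
    obtain ⟨d, hd, e⟩ := hstep 1 (one_mem _) x (comm_le_self D (hc1 hx)) y
    rw [one_mul] at e
    rw [e]
    exact commutator_mem_commutator (hc1 hx) hd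
  have hff : phi p (phi p (⊤ : Subgroup S)) ≤ phi p (phi p D) := by
    refine (phi_mono hphi).trans (le_of_eq (phi_sup_central ?_ ?_ hRp))
    · exact fun a _ r hr => (mem_center_iff.mp (hRZ hr) a).symm
    · exact hRZ.trans (center_le_cc _)
  have hS0 : szero p (⊤ : Subgroup S) ≤ szero p D := by
    unfold szero
    split_ifs with h2 h3
    · exact sup_le_sup hc1 hff
    · exact sup_le_sup hc2 hff
    · refine sup_le_sup hc1 ((Subgroup.closure_le _).mpr ?_)
      rintro _ ⟨x, -, rfl⟩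
      obtain ⟨w, hw, v, hv, d, hd, rfl⟩ := hdec x
      have hl : ⁅v, w⁆ ∈ R := commutator_mem_commutator hv hw
      have hz := mem_center_iff.mp (hRZ hl)
      obtain ⟨c, hc⟩ : p ∣ p.choose 2 := (Fact.out : p.Prime).dvd_choose_self two_ne_zero
        (lt_of_le_of_ne (Fact.out : p.Prime).two_le (Ne.symm h2))
      refine Subgroup.subset_closure ⟨d, hd, ?_⟩
      rw [pow_one, (hcwd w hw v hv d hd).mul_pow, H31.PushUp.mul_pow_class_two (l := ⁅v, w⁆)
        (by simp only [commutatorElement_def]; group) (hz w).symm (hz v).symm, k.V_pow h hw, i.V_pow h hv,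
        hc, pow_mul, hRp _ hl, one_pow, one_mul, one_mul, one_mul]
  have hQ : szero p (⊤ : Subgroup S) ≤ szero p i.Q := hS0.trans (szero_mono inf_le_left)
  have hX := i.nrm_inf i.nrm_V (i.nrm_szero i.nrm_Q)
  have hXZ : i.V ⊓ szero p i.Q ≤ center S := by
    rw [← cc_top, ← hi, cc_sup, k.cc_V h]
    exact le_inf ((inf_le_right.trans (szero_mono le_top)).trans (hS0.trans ((szero_le D).trans inf_le_right)))
      inf_le_left
  exact (le_inf (inf_le_left.trans i.center_le_V) (inf_le_right.trans hQ)).trans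
    (i.le_Fix_of_nrm hX hXZ)

end Mem

end Cfsg.Agent.H42.PairPush
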