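import Cfsg.Agent.H42.PairPush.Engel
import Cfsg.Agent.H42.PairPush.SZero

/-!
# The symmetric case of critical distance two
-/

set_option autoImplicit false
set_option linter.unusedSectionVars false

namespace Cfsg.Agent.H42.PairPush

open Subgroup Cfsg.Agent Cfsg.Agent.H62 Cfsg.Agent.H60
open Cfsg.Agent.H31.PushUp (NatLayer PreLayer Sec mem_Sec up up_mem up_entries)
open Cfsg.Agent.H46.PushUp (phi phi_mono phi_le phi_sup_central)
open scoped Pointwise commutatorElement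

universe u

variable {p : ℕ} [Fact p.Prime] {S : Type u} [Group S] [Finite S]

/-- A normal subgroup containing all commutators and powers of generators contains `phi`. -/
theorem phi_top_le {K : Subgroup S} [K.Normal] {T : Set S} (hT : Subgroup.closure T = ⊤)
    (hc : ∀ a ∈ T, ∀ b ∈ T, ⁅a, b⁆ ∈ K) (hp : ∀ a ∈ T, a ^ p ∈ K) : phi p (⊤ : Subgroup S) ≤ K := by
  let f := QuotientGroup.mk' K
  have h0 : ∀ {x : S}, x ∈ K ↔ f x = 1 := fun {x} => (QuotientGroup.eq_one_iff x).symm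
  have hcomm : ∀ a b : S, f a * f b = f b * f a := by
    have h1 : ∀ a ∈ T, ∀ b : S, f a * f b = f b * f a := fun a ha b => by
      have : Subgroup.closure T ≤ (centralizer ({f a} : Set (S ⧸ K))).comap f := by
        refine (Subgroup.closure_le _).mpr fun b hb => mem_centralizer_singleton_iff.mpr ?_
        exact (commutatorElement_eq_one_iff_mul_comm.mp (by rw [← map_commutatorElement]; exact h0.mp (hc a ha b hb))).symm
      exact (mem_centralizer_singleton_iff.mp (this (hT ▸ mem_top b))).symm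
    intro a b
    have : Subgroup.closure T ≤ (centralizer ({f b} : Set (S ⧸ K))).comap f :=
      (Subgroup.closure_le _).mpr fun a ha => mem_centralizer_singleton_iff.mpr (h1 a ha b)
    exact mem_centralizer_singleton_iff.mp (this (hT ▸ mem_top a))
  refine (Subgroup.closure_le _).mpr ?_
  rintro _ (⟨a, -, b, -, rfl⟩ | ⟨a, -, rfl⟩)
  · exact h0.mpr (by rw [map_commutatorElement]; exact commutatorElement_eq_one_iff_mul_comm.mpr (hcomm a b))
  · let E : Subgroup S :=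
      { carrier := {x | f x ^ p = 1}
        one_mem' := by show f 1 ^ p = 1; rw [map_one, one_pow]
        mul_mem' := fun {x y} (hx : f x ^ p = 1) (hy : f y ^ p = 1) => by
          show f (x * y) ^ p = 1
          rw [map_mul, (show Commute (f x) (f y) from hcomm x y).mul_pow, hx, hy, one_mul]
        inv_mem' := fun {x} (hx : f x ^ p = 1) => by
          show f x⁻¹ ^ p = 1
          rw [map_inv, inv_pow, hx, inv_one] }
    have : Subgroup.closure T ≤ E := (Subgroup.closure_le _).mpr fun x hx => by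
      show f x ^ p = 1
      rw [← map_pow]; exact h0.mp (hp x hx)
    exact h0.mpr (by rw [map_pow]; exact this (hT ▸ mem_top a))

namespace Mem

/-- The closure of a pair of centres. -/
def clPair (i k : Mem p S) : Subgroup S := i.cl (i.V ⊔ k.V)

/-- The symmetric configuration. -/
structure SymPair (i k : Mem p S) : Prop where
  hik : i.V ≤ k.Q
  hki : k.V ≤ i.Q
  aik : Arrow i k
  aki : Arrow k i
  out_i : ¬ clPair i k ≤ k.Q
  out_k : ¬ clPair k i ≤ i.Q

namespace SymPair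

variable {i k : Mem p S} (h : Std p S) (s : SymPair i k)

theorem symm (s : SymPair i k) : SymPair k i := ⟨s.hki, s.hik, s.aki, s.aik, s.out_k, s.out_i⟩

include h s

theorem le_upper : clPair i k ≤ i.upper :=
  i.cl_le_upper (sup_le (V_le_upper_self h) (V_le_upper h s.hki s.aik))

theorem nrm : i.Nrm (clPair i k) := i.nrm_cl (sup_le i.V_le_Q s.hki)

theorem le_Q : clPair i k ≤ i.Q := (s.le_upper h).trans i.upper_le_Q

omit h in
theorem V_le : i.V ≤ clPair i k ∧ k.V ≤ clPair i k :=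
  ⟨le_sup_left.trans (i.le_cl _), le_sup_right.trans (i.le_cl _)⟩

theorem comm_fix {y q : S} (hy : y ∈ clPair i k) (hq : q ∈ i.Q) : ⁅y, q⁆ ∈ i.Fix :=
  (i.mem_upper.mp (s.le_upper h hy)).2.1 q hq

theorem comm_fix' {y q : S} (hy : y ∈ clPair i k) (hq : q ∈ i.Q) : ⁅q, y⁆ ∈ i.Fix := by
  rw [← commutatorElement_inv]; exact inv_mem (s.comm_fix h hy hq)

theorem pow_fix {y : S} (hy : y ∈ clPair i k) : y ^ p ∈ i.Fix := (i.mem_upper.mp (s.le_upper h hy)).2.2

theorem side (hoff : Nat.card (clPair i k) * Nat.card ↥(clPair k i ⊓ i.Q) ≤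
    Nat.card (clPair k i) * Nat.card ↥(clPair i k ⊓ k.Q)) :
    ∃ N : NatLayer i.R (i.V.map i.τ) ((clPair i k).map i.τ), clPair k i ⊔ i.Q = ⊤ ∧
      (∀ y ∈ clPair i k, (N.ψ (i.τ y) 1 = 0 ↔ y ∈ k.Q)) ∧
      Nat.card (clPair k i) * Nat.card ↥(clPair i k ⊓ k.Q) ≤
        Nat.card (clPair i k) * Nat.card ↥(clPair k i ⊓ i.Q) := by
  set Y := clPair i k with hY
  set M := clPair k i with hM
  haveI : (i.V.map i.τ).Normal := i.nrm_V
  haveI : (Y.map i.τ).Normal := s.nrm h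
  have hpre : ∀ {H : Subgroup S}, H.map i.τ ≤ (i.P : Subgroup i.G) := fun {H} => by
    rw [← i.map_top]; exact map_mono le_top
  have hmov : ∃ w ∈ Y.map i.τ, (∀ x ∈ (i.P : Subgroup i.G), ⁅x, w⁆ ∈ i.V.map i.τ) ∧
      ∃ g : i.G, ⁅g, w⁆ ∉ i.V.map i.τ := by
    obtain ⟨w, hw, g, hg⟩ : ∃ w ∈ k.V, ∃ g : i.G, ⁅g, i.τ w⁆ ∉ i.V.map i.τ := by
      by_contra hno
      push Not at hno
      refine s.aik ?_
      refine i.nrm_of (sup_le i.V_le_Q s.hki) fun g => ?_
      rw [i.cjS_sup i.V_le_Q s.hki]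
      refine sup_le ((i.nrm_V.cjS_eq g).le.trans le_sup_left) fun y hy => ?_
      obtain ⟨w, hw, he⟩ := i.exists_of_mem_cjS hy
      obtain ⟨v, hv, he'⟩ := hno w hw g
      have : y = v * w := i.inj (by rw [he, map_mul, he', commutatorElement_def, inv_mul_cancel_right])
      rw [this]
      exact Subgroup.mul_mem _ (mem_sup_left hv) (mem_sup_right hw)
    refine ⟨i.τ w, mem_map_of_mem _ (s.V_le.2 hw), fun x hx => ?_, g, hg⟩
    obtain ⟨x, rfl⟩ := i.exists_pre hx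
    rw [← map_commutatorElement]
    exact mem_map_of_mem _ (i.center_le_V (k.comm_Z h hw x))
  have hFk : ∀ a ∈ M, ∀ d ∈ Y ⊓ k.Q, ⁅a, d⁆ ∈ i.V := fun a ha d hd =>
    i.center_le_V (k.Fix_le_center (s.symm.comm_fix h ha hd.2))
  have hcard : ∀ {H : Subgroup S}, Nat.card ↥(H.map i.τ ⊓ Cfsg.pCore p i.G) = Nat.card ↥(H ⊓ i.Q) :=
    fun {H} => by rw [← i.map_Q, ← Subgroup.map_inf _ _ _ i.inj, card_map_of_injective i.inj]
  obtain ⟨⟨N⟩, hsup, hA⟩ := H31.PushUp.exists_natLayer i.R (i.V.map i.τ) (Y.map i.τ) (map_mono s.V_le.1)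
    (by
      rintro _ ⟨a, ha, rfl⟩ _ ⟨b, hb, rfl⟩
      rw [← map_commutatorElement]
      exact mem_map_of_mem _ (i.Fix_le_V (s.comm_fix h ha (s.le_Q h hb))))
    (by
      rintro _ ⟨a, ha, rfl⟩
      rw [← map_pow]
      exact mem_map_of_mem _ (i.Fix_le_V (s.pow_fix h ha)))
    (by
      rintro x hx _ ⟨v, hv, rfl⟩
      obtain ⟨q, rfl⟩ := i.pCore_le_range hx
      rw [← map_commutatorElement]
      exact mem_map_of_mem _ (i.Fix_le_V (s.comm_fix' h hv hx)))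
    (M.map i.τ) hpre (fun e => s.out_k fun x hx => e (mem_map_of_mem _ hx))
    (by
      rintro _ ⟨a, -, rfl⟩ _ ⟨b, -, rfl⟩
      rw [← map_commutatorElement]
      exact i.comm_mem_Q h a b)
    (by
      rintro _ ⟨a, -, rfl⟩
      rw [← map_pow]
      exact i.pow_mem_Q h a)
    ((Y ⊓ k.Q).map i.τ) (map_mono (le_inf s.V_le.1 s.hik)) (map_mono inf_le_left)
    (by
      rintro _ ⟨a, ha, rfl⟩ _ ⟨d, hd, rfl⟩
      rw [← map_commutatorElement]
      exact mem_map_of_mem _ (hFk a ha d hd))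
    (by
      rw [hcard, card_map_of_injective i.inj, card_map_of_injective i.inj, card_map_of_injective i.inj]
      exact hoff)
    hmov
  rw [hcard, card_map_of_injective i.inj] at hA
  have hline : (Y ⊓ k.Q).map i.τ ≤ N.line := by
    rintro _ ⟨d, hd, rfl⟩
    obtain ⟨a, ha, haQ⟩ := SetLike.not_le_iff_exists.mp s.out_k
    refine ⟨mem_map_of_mem _ hd.1, N.line_of_fixed (i.τ_mem a) haQ (mem_map_of_mem _ hd.1) ?_⟩
    rw [← map_commutatorElement]
    exact mem_map_of_mem _ (hFk a ha d hd)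
  have hN := N.card_line
  rw [card_map_of_injective i.inj] at hN
  have hq : 0 < Fintype.card i.F := Fintype.card_pos
  have hpos : 0 < Nat.card ↥(M ⊓ i.Q) := Nat.card_pos
  have hle : Nat.card N.line ≤ Nat.card ↥(Y ⊓ k.Q) := by
    rw [hN, hA] at hoff
    refine Nat.le_of_mul_le_mul_left ?_ (Nat.mul_pos hq hpos)
    calc _ = Fintype.card i.F * Nat.card N.line * Nat.card ↥(M ⊓ i.Q) := by ring
      _ ≤ _ := hoff
      _ = _ := by ring
  have heq : (Y ⊓ k.Q).map i.τ = N.line :=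
    eq_of_le_of_card_ge hline (by rw [card_map_of_injective i.inj]; exact hle)
  refine ⟨N, map_injective i.inj (by rw [Subgroup.map_sup, i.map_Q, hsup, i.map_top]), fun y hy => ?_, ?_⟩
  · constructor
    · intro h1
      have : i.τ y ∈ (Y ⊓ k.Q).map i.τ := heq ▸ (show i.τ y ∈ N.line from ⟨mem_map_of_mem _ hy, h1⟩)
      exact (i.mem_map.mp this).2
    · intro hyQ
      exact (heq ▸ mem_map_of_mem i.τ (mem_inf.mpr ⟨hy, hyQ⟩) : i.τ y ∈ N.line).2
  · rw [hN, hA, show Nat.card N.line = Nat.card ↥(Y ⊓ k.Q) by rw [← heq, card_map_of_injective i.inj]]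
    exact le_of_eq (by ring)

theorem layer : ∃ N : NatLayer i.R (i.V.map i.τ) ((clPair i k).map i.τ), clPair k i ⊔ i.Q = ⊤ ∧
    (∀ y ∈ clPair i k, (N.ψ (i.τ y) 1 = 0 ↔ y ∈ k.Q)) := by
  rcases le_total (Nat.card (clPair i k) * Nat.card ↥(clPair k i ⊓ i.Q))
      (Nat.card (clPair k i) * Nat.card ↥(clPair i k ⊓ k.Q)) with ho | ho
  · obtain ⟨N, h1, h2, -⟩ := s.side h ho
    exact ⟨N, h1, h2⟩
  · obtain ⟨-, -, -, h3⟩ := s.symm.side h ho
    obtain ⟨N, h1, h2, -⟩ := s.side h h3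
    exact ⟨N, h1, h2⟩

section LayerFacts

variable (N : NatLayer i.R (i.V.map i.τ) ((clPair i k).map i.τ))
  (hN : ∀ y ∈ clPair i k, (N.ψ (i.τ y) 1 = 0 ↔ y ∈ k.Q))
include hN

/-- Elements over the zero vector are central in the closure. -/
theorem zero_central {f y : S} (hf : f ∈ clPair i k) (h0 : N.ψ (i.τ f) = 0) (hy : y ∈ clPair i k) :
    f * y = y * f := by
  have hle : clPair i k ≤ cc (zpowers f) := by
    refine iSup_le fun g v hv => ?_
    obtain ⟨v0, hv0, he⟩ := i.exists_of_mem_cjS hv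
    obtain ⟨f0, hf0, he'⟩ := i.exists_conj (s.le_Q h) g⁻¹ hf
    rw [(s.nrm h).cjS_eq] at hf0
    have hψ : N.ψ (i.τ f0) = 0 := by
      rw [he', N.equiv g⁻¹ _ (mem_map_of_mem _ hf), h0, Matrix.mulVec_zero]
    have hf0Q : f0 ∈ k.Q := (hN f0 hf0).mp (by rw [hψ]; rfl)
    have hle0 : i.V ⊔ k.V ≤ cc (zpowers f0) := sup_le
      (fun v hv z hz => i.V_comm_Q (zpowers_le.mpr (s.le_Q h hf0) hz) hv)
      (fun v hv z hz => k.V_comm_Q (zpowers_le.mpr hf0Q hz) hv)
    have hc : Commute f0 v0 := (hle0 hv0) f0 (mem_zpowers f0)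
    have hc' : Commute f v := by
      apply i.inj
      have := congrArg i.τ hc.eq
      rw [map_mul, map_mul, he'] at this
      rw [map_mul, map_mul, he]
      calc i.τ f * (g * i.τ v0 * g⁻¹) = g * (g⁻¹ * i.τ f * g⁻¹⁻¹ * i.τ v0) * g⁻¹ := by group
        _ = g * (i.τ v0 * (g⁻¹ * i.τ f * g⁻¹⁻¹)) * g⁻¹ := by rw [this]
        _ = _ := by group
    intro z hz
    obtain ⟨n, rfl⟩ := hz
    exact (hc'.zpow_left n).eq
  exact hle hy f (mem_zpowers f)

/-- An Engel value outside the fixed points. -/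
theorem exists_engel (hfull : clPair k i ⊔ i.Q = ⊤) :
    ∃ u ∈ clPair i k, ∃ m ∈ clPair k i, ⁅⁅u, m⁆, u⁆ ∉ k.Fix := by
  haveI : i.Q.Normal := ⟨fun q hq x => i.Q_conj hq x⟩
  obtain ⟨u, hu, huQ⟩ := SetLike.not_le_iff_exists.mp s.out_i
  obtain ⟨z, hz, hzu⟩ : ∃ z ∈ k.V, ⁅z, u⁆ ∉ k.Fix := by
    by_contra hno
    push Not at hno
    exact k.not_V_le_center h fun z hz =>
      k.comm_fix h huQ hz (by rw [← commutatorElement_inv]; exact inv_mem (hno z hz))
  have hzY := s.V_le.2 hz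
  have hz1 := (hN z hzY).mpr (k.V_le_Q hz)
  have hu1 : N.ψ (i.τ u) 1 ≠ 0 := fun e => huQ ((hN u hu).mp e)
  obtain ⟨x, hx, hxe⟩ := N.surj_S _ (up_mem (-(N.ψ (i.τ z) 0) / N.ψ (i.τ u) 1))
  obtain ⟨x, rfl⟩ := i.exists_pre hx
  obtain ⟨m, hm, q, hq, rfl⟩ := mem_sup_of_normal_right.mp (hfull ▸ mem_top x)
  rw [map_mul, map_mul, (N.ker_S _ (i.τ_mem q)).mpr hq, mul_one] at hxe
  refine ⟨u, hu, m, hm, ?_⟩
  have hmem : ⁅m, u⁆ ∈ clPair i k := by
    rw [commutatorElement_def]; exact mul_mem ((s.nrm h).conj hu m) (inv_mem hu)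
  have hψ : N.ψ (i.τ ⁅u, m⁆) = N.ψ (i.τ z) := by
    rw [← commutatorElement_inv m u, map_inv, N.ψ_inv (mem_map_of_mem _ hmem), map_commutatorElement,
      N.ψ_comm _ (mem_map_of_mem _ hu), hxe]
    obtain ⟨e0, e1⟩ := PreLayer.unitri_mulVec (up_mem (-(N.ψ (i.τ z) 0) / N.ψ (i.τ u) 1)) (N.ψ (i.τ u))
    refine funext (Fin.forall_fin_two.mpr ⟨?_, ?_⟩)
    · simp only [Pi.neg_apply, Pi.sub_apply, e0, H31.PushUp.up_01]
      field_simp
      ring
    · simp only [Pi.neg_apply, Pi.sub_apply, e1, sub_self, neg_zero, hz1]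
  have humem : ⁅u, m⁆ ∈ clPair i k := by rw [← commutatorElement_inv]; exact inv_mem hmem
  set f := z⁻¹ * ⁅u, m⁆ with hf
  have hfY : f ∈ clPair i k := mul_mem (inv_mem hzY) humem
  have hf0 : N.ψ (i.τ f) = 0 := by
    rw [hf, map_mul, map_inv, N.ψ_mul _ (inv_mem (mem_map_of_mem _ hzY)) _ (mem_map_of_mem _ humem),
      N.ψ_inv (mem_map_of_mem _ hzY), hψ, neg_add_cancel]
  rw [show ⁅u, m⁆ = z * f by rw [hf, mul_inv_cancel_left],
    show ⁅z * f, u⁆ = z * ⁅f, u⁆ * z⁻¹ * ⁅z, u⁆ by simp only [commutatorElement_def]; group,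
    comm_eq_one (s.zero_central h N hN hfY hf0 hu), mul_one, mul_inv_cancel, one_mul]
  exact hzu

/-- For odd `p` the line is abelian. -/
theorem line_comm (hp : p ≠ 2) {y y' : S} (hy : y ∈ clPair i k) (hyQ : y ∈ k.Q) (hy' : y' ∈ clPair i k)
    (hyQ' : y' ∈ k.Q) : y * y' = y' * y := by
  obtain ⟨l, hl⟩ := N.surj ⟨!![1, 0; 1, 1], by simp [Matrix.det_fin_two_of]⟩
  obtain ⟨l', hl'⟩ := N.surj ⟨!![1, 0; -1, 1], by simp [Matrix.det_fin_two_of]⟩
  obtain ⟨w, hw⟩ := N.surj ⟨!![0, -1; 1, 0], by simp [Matrix.det_fin_two_of]⟩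
  have hconj : ∀ g : i.G, ∀ {v : S}, v ∈ clPair i k → ∃ v' ∈ clPair i k, i.τ v' = g * i.τ v * g⁻¹ :=
    fun g {v} hv => by
      obtain ⟨v', hv', e⟩ := i.exists_conj (s.le_Q h) g hv
      exact ⟨v', ((s.nrm h).cjS_eq g).le hv', e⟩
  have hinv : ∀ {g : i.G} {a b a' b' : S}, a ∈ clPair i k → b ∈ clPair i k → i.τ a' = g * i.τ a * g⁻¹ →
      i.τ b' = g * i.τ b * g⁻¹ → ⁅a', b'⁆ = ⁅a, b⁆ := fun {g a b a' b'} ha hb e1 e2 => i.inj (by
    rw [map_commutatorElement, e1, e2, ← conj_comm, ← map_commutatorElement,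
      i.Fix_conj (s.comm_fix h ha (s.le_Q h hb)) g])
  -- products decompose
  have hbil : ∀ {a b c d : S}, a ∈ clPair i k → b ∈ clPair i k → c ∈ clPair i k → d ∈ clPair i k →
      ⁅a * b, c * d⁆ = (⁅b, c⁆ * ⁅b, d⁆) * (⁅a, c⁆ * ⁅a, d⁆) := fun {a b c d} ha hb hc hd => by
    have hF : ∀ {x y : S}, x ∈ clPair i k → y ∈ clPair i k → ∀ z, z * ⁅x, y⁆ = ⁅x, y⁆ * z :=
      fun hx hy z => i.Fix_comm (s.comm_fix h hx (s.le_Q h hy)) z
    rw [comm_mul_left (hF hb (mul_mem hc hd) a), comm_mul_right (hF hb hd c), comm_mul_right (hF ha hd c)]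
  have hmod : ∀ {a a' b : S}, a ∈ clPair i k → a' ∈ clPair i k → b ∈ clPair i k →
      N.ψ (i.τ a) = N.ψ (i.τ a') → ⁅a, b⁆ = ⁅a', b⁆ ∧ ⁅b, a⁆ = ⁅b, a'⁆ := fun {a a' b} ha ha' hb e => by
    set f := a'⁻¹ * a with hf
    have hfY : f ∈ clPair i k := mul_mem (inv_mem ha') ha
    have hf0 : N.ψ (i.τ f) = 0 := by
      rw [hf, map_mul, map_inv, N.ψ_mul _ (inv_mem (mem_map_of_mem _ ha')) _ (mem_map_of_mem _ ha),
        N.ψ_inv (mem_map_of_mem _ ha'), e, neg_add_cancel]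
    have hfb := comm_eq_one (s.zero_central h N hN hfY hf0 hb)
    have ea : a = a' * f := by rw [hf, mul_inv_cancel_left]
    have h1 : ⁅a, b⁆ = ⁅a', b⁆ := by
      rw [ea, comm_mul_left (by rw [hfb, mul_one, one_mul]), hfb, one_mul]
    exact ⟨h1, by rw [← commutatorElement_inv a b, h1, commutatorElement_inv]⟩
  have coord : ∀ {v : S}, v ∈ clPair i k → v ∈ k.Q → ∀ {g : i.G} {v' : S} {A : Matrix (Fin 2) (Fin 2) i.F},
      i.τ v' = g * i.τ v * g⁻¹ → (N.e g : Matrix (Fin 2) (Fin 2) i.F) = A →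
      N.ψ (i.τ v') = ![A 0 0 * N.ψ (i.τ v) 0, A 1 0 * N.ψ (i.τ v) 0] := fun {v} hv hvQ {g v' A} e eA => by
    rw [e, N.equiv g _ (mem_map_of_mem _ hv), eA]
    funext j
    fin_cases j <;> simp [Matrix.mulVec, dotProduct, Fin.sum_univ_two, (hN v hv).mpr hvQ]
  obtain ⟨y1, hy1, e1⟩ := hconj l hy
  obtain ⟨y1', hy1', e1'⟩ := hconj l hy'
  obtain ⟨y2, hy2, e2⟩ := hconj l' hy
  obtain ⟨y2', hy2', e2'⟩ := hconj l' hy'
  obtain ⟨v, hv, ev⟩ := hconj w hy
  obtain ⟨v', hv', ev'⟩ := hconj w hy'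
  have cl1 : ∀ {a a1 a2 b : S}, a ∈ clPair i k → a ∈ k.Q → b ∈ clPair i k → a1 ∈ clPair i k → a2 ∈ clPair i k →
      i.τ a1 = l * i.τ a * l⁻¹ → i.τ a2 = l' * i.τ a * l'⁻¹ → i.τ b = w * i.τ a * w⁻¹ →
      N.ψ (i.τ a1) = N.ψ (i.τ (a * b)) ∧ N.ψ (i.τ a2) = N.ψ (i.τ (a * b⁻¹)) :=
    fun {a a1 a2 b} ha haQ hb h1 h2 f1 f2 f3 => by
      have hb0 := coord ha haQ f3 (congrArg Subtype.val hw)
      rw [coord ha haQ f1 (congrArg Subtype.val hl), coord ha haQ f2 (congrArg Subtype.val hl'), map_mul, map_mul,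
        map_inv, N.ψ_mul _ (mem_map_of_mem _ ha) _ (mem_map_of_mem _ hb),
        N.ψ_mul _ (mem_map_of_mem _ ha) _ (inv_mem (mem_map_of_mem _ hb)), N.ψ_inv (mem_map_of_mem _ hb), hb0]
      constructor <;> funext j <;> fin_cases j <;>
        simp [(hN a ha).mpr haQ]
  obtain ⟨p1, p2⟩ := cl1 hy hyQ hv hy1 hy2 e1 e2 ev
  obtain ⟨p1', p2'⟩ := cl1 hy' hyQ' hv' hy1' hy2' e1' e2' ev'
  have q1 : ⁅y, y'⁆ = ⁅y * v, y' * v'⁆ := by
    rw [← hinv hy hy' e1 e1', (hmod hy1 (mul_mem hy hv) hy1' p1).1,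
      (hmod hy1' (mul_mem hy' hv') (mul_mem hy hv) p1').2]
  have q2 : ⁅y, y'⁆ = ⁅y * v⁻¹, y' * v'⁻¹⁆ := by
    rw [← hinv hy hy' e2 e2', (hmod hy2 (mul_mem hy (inv_mem hv)) hy2' p2).1,
      (hmod hy2' (mul_mem hy' (inv_mem hv')) (mul_mem hy (inv_mem hv)) p2').2]
  rw [hbil hy hv hy' hv'] at q1
  rw [hbil hy (inv_mem hv) hy' (inv_mem hv')] at q2
  set β := ⁅y, y'⁆ with hβ
  have hF : ∀ {x z : S}, x ∈ clPair i k → z ∈ clPair i k → ∀ u, u * ⁅x, z⁆ = ⁅x, z⁆ * u :=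
    fun hx hz u => i.Fix_comm (s.comm_fix h hx (s.le_Q h hz)) u
  have inv_r : ∀ {x z : S}, x ∈ clPair i k → z ∈ clPair i k → ⁅x, z⁻¹⁆ = ⁅x, z⁆⁻¹ := fun {x z} hx hz => by
    rw [eq_inv_iff_mul_eq_one, ← comm_mul_right (hF hx hz z⁻¹), inv_mul_cancel, commutatorElement_one_right]
  have inv_l : ∀ {x z : S}, x ∈ clPair i k → z ∈ clPair i k → ⁅x⁻¹, z⁆ = ⁅x, z⁆⁻¹ := fun {x z} hx hz => by
    rw [eq_inv_iff_mul_eq_one, hF hx hz, ← comm_mul_left (hF hx hz x⁻¹), inv_mul_cancel, commutatorElement_one_left]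
  have hvv : ⁅v, v'⁆ = β := hinv hy hy' ev ev'
  rw [inv_l hv hy', inv_r (inv_mem hv) hv', inv_l hv hv', inv_inv, inv_r hy hv', hvv] at q2
  rw [hvv] at q1
  set P := ⁅v, y'⁆
  set Q := ⁅y, v'⁆
  have cP : ∀ u, u * P = P * u := hF hv hy'
  have cQ : ∀ u, u * Q = Q * u := hF hy hv'
  have cβ : ∀ u, u * β = β * u := hF hy hy'
  have hone : β * β = 1 := by
    have h1 : P * Q * β = 1 := by
      apply mul_right_cancel (b := β)
      rw [one_mul]; conv_rhs => rw [q1]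
      rw [mul_assoc P Q β, mul_assoc P (Q * β) β, ← cQ, mul_assoc P β, mul_assoc β]
      rw [cQ, ← mul_assoc P β]
    have h2 : P⁻¹ * Q⁻¹ * β = 1 := by
      apply mul_right_cancel (b := β)
      rw [one_mul]; conv_rhs => rw [q2]
      have cQ' : ∀ u, u * Q⁻¹ = Q⁻¹ * u := fun u => (Commute.inv_right (cQ u)).eq
      rw [mul_assoc P⁻¹ Q⁻¹ β, mul_assoc P⁻¹ (Q⁻¹ * β) β, ← cQ', mul_assoc P⁻¹ β, mul_assoc β]
      rw [cQ', ← mul_assoc P⁻¹ β]
    calc β * β = (P⁻¹ * Q⁻¹)⁻¹ * (P * Q)⁻¹ := by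
          rw [← eq_inv_of_mul_eq_one_right h1, ← eq_inv_of_mul_eq_one_right h2]
      _ = Q * (P * Q⁻¹) * P⁻¹ := by group
      _ = Q * (Q⁻¹ * P) * P⁻¹ := by rw [← cP Q⁻¹]
      _ = 1 := by group
  refine commutatorElement_eq_one_iff_mul_comm.mp ?_
  have hβp : β ^ p = 1 := h.elemZ.2 β (i.Fix_le_center (s.comm_fix h hy (s.le_Q h hy')))
  obtain ⟨n, hn⟩ := (Fact.out : p.Prime).odd_of_ne_two hp
  calc β = β * (β * β) ^ n := by rw [hone, one_pow, mul_one]
    _ = β ^ p := by rw [hn, ← pow_two, ← pow_mul, ← pow_succ']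
    _ = 1 := hβp

end LayerFacts

/-- For odd `p` the closure has exponent `p`. -/
theorem pow_one' (hp : p ≠ 2) {y : S} (hy : y ∈ clPair i k) : y ^ p = 1 := by
  obtain ⟨c, hc⟩ : p ∣ p.choose 2 := (Fact.out : p.Prime).dvd_choose_self two_ne_zero
    (lt_of_le_of_ne (Fact.out : p.Prime).two_le (Ne.symm hp))
  let E : Subgroup S :=
    { carrier := {y | y ∈ i.upper ∧ y ^ p = 1}
      one_mem' := ⟨one_mem _, one_pow _⟩
      mul_mem' := by
        rintro a b ⟨ha, ha'⟩ ⟨hb, hb'⟩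
        have hl := (i.mem_upper.mp hb).2.1 a ha.1
        refine ⟨mul_mem ha hb, ?_⟩
        rw [H31.PushUp.mul_pow_class_two (l := ⁅b, a⁆) (by simp only [commutatorElement_def]; group)
          (i.Fix_comm hl a).symm (i.Fix_comm hl b).symm, ha', hb', hc, pow_mul,
          h.elemZ.2 _ (i.Fix_le_center hl), one_pow, one_mul, one_mul]
      inv_mem' := fun {a} ha => ⟨inv_mem ha.1, by rw [inv_pow, ha.2, inv_one]⟩ }
  have hle : i.cl (i.V ⊔ k.V) ≤ E := by
    refine i.cl_le (i.nrm_of (fun x hx => hx.1.1) fun g z hz => ?_) ?_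
    · obtain ⟨x, hx, he⟩ := i.exists_of_mem_cjS hz
      refine ⟨(i.nrm_upper.cjS_eq g).le (i.mem_cjS_of_eq hx.1 he), i.inj ?_⟩
      rw [map_pow, he, conj_pow, ← map_pow, hx.2, map_one, mul_one, mul_inv_cancel]
    · exact sup_le (fun v hv => ⟨V_le_upper_self h hv, i.V_pow h hv⟩)
        fun v hv => ⟨V_le_upper h s.hki s.aik hv, k.V_pow h hv⟩
  exact (hle hy).2

/-- In the symmetric configuration the centre part of `szero` is fixed. -/
theorem fix : center S ⊓ szero p (⊤ : Subgroup S) ≤ i.Fix := by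
  obtain ⟨N, hMfull, hN⟩ := s.layer h
  obtain ⟨N', hYfull, hN'⟩ := s.symm.layer h
  obtain ⟨u, hu, m, hm, hne⟩ := s.exists_engel h N hN hMfull
  haveI : i.Q.Normal := ⟨fun q hq x => i.Q_conj hq x⟩
  haveI : k.Q.Normal := ⟨fun q hq x => k.Q_conj hq x⟩
  have hum : ⁅u, m⁆ ∈ clPair k i := by
    rw [commutatorElement_def]
    exact mul_mem ((s.symm.nrm h).conj hm u) (inv_mem hm)
  rcases eq_or_ne p 2 with hp | hp
  · exfalso
    refine hne ?_
    have hu2 : u ^ 2 ∈ i.Fix := hp ▸ s.pow_fix h hu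
    have hc := i.Fix_comm hu2 m
    rw [pow_two] at hc
    have e : u * ⁅u, m⁆⁻¹ * u⁻¹ = ⁅u, m⁆ := by
      calc u * ⁅u, m⁆⁻¹ * u⁻¹ = u * m * u * m⁻¹ * u⁻¹ * u⁻¹ := by
            simp only [commutatorElement_def]; group
        _ = u * m * u⁻¹ * (u * u) * m⁻¹ * u⁻¹ * u⁻¹ := by group
        _ = u * m * u⁻¹ * (m⁻¹ * (m * (u * u))) * m⁻¹ * u⁻¹ * u⁻¹ := by group
        _ = u * m * u⁻¹ * (m⁻¹ * (u * u * m)) * m⁻¹ * u⁻¹ * u⁻¹ := by rw [hc]
        _ = _ := by simp only [commutatorElement_def]; group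
    rw [show ⁅⁅u, m⁆, u⁆ = ⁅u, m⁆ * (u * ⁅u, m⁆⁻¹ * u⁻¹) by simp only [commutatorElement_def]; group, e,
      ← pow_two, ← hp]
    exact s.symm.pow_fix h hum
  have hp3 : p = 3 := engel_three h hp (s.symm.nrm h) N' (fun x y hy => (s.nrm h).conj hy x)
    (fun y hy y' hy' => i.Fix_le_center (s.comm_fix h hy (s.le_Q h hy')))
    (fun q hq w hw => s.symm.comm_fix' h hw hq)
    (fun w hw hw1 y hy => i.Fix_le_center (s.comm_fix h hy ((hN' w hw).mp hw1))) hu hm hne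
  have hlc : ∀ {a b : S}, a ∈ clPair i k → a ∈ k.Q → b ∈ clPair i k → b ∈ k.Q → a * b = b * a :=
    fun ha haQ hb hbQ => s.line_comm h N hN hp ha haQ hb hbQ
  set Y := clPair i k with hY
  set M := clPair k i with hM
  set D := i.Q ⊓ k.Q with hD
  set I := Y ⊓ M with hI
  set Z0 := i.Fix ⊔ k.Fix with hZ0
  have hZ : Z0 ≤ center S := sup_le i.Fix_le_center k.Fix_le_center
  have hT : Subgroup.closure ((Y : Set S) ∪ M ∪ D) = ⊤ := by
    refine top_le_iff.mp fun x _ => ?_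
    obtain ⟨a, ha, q, hq, rfl⟩ := mem_sup_of_normal_right.mp (hMfull ▸ mem_top x)
    obtain ⟨b, hb, d, hd, rfl⟩ := mem_sup_of_normal_right.mp (hYfull ▸ mem_top q)
    refine mul_mem (Subgroup.subset_closure (Or.inl (Or.inr ha))) (mul_mem (Subgroup.subset_closure
      (Or.inl (Or.inl hb))) (Subgroup.subset_closure (Or.inr (mem_inf.mpr ⟨?_, hd⟩))))
    simpa using mul_mem (inv_mem (s.le_Q h hb)) hq
  have hDf : ∀ {y d : S}, (y ∈ Y ∨ y ∈ M) → d ∈ D → ⁅y, d⁆ ∈ Z0 := by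
    rintro y d (hy | hy) hd
    · exact mem_sup_left (s.comm_fix h hy hd.1)
    · exact mem_sup_right (s.symm.comm_fix h hy hd.2)
  have hIm : ∀ {y m : S}, y ∈ Y → m ∈ M → ⁅y, m⁆ ∈ I := fun {y m} hy hm => by
    refine mem_inf.mpr ⟨?_, ?_⟩
    · rw [show ⁅y, m⁆ = y * (m * y⁻¹ * m⁻¹) by simp only [commutatorElement_def]; group]
      exact mul_mem hy ((s.nrm h).conj (inv_mem hy) m)
    · rw [commutatorElement_def]; exact mul_mem ((s.symm.nrm h).conj hm y) (inv_mem hm)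
  have hID : I ≤ D := le_inf (inf_le_left.trans (s.le_Q h)) (inf_le_right.trans (s.symm.le_Q h))
  haveI : D.Normal := by rw [hD]; infer_instance
  haveI : Y.Normal := ⟨fun y hy x => (s.nrm h).conj hy x⟩
  haveI : M.Normal := ⟨fun y hy x => (s.symm.nrm h).conj hy x⟩
  haveI : I.Normal := by rw [hI]; infer_instance
  haveI : Z0.Normal := ⟨fun z hz x => by rwa [mem_center_iff.mp (hZ hz) x, mul_inv_cancel_right]⟩
  set F1 := phi p D with hF1
  have hF1D : F1 ≤ D := phi_le D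
  have hfix : ∀ {y : S}, (y ∈ Y ∨ y ∈ M) → ∀ a ∈ F1, y * a = a * y := by
    intro y hy a ha
    have key : F1 ≤ cc (zpowers y) := by
      have hconj : ∀ d ∈ D, ∃ f ∈ center S, y * d * y⁻¹ = d * f := fun d hd => by
        refine ⟨⁅y, d⁆, hZ (hDf hy hd), ?_⟩
        rw [mem_center_iff.mp (hZ (hDf hy hd)) d, commutatorElement_def, inv_mul_cancel_right]
      refine (Subgroup.closure_le _).mpr ?_
      suffices ∀ a, (∃ d ∈ D, ∃ d' ∈ D, ⁅d, d'⁆ = a) ∨ (∃ d ∈ D, d ^ p = a) → Commute y a by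
        intro a ha z hz
        obtain ⟨n, rfl⟩ := hz
        exact ((this a ha).zpow_left n).eq
      rintro _ (⟨d, hd, d', hd', rfl⟩ | ⟨d, hd, rfl⟩)
      · refine mul_inv_eq_iff_eq_mul.mp ?_
        obtain ⟨f, hf, e⟩ := hconj d hd
        obtain ⟨f', hf', e'⟩ := hconj d' hd'
        rw [conj_comm, e, e', H31.PushUp.comm_mul_comm (mem_center_iff.mp hf' d) (mem_center_iff.mp hf d')
          (mem_center_iff.mp hf d) (mem_center_iff.mp hf' d'),
          comm_eq_one (mem_center_iff.mp hf' f), mul_one]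
      · refine mul_inv_eq_iff_eq_mul.mp ?_
        obtain ⟨f, hf, e⟩ := hconj d hd
        rw [← conj_pow, e, (show Commute d f from mem_center_iff.mp hf d).mul_pow, h.elemZ.2 f hf, mul_one]
    exact key ha y (mem_zpowers y)
  haveI : F1.Normal := by
    refine ⟨fun a ha x => ?_⟩
    have := mem_map_of_mem (MulAut.conj x).toMonoidHom ha
    rw [hF1, H46.PushUp.phi_map, show D.map (MulAut.conj x).toMonoidHom = D from H31.PushUp.cj_normal x] at this
    exact this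
  set K0 := F1 ⊔ (I ⊔ Z0) with hK0
  -- the Frattini subgroup
  have hphi : phi p (⊤ : Subgroup S) ≤ K0 := by
    have hz : ∀ {z : S}, z ∈ Z0 → z ∈ K0 := fun hz => mem_sup_right (mem_sup_right hz)
    refine phi_top_le hT (fun a ha b hb => ?_) fun a ha => ?_
    · rcases ha with (ha | ha) | ha <;> rcases hb with (hb | hb) | hb
      · exact hz (mem_sup_left (s.comm_fix h ha (s.le_Q h hb)))
      · exact mem_sup_right (mem_sup_left (hIm ha hb))
      · exact hz (hDf (Or.inl ha) hb)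
      · rw [← commutatorElement_inv]; exact inv_mem (mem_sup_right (mem_sup_left (hIm hb ha)))
      · exact hz (mem_sup_right (s.symm.comm_fix h ha (s.symm.le_Q h hb)))
      · exact hz (hDf (Or.inr ha) hb)
      · rw [← commutatorElement_inv]; exact inv_mem (hz (hDf (Or.inl hb) ha))
      · rw [← commutatorElement_inv]; exact inv_mem (hz (hDf (Or.inr hb) ha))
      · exact mem_sup_left (Subgroup.subset_closure (Or.inl ⟨a, ha, b, hb, rfl⟩))
    · rcases ha with (ha | ha) | ha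
      · exact hz (mem_sup_left (s.pow_fix h ha))
      · exact hz (mem_sup_right (s.symm.pow_fix h ha))
      · exact mem_sup_left (Subgroup.subset_closure (Or.inr ⟨a, ha, rfl⟩))
  set C1 := ⁅F1, D⁆ with hC1
  set C2 := ⁅C1, D⁆ with hC2
  have hC1F : C1 ≤ F1 := commutator_le.mpr fun a ha d _ => by
    rw [show ⁅a, d⁆ = a * (d * a⁻¹ * d⁻¹) by simp only [commutatorElement_def]; group]
    exact mul_mem ha ((inferInstance : F1.Normal).conj_mem _ (inv_mem ha) d)
  haveI : C1.Normal := by rw [hC1]; infer_instance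
  haveI : C2.Normal := by rw [hC2]; infer_instance
  have hstep : ∀ {H C : Subgroup S} [C.Normal], H ≤ F1 → ⁅H, D⁆ ≤ C → H ≤ Sec C ⊤ := by
    intro H C _ hH hC a ha
    refine mem_Sec.mpr fun x _ => ?_
    have : Subgroup.closure ((Y : Set S) ∪ M ∪ D) ≤ Sec C (zpowers a) := by
      refine (Subgroup.closure_le _).mpr fun x hx => mem_Sec.mpr fun b hb => ?_
      rcases hx with hx | hx
      · rw [comm_eq_one (hfix hx b (zpowers_le.mpr (hH ha) hb))]; exact one_mem _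
      · rw [← commutatorElement_inv]
        exact inv_mem (hC (commutator_mem_commutator (zpowers_le.mpr ha hb) hx))
    rw [← commutatorElement_inv]
    exact inv_mem (mem_Sec.mp (this (hT ▸ mem_top x)) a (mem_zpowers a))
  have hc1 : ⁅phi p (⊤ : Subgroup S), (⊤ : Subgroup S)⁆ ≤ C1 ⊔ Z0 := by
    have : K0 ≤ Sec (C1 ⊔ Z0) (⊤ : Subgroup S) := by
      refine sup_le (hstep le_rfl le_sup_left) (sup_le (fun e he => mem_Sec.mpr fun x _ => ?_)
        fun z hz => mem_Sec.mpr fun x _ => ?_)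
      · have hx : Subgroup.closure ((Y : Set S) ∪ M ∪ D) ≤ Sec (C1 ⊔ Z0) (zpowers e) := by
          refine (Subgroup.closure_le _).mpr fun x hx => mem_Sec.mpr fun b hb => mem_sup_right ?_
          have hb' : b ∈ I := zpowers_le.mpr he hb
          rcases hx with (hx | hx) | hx
          · exact mem_sup_left (s.comm_fix h hx (s.le_Q h hb'.1))
          · exact mem_sup_right (s.symm.comm_fix h hx (s.symm.le_Q h hb'.2))
          · exact mem_sup_left (s.comm_fix' h hb'.1 hx.1)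
        rw [← commutatorElement_inv]
        exact inv_mem (mem_Sec.mp (hx (hT ▸ mem_top x)) e (mem_zpowers e))
      · rw [comm_eq_one (mem_center_iff.mp (hZ hz) x).symm]; exact one_mem _
    exact commutator_le.mpr fun a ha x hx => mem_Sec.mp (this (hphi ha)) x hx
  have hc2 : ⁅⁅phi p (⊤ : Subgroup S), (⊤ : Subgroup S)⁆, (⊤ : Subgroup S)⁆ ≤ C2 := by
    have : C1 ⊔ Z0 ≤ Sec C2 (⊤ : Subgroup S) := sup_le (hstep hC1F le_rfl) fun z hz => mem_Sec.mpr fun x _ => by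
      rw [comm_eq_one (mem_center_iff.mp (hZ hz) x).symm]; exact one_mem _
    exact commutator_le.mpr fun a ha x hx => mem_Sec.mp (this (hc1 ha)) x hx
  have hff : phi p (phi p (⊤ : Subgroup S)) ≤ phi p F1 := by
    refine (phi_mono (hphi.trans (le_of_eq (sup_comm _ _)))).trans (le_of_eq (phi_sup_central ?_ ?_ ?_))
    · intro a ha x hx
      obtain ⟨e, he, z, hz, rfl⟩ := mem_sup_of_normal_right.mp hx
      exact Commute.mul_left (hfix (Or.inl he.1) a ha) (mem_center_iff.mp (hZ hz) a).symm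
    · refine sup_le ?_ (hZ.trans (center_le_cc _))
      intro e he x hx
      obtain ⟨e', he', z, hz, rfl⟩ := mem_sup_of_normal_right.mp hx
      exact Commute.mul_left (hlc he'.1 (s.symm.le_Q h he'.2) he.1 (s.symm.le_Q h he.2))
        (mem_center_iff.mp (hZ hz) e).symm
    · intro x hx
      obtain ⟨e, he, z, hz, rfl⟩ := mem_sup_of_normal_right.mp hx
      rw [(show Commute e z from mem_center_iff.mp (hZ hz) e).mul_pow, s.pow_one' h hp he.1,
        h.elemZ.2 z (hZ hz), one_mul]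
  have hS0 : szero p (⊤ : Subgroup S) ≤ szero p D := by
    unfold szero
    rw [if_neg hp, if_pos hp3, if_neg hp, if_pos hp3]
    exact sup_le_sup hc2 hff
  have hS0F : szero p D ≤ F1 := by
    unfold szero
    rw [if_neg hp, if_pos hp3]
    exact sup_le ((commutator_le.mpr fun a ha d _ => by
      rw [show ⁅a, d⁆ = a * (d * a⁻¹ * d⁻¹) by simp only [commutatorElement_def]; group]
      exact mul_mem (hC1F ha) ((inferInstance : F1.Normal).conj_mem _ (inv_mem (hC1F ha)) d))) (phi_le _)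
  have hQ : szero p (⊤ : Subgroup S) ≤ szero p i.Q := hS0.trans (szero_mono inf_le_left)
  have hXZ : i.V ⊓ szero p i.Q ≤ center S := by
    rw [← cc_top, ← hMfull, cc_sup]
    refine le_inf (fun x hx y hy => ?_) inf_le_left
    exact hfix (Or.inr hy) x (hS0F (hS0 ((szero_mono le_top) hx.2)))
  exact (le_inf (inf_le_left.trans i.center_le_V) (inf_le_right.trans hQ)).trans
    (i.le_Fix_of_nrm (i.nrm_inf i.nrm_V (i.nrm_szero i.nrm_Q)) hXZ)

end SymPair

end Mem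

end Cfsg.Agent.H42.PairPush
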