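import Cfsg.Agent.H42.PairPush.Torus
import Cfsg.Agent.H42.PairPush.Upper

/-!
# The asymmetric case of critical distance two
-/

set_option autoImplicit false
set_option linter.unusedSectionVars false

namespace Cfsg.Agent.H42.PairPush

open Subgroup Cfsg.Agent Cfsg.Agent.H62 Cfsg.Agent.H60
open Cfsg.Agent.H31.PushUp (Sec mem_Sec up eq_up)
open scoped Pointwise commutatorElement

universe u

variable {p : ℕ} [Fact p.Prime] {S : Type u} [Group S] [Finite S]

namespace Mem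

variable (m : Mem p S)

/-- The elements of the core fixed by the residual. -/
def C0 : Subgroup S := m.Q ⊓ (centralizer (Cfsg.pResidual p m.G : Set m.G)).comap m.τ

theorem mem_C0 {c : S} : c ∈ m.C0 ↔ c ∈ m.Q ∧ ∀ g ∈ Cfsg.pResidual p m.G, g * m.τ c = m.τ c * g := Iff.rfl

theorem nrm_C0 : m.Nrm m.C0 := by
  refine m.nrm_of inf_le_left fun g y hy => ⟨m.cjS_le_Q inf_le_left g hy, fun k hk => ?_⟩
  obtain ⟨x, hx, he⟩ := m.exists_of_mem_cjS hy
  have h1 := hx.2 (g⁻¹ * k * g) (by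
    simpa using (inferInstance : (Cfsg.pResidual p m.G).Normal).conj_mem k hk g⁻¹)
  show k * m.τ y = m.τ y * k
  rw [he]
  calc k * (g * m.τ x * g⁻¹) = g * ((g⁻¹ * k * g) * m.τ x) * g⁻¹ := by group
    _ = g * (m.τ x * (g⁻¹ * k * g)) * g⁻¹ := by rw [h1]
    _ = _ := by group

theorem comm_C0 {c : S} (hc : c ∈ m.C0) (x : S) : ⁅c, x⁆ ∈ m.C0 := by
  rw [show ⁅c, x⁆ = c * (x * c⁻¹ * x⁻¹) by simp only [commutatorElement_def]; group]
  exact mul_mem hc (m.nrm_C0.conj (inv_mem hc) x)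

theorem C0_Fix (h : Std p S) {v : S} (hv : v ∈ m.V) (hc : v ∈ m.C0) : v ∈ m.Fix := by
  rw [← m.ψ_zero_iff h hv]
  have key : ∀ g : m.G, (m.lay h).ψ (g * m.τ v * g⁻¹) 1 = m.ψ h v 1 := by
    intro g
    haveI : (Cfsg.pResidual p m.G).Normal := inferInstance
    have htop : Cfsg.pResidual p m.G ⊔ (m.P : Subgroup m.G) = ⊤ := by
      rw [sup_comm]; exact Cores.sylow_sup_pResidual m.P
    obtain ⟨k, hk, s, hs, rfl⟩ := mem_sup_of_normal_left.mp (htop ▸ mem_top g)
    obtain ⟨s, rfl⟩ := m.exists_pre hs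
    have hs' := (m.mem_C0.mp (m.nrm_C0.conj hc s)).2 k hk
    rw [map_mul, map_mul, map_inv] at hs'
    rw [show k * m.τ s * m.τ v * (k * m.τ s)⁻¹ = k * (m.τ s * m.τ v * (m.τ s)⁻¹) * k⁻¹ by group, hs',
      mul_inv_cancel_right, (m.lay h).equiv _ _ (mem_map_of_mem _ hv),
      (H31.PushUp.PreLayer.unitri_mulVec (m.e_unitri h s) _).2]
    rfl
  obtain ⟨g1, hg1⟩ := (m.lay h).surj ⟨!![1, 0; 1, 1], by simp [Matrix.det_fin_two_of]⟩
  obtain ⟨g2, hg2⟩ := (m.lay h).surj ⟨!![0, -1; 1, 0], by simp [Matrix.det_fin_two_of]⟩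
  have e1 := key g1
  have e2 := key g2
  rw [(m.lay h).equiv _ _ (mem_map_of_mem _ hv), hg1] at e1
  rw [(m.lay h).equiv _ _ (mem_map_of_mem _ hv), hg2] at e2
  simp [Matrix.mulVec, dotProduct, Fin.sum_univ_two, ψ] at e1 e2
  refine funext (Fin.forall_fin_two.mpr ⟨e1, ?_⟩)
  show (m.lay h).ψ (m.τ v) 1 = 0
  rw [← e2]; exact e1

variable {m} {i k l : Mem p S}

/-- The asymmetric configuration does not occur. -/
theorem tame (h : Std p S) (hki : k.V ≤ i.Q) (hli : l.V ≤ i.Q) (hlk : l.V ≤ k.Q) (ak : Arrow i k)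
    (al : Arrow i l) {g : i.G} (hfull : i.cjS g l.V ⊔ k.Q = ⊤) (htame : ¬ Arrow k i) : False := by
  classical
  haveI : k.Q.Normal := ⟨fun q hq s => k.Q_conj hq s⟩
  set Y := i.upper with hY
  have nY : i.Nrm Y := i.nrm_upper
  have hlY : l.V ≤ Y := V_le_upper h hli al
  have hkY : k.V ≤ Y := V_le_upper h hki ak
  have hV2Y : i.cjS g l.V ≤ Y := (i.cjS_mono hlY g).trans (nY.cjS_eq g).le
  obtain ⟨v2, hv2, hv2Q⟩ : ∃ v ∈ i.cjS g l.V, v ∉ k.Q := by
    by_contra hno
    push Not at hno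
    exact k.not_top_le (hfull ▸ sup_le hno le_rfl)
  have hYfull : Y ⊔ k.Q = ⊤ := top_le_iff.mp (hfull ▸ sup_le_sup_right hV2Y _)
  set D := k.Q ⊓ i.Q with hD
  have hDY : ∀ y ∈ Y, ∀ d ∈ D, ⁅d, y⁆ ∈ i.Fix := fun y hy d hd => by
    rw [← commutatorElement_inv]; exact inv_mem ((i.mem_upper.mp hy).2.1 d hd.2)
  have hFV : i.Fix ≤ k.V := i.Fix_le_center.trans k.center_le_V
  have nD : k.Nrm D := by
    have hW : k.Nrm (k.V ⊔ i.V) := not_not.mp htame
    have := k.nrm_inf_cc hW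
    rw [cc_pair h] at this
    rwa [show k.Q ⊓ (k.Q ⊓ i.Q) = D by rw [← inf_assoc, inf_idem]] at this
  have hVD : k.V ≤ D := le_inf k.V_le_Q hki
  -- the residual centralizes the two sections
  set P := Cfsg.pResidual p k.G with hP
  haveI hnD : (D.map k.τ).Normal := nD
  haveI hnV : (k.V.map k.τ).Normal := k.nrm_V
  haveI hnQ : (k.Q.map k.τ).Normal := k.nrm_Q
  have hP1 : P ≤ Sec (k.V.map k.τ) (D.map k.τ) := k.residual_le hv2Q (mem_Sec.mpr (by
    rintro _ ⟨d, hd, rfl⟩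
    rw [← map_commutatorElement]
    refine mem_map_of_mem _ (hFV ?_)
    rw [← commutatorElement_inv]; exact inv_mem (hDY _ (hV2Y hv2) d hd)))
  have hP2 : P ≤ Sec (D.map k.τ) (k.Q.map k.τ) := k.residual_le hv2Q (mem_Sec.mpr (by
    rintro _ ⟨q, hq, rfl⟩
    rw [← map_commutatorElement]
    refine mem_map_of_mem _ (mem_inf.mpr ⟨?_, ?_⟩)
    · rw [commutatorElement_def]; exact mul_mem (k.Q_conj hq v2) (inv_mem hq)
    · have hv2i : v2 ∈ i.Q := nY.le_Q (hV2Y hv2)
      rw [show ⁅v2, q⁆ = v2 * (q * v2⁻¹ * q⁻¹) by simp only [commutatorElement_def]; group]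
      exact mul_mem hv2i (i.Q_conj (inv_mem hv2i) q)))
  have hP3 : P ≤ Sec (k.V.map k.τ) (k.Q.map k.τ) := Cores.pResidual_le fun x hx => mem_Sec.mpr fun q hq => by
    set N := k.V.map k.τ
    let f := QuotientGroup.mk' N
    have hxP : x ∈ P := Cores.mem_pResidual_of_coprime hx
    have hM : IsPGroup p ((D.map k.τ).map f) := ((k.pgroup.to_subgroup D).map _).map _
    refine (QuotientGroup.eq_one_iff _).mp ?_
    show f ⁅x, q⁆ = 1
    rw [map_commutatorElement, commutatorElement_eq_one_iff_mul_comm]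
    refine commute_of_commutator_fixed hM (hx.coprime_dvd_left (orderOf_map_dvd f x)) ?_ ?_
    · rintro _ ⟨d, hd, rfl⟩
      rw [← commutatorElement_eq_one_iff_mul_comm, ← map_commutatorElement]
      exact (QuotientGroup.eq_one_iff _).mpr (mem_Sec.mp (hP1 hxP) d hd)
    · rw [← map_inv, ← map_inv, ← map_mul, ← map_mul, ← map_mul]
      exact mem_map_of_mem f (mem_Sec.mp (hP2 hxP) q hq)
  have hQP : ∀ x ∈ P, ∀ q ∈ k.Q, ∃ v ∈ k.V, x * k.τ q * x⁻¹ = k.τ v * k.τ q := fun x hx q hq => by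
    obtain ⟨v, hv, he⟩ := mem_Sec.mp (hP3 hx) _ (mem_map_of_mem k.τ hq)
    exact ⟨v, hv, by rw [he, commutatorElement_def, inv_mul_cancel_right]⟩
  have hQQ : ∀ a ∈ k.Q, ∀ b ∈ k.Q, ⁅a, b⁆ ∈ k.C0 := fun a ha b hb => by
    refine k.mem_C0.mpr ⟨by rw [commutatorElement_def]; exact mul_mem (mul_mem (mul_mem ha hb) (inv_mem ha)) (inv_mem hb),
      fun x hx => mul_inv_eq_iff_eq_mul.mp ?_⟩
    obtain ⟨v, hv, he⟩ := hQP x hx a ha
    obtain ⟨w, hw, he'⟩ := hQP x hx b hb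
    rw [map_commutatorElement, conj_comm, he, he', ← map_mul, ← map_mul, ← map_commutatorElement,
      ← map_commutatorElement]
    congr 1
    have c1 : ∀ q ∈ k.Q, ∀ u ∈ k.V, u * q = q * u := fun q hq u hu => (k.V_comm_Q hq hu).symm
    have hab : ⁅a, b⁆ ∈ k.Q := by
      rw [commutatorElement_def]; exact mul_mem (mul_mem (mul_mem ha hb) (inv_mem ha)) (inv_mem hb)
    rw [H31.PushUp.comm_mul_comm (c1 b hb v hv) (c1 a ha w hw) (c1 a ha v hv) (c1 b hb w hw),
      comm_eq_one (k.V_comm hv hw), one_mul]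
  have hconjQ : ∀ y q : S, q ∈ k.Q → ∀ x ∈ k.Q, y * ⁅x, q⁆ * y⁻¹ ∈ k.C0 := fun y q hq x hx =>
    k.nrm_C0.conj (hQQ x hx q hq) y
  have hcD : ∀ q ∈ k.Q, ∀ y ∈ Y, ⁅q, y⁆ ∈ D := fun q hq y hy => by
    refine mem_inf.mpr ⟨?_, ?_⟩
    · rw [show ⁅q, y⁆ = q * (y * q⁻¹ * y⁻¹) by simp only [commutatorElement_def]; group]
      exact mul_mem hq (k.Q_conj (inv_mem hq) y)
    · rw [commutatorElement_def]; exact mul_mem (i.Q_conj (nY.le_Q hy) q) (inv_mem (nY.le_Q hy))
  -- the triple commutators are fixed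
  have hzero : ∀ q ∈ k.Q, ∀ y ∈ Y, ∀ y' ∈ Y, ⁅⁅q, y⁆, y'⁆ ∈ k.Fix := by
    intro q hq y hy y' hy'
    have hxy : ∀ x ∈ D, ∀ z ∈ Y, ⁅x, z⁆ ∈ k.V := fun x hx z hz => hFV (hDY z hz x hx)
    have hlow : ∀ x ∈ k.C0, ∀ z ∈ Y, x ∈ D → ⁅x, z⁆ ∈ k.Fix := fun x hx z hz hxD =>
      k.C0_Fix h (hxy x hxD z hz) (k.comm_C0 hx z)
    by_cases hyQ : y ∈ k.Q
    · exact hlow _ (hQQ q hq y hyQ) y' hy' (hcD q hq y hy)
    rcases eq_or_ne p 2 with hp | hp
    · -- diagonal values
      set x := ⁅q, y⁆ with hx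
      have hxD := hcD q hq y hy
      have hy2 : y ^ 2 ∈ i.Fix := hp ▸ (i.mem_upper.mp hy).2.2
      have hyx : ⁅x, y⁆ = x * x := by
        have hc := i.Fix_comm hy2 q
        rw [pow_two] at hc
        have e : y * x⁻¹ * y⁻¹ = x := by
          rw [hx]
          calc y * ⁅q, y⁆⁻¹ * y⁻¹ = y * y * q * y⁻¹ * q⁻¹ * y⁻¹ := by
                simp only [commutatorElement_def]; group
            _ = q * (y * y) * y⁻¹ * q⁻¹ * y⁻¹ := by rw [hc]
            _ = _ := by simp only [commutatorElement_def]; group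
        rw [show ⁅x, y⁆ = x * (y * x⁻¹ * y⁻¹) by simp only [commutatorElement_def]; group, e]
      have hdiag : ⁅x, y⁆ ∈ k.Fix := by
        refine k.C0_Fix h (hxy x hxD y hy) ?_
        rw [hyx]
        refine ⟨mul_mem hxD.1 hxD.1, fun g hg => mul_inv_eq_iff_eq_mul.mp ?_⟩
        obtain ⟨v, hv, he⟩ := hQP g hg x hxD.1
        rw [map_mul, show g * (k.τ x * k.τ x) * g⁻¹ = g * k.τ x * g⁻¹ * (g * k.τ x * g⁻¹) by group, he,
          ← map_mul, ← map_mul, ← map_mul]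
        congr 1
        rw [mul_assoc, ← mul_assoc x v x, k.V_comm_Q hxD.1 hv, mul_assoc, ← mul_assoc v v,
          show v * v = 1 by rw [← pow_two, ← hp]; exact k.V_pow h hv, one_mul]
      by_cases hy'Q : y' ∈ k.Q
      · exact k.C0_Fix h (hxy x hxD y' hy') (hQQ x hxD.1 y' hy'Q)
      by_cases hfield : ∃ a : k.F, a ≠ 0 ∧ a ≠ 1
      · obtain ⟨a, ha0, ha1⟩ := hfield
        haveI := k.R.char
        have ha2 : a ^ 2 ≠ 1 := by
          intro e
          haveI : CharP k.F 2 := hp ▸ k.R.char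
          refine ha1 (sub_eq_zero.mp (pow_eq_zero_iff (n := 2) two_ne_zero |>.mp ?_))
          rw [sub_pow_char, e, one_pow, sub_self]
        obtain ⟨n, hn, hnq⟩ := k.exists_comm_torus h ha0 ha2 y
        set q' := n⁻¹ * y with hq'
        have hy_eq : y = n * q' := by rw [hq', mul_inv_cancel_left]
        set r := ⁅q, n⁆ with hr
        have hrV : r ∈ k.V := by
          obtain ⟨v, hv, he⟩ := hQP (k.τ n) hn q hq
          rw [← map_inv, ← map_mul, ← map_mul, ← map_mul] at he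
          have e' := k.inj he
          have : ⁅n, q⁆ = v := by rw [commutatorElement_def, e', mul_inv_cancel_right]
          rw [hr, ← commutatorElement_inv, this]; exact inv_mem hv
        set c := n * ⁅q, q'⁆ * n⁻¹ with hcdef
        have hc : c ∈ k.C0 := hconjQ n q' hnq q hq
        have hxc : x = r * c := by
          rw [hx, hr, hcdef, hy_eq]; simp only [commutatorElement_def]; group
        have hrD : r ∈ D := hVD hrV
        have hcD' : c ∈ D := by
          rw [show c = r⁻¹ * x by rw [hxc, inv_mul_cancel_left]]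
          exact mul_mem (inv_mem hrD) hxD
        have hsplit : ∀ z ∈ Y, ⁅x, z⁆ = ⁅c, z⁆ * ⁅r, z⁆ := fun z hz => by
          rw [hxc, comm_mul_left (i.Fix_comm (hDY z hz c hcD') r)]
        have hry : ⁅r, y⁆ ∈ k.Fix := by
          have := mul_mem (inv_mem (hlow c hc y hy hcD')) hdiag
          rwa [hsplit y hy, inv_mul_cancel_left] at this
        have hrZ : r ∈ center S := k.comm_fix h hyQ hrV (by rw [← commutatorElement_inv]; exact inv_mem hry)
        rw [hsplit y' hy', comm_eq_one (x := r) (mem_center_iff.mp hrZ y').symm, mul_one]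
        exact hlow c hc y' hy' hcD'
      · push Not at hfield
        have h1 : ∀ z : S, z ∉ k.Q → (k.lay h).e (k.τ z) = up 1 := fun z hz => by
          rw [eq_up (k.e_unitri h z), hfield _ (H31.PushUp.PreLayer.unitri_ne_zero (k.e_unitri h z)
            fun e => hz ((k.e_eq_one h).mp e))]
        have hw : y⁻¹ * y' ∈ k.Q := by
          rw [← k.e_eq_one h, map_mul, map_inv, map_mul, map_inv, h1 y hyQ, h1 y' hy'Q, inv_mul_cancel]
        set w := y⁻¹ * y' with hwd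
        have hwY : w ∈ Y := mul_mem (inv_mem hy) hy'
        have hxw : ⁅x, w⁆ ∈ k.Fix := k.C0_Fix h (hxy x hxD w hwY) (hQQ x hxD.1 w hw)
        rw [show y' = y * w by rw [hwd, mul_inv_cancel_left], comm_mul_right (k.Fix_comm hxw y)]
        exact mul_mem hdiag hxw
    · -- an element inverting the centre of the core
      haveI := k.R.char
      obtain ⟨t, j, hco, htN, t00, t10, t01⟩ := k.exists_torus h (a := -1) (neg_ne_zero.mpr one_ne_zero)
      have hodd : Odd (p ^ j) := ((Fact.out : p.Prime).odd_of_ne_two hp).pow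
      rw [hodd.neg_one_pow] at t00
      have t11 : ((k.lay h).e t : Matrix (Fin 2) (Fin 2) k.F) 1 1 = -1 := by
        have := Linear.SL_det_two ((k.lay h).e t)
        rw [t00, t01, zero_mul, sub_zero] at this
        linear_combination -this
      have h2 : (2 : k.F) ≠ 0 := fun e => hp (((Nat.prime_dvd_prime_iff_eq Fact.out Nat.prime_two).mp
        ((CharP.cast_eq_zero_iff k.F p 2).mp (by exact_mod_cast e))))
      have htP : t ∈ P := Cores.mem_pResidual_of_coprime hco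
      have hneg : ∀ v ∈ k.V, (k.lay h).ψ (t * k.τ v * t⁻¹) = - k.ψ h v := fun v hv => by
        rw [(k.lay h).equiv _ _ (mem_map_of_mem _ hv)]
        refine funext (Fin.forall_fin_two.mpr ⟨?_, ?_⟩) <;>
          simp [Matrix.mulVec, dotProduct, Fin.sum_univ_two, ψ, t00, t10, t01, t11]
      have htconj : ∀ z : S, ∃ q'' ∈ k.Q, t * k.τ z * t⁻¹ = k.τ (z * q'') := fun z => by
        obtain ⟨z', hz'⟩ := k.exists_conj_norm htN z
        refine ⟨z⁻¹ * z', ?_, by rw [mul_inv_cancel_left, hz']⟩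
        have e : (k.lay h).e t = -1 := Linear.SL_ext_two (by simp [t00]) (by simp [t01]) (by simp [t10])
          (by simp [t11])
        rw [← k.e_eq_one h, map_mul, map_inv, map_mul, map_inv, hz', map_mul, map_mul, map_inv, e,
          inv_eq_of_mul_eq_one_right (show (-1 : Matrix.SpecialLinearGroup (Fin 2) k.F) * -1 = 1 by
            rw [neg_mul_neg, one_mul]), neg_one_mul, mul_neg_one, neg_neg, inv_mul_cancel]
      -- a fixed representative
      obtain ⟨v, hv, q0, hq0, hfix, rfl⟩ : ∃ v ∈ k.V, ∃ q0 ∈ k.Q, t * k.τ q0 * t⁻¹ = k.τ q0 ∧ q = v * q0 := by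
        obtain ⟨v, hv, he⟩ := hQP t htP q hq
        obtain ⟨_, ⟨w, hw, rfl⟩, hψw⟩ := (k.lay h).ψ_surj ((2 : k.F)⁻¹ • k.ψ h v)
        have hwq : w * q ∈ k.Q := mul_mem (k.V_le_Q hw) hq
        refine ⟨w⁻¹, inv_mem hw, w * q, hwq, ?_, by rw [inv_mul_cancel_left]⟩
        obtain ⟨w', hw', hew⟩ := k.exists_conj k.V_le_Q t hw
        rw [k.nrm_V.cjS_eq] at hw'
        set f := w' * v * w⁻¹ with hf
        have hfV : f ∈ k.V := mul_mem (mul_mem hw' hv) (inv_mem hw)
        have hfF : f ∈ k.Fix := by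
          rw [← k.ψ_zero_iff h hfV, hf, k.ψ_mul h (mul_mem hw' hv) (inv_mem hw), k.ψ_mul h hw' hv,
            show k.ψ h w' = -k.ψ h w by rw [ψ, hew, hneg w hw],
            show k.ψ h w⁻¹ = -k.ψ h w by rw [ψ, map_inv, (k.lay h).ψ_inv (mem_map_of_mem _ hw)]; rfl,
            show k.ψ h w = (2 : k.F)⁻¹ • k.ψ h v from hψw]
          funext a
          simp only [Pi.add_apply, Pi.neg_apply, Pi.smul_apply, smul_eq_mul, Pi.zero_apply]
          field_simp
          ring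
        have e : t * k.τ (w * q) * t⁻¹ * (k.τ (w * q))⁻¹ = k.τ f := by
          rw [map_mul, show t * (k.τ w * k.τ q) * t⁻¹ = t * k.τ w * t⁻¹ * (t * k.τ q * t⁻¹) by group, he, ← hew,
            hf, map_mul, map_mul, map_inv]
          group
        rw [mul_inv_eq_iff_eq_mul]
        refine commute_of_commutator_fixed (M := k.Fix.map k.τ) ((k.pgroup.to_subgroup _).map _) hco ?_ ?_
        · rintro _ ⟨z, hz, rfl⟩
          rw [mem_center_iff.mp hz t]
        · rw [e]; exact mem_map_of_mem _ hfF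
      set x := ⁅q0, y⁆ with hx
      have hxD := hcD q0 hq0 y hy
      have hred : ⁅⁅v * q0, y⁆, y'⁆ = ⁅x, y'⁆ := by
        have hvy : ⁅v, y⁆ ∈ center S := by rw [← commutatorElement_inv]; exact inv_mem (k.comm_Z h hv y)
        rw [show ⁅v * q0, y⁆ = v * x * v⁻¹ * ⁅v, y⁆ by rw [hx]; simp only [commutatorElement_def]; group,
          ← k.V_comm_Q hxD.1 hv, mul_inv_cancel_right,
          show ⁅x * ⁅v, y⁆, y'⁆ = x * ⁅⁅v, y⁆, y'⁆ * x⁻¹ * ⁅x, y'⁆ by simp only [commutatorElement_def]; group,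
          comm_eq_one (x := ⁅v, y⁆) (mem_center_iff.mp hvy y').symm, mul_one, mul_inv_cancel, one_mul]
      rw [hred]
      obtain ⟨q1, hq1, he1⟩ := htconj y
      obtain ⟨q2, hq2, he2⟩ := htconj y'
      set c := y * ⁅q0, q1⁆ * y⁻¹ with hcdef
      have hc : c ∈ k.C0 := hconjQ y q1 hq1 q0 hq0
      set vv := ⁅x, y'⁆ with hvv
      have hvvV : vv ∈ k.V := hxy x hxD y' hy'
      obtain ⟨ww, hww, hew⟩ := k.exists_conj k.V_le_Q t hvvV
      rw [k.nrm_V.cjS_eq] at hww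
      have e : ww = ⁅x * c, y' * q2⁆ := by
        refine k.inj ?_
        rw [hew, hvv, hx, map_commutatorElement, map_commutatorElement, conj_comm, conj_comm, hfix, he1, he2,
          ← map_commutatorElement, ← map_commutatorElement]
        congr 2
        rw [hcdef]; simp only [commutatorElement_def]; group
      have hdiff : ww * vv⁻¹ ∈ k.Fix := by
        refine k.C0_Fix h (mul_mem hww (inv_mem hvvV)) ?_
        rw [e, hvv, show ⁅x * c, y' * q2⁆ * ⁅x, y'⁆⁻¹ = x * ⁅c, y' * q2⁆ * x⁻¹ *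
          (⁅x, y'⁆ * (y' * ⁅x, q2⁆ * y'⁻¹) * ⁅x, y'⁆⁻¹) by simp only [commutatorElement_def]; group]
        exact mul_mem (k.nrm_C0.conj (k.comm_C0 hc _) x) (k.nrm_C0.conj (hconjQ y' q2 hq2 x hxD.1) _)
      rw [← k.ψ_zero_iff h hvvV]
      have h0 := (k.ψ_zero_iff h (mul_mem hww (inv_mem hvvV))).mpr hdiff
      rw [k.ψ_mul h hww (inv_mem hvvV), show k.ψ h ww = -k.ψ h vv by rw [ψ, hew, hneg vv hvvV],
        show k.ψ h vv⁻¹ = -k.ψ h vv by rw [ψ, map_inv, (k.lay h).ψ_inv (mem_map_of_mem _ hvvV)]; rfl] at h0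
      funext a
      have := congrFun h0 a
      simp only [Pi.add_apply, Pi.neg_apply, Pi.zero_apply] at this ⊢
      exact (mul_eq_zero.mp (show (2 : k.F) * k.ψ h vv a = 0 by linear_combination -this)).resolve_left h2
  -- the radical
  have hYY : ∀ z ∈ Y, ∀ y ∈ Y, ⁅z, y⁆ ∈ i.Fix := fun z hz y hy => (i.mem_upper.mp hz).2.1 y (nY.le_Q hy)
  let Ys : Subgroup S :=
    { carrier := {z | z ∈ Y ∧ ∀ y ∈ Y, ⁅z, y⁆ ∈ k.Fix}
      one_mem' := ⟨one_mem _, fun y _ => by rw [commutatorElement_one_left]; exact one_mem _⟩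
      mul_mem' := by
        rintro a b ⟨ha, ha'⟩ ⟨hb, hb'⟩
        refine ⟨mul_mem ha hb, fun y hy => ?_⟩
        rw [comm_mul_left (k.Fix_comm (hb' y hy) a)]
        exact mul_mem (hb' y hy) (ha' y hy)
      inv_mem' := by
        rintro a ⟨ha, ha'⟩
        refine ⟨inv_mem ha, fun y hy => ?_⟩
        rw [show ⁅a⁻¹, y⁆ = a⁻¹ * ⁅a, y⁆⁻¹ * a by simp only [commutatorElement_def]; group,
          k.Fix_comm (inv_mem (ha' y hy)) a⁻¹, inv_mul_cancel_right]
        exact inv_mem (ha' y hy) }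
  have nYs : i.Nrm Ys := by
    refine i.nrm_of (fun z hz => nY.le_Q hz.1) fun g z hz => ?_
    obtain ⟨x, hx, he⟩ := i.exists_of_mem_cjS hz
    refine ⟨(nY.cjS_eq g).le (i.mem_cjS_of_eq hx.1 he), fun y hy => ?_⟩
    obtain ⟨y0, hy0, he'⟩ := i.exists_conj i.upper_le_Q g⁻¹ hy
    rw [nY.cjS_eq] at hy0
    have e : ⁅z, y⁆ = ⁅x, y0⁆ := by
      refine i.inj ?_
      rw [← i.Fix_conj (hYY x hx.1 y0 hy0) g, map_commutatorElement, map_commutatorElement, conj_comm, he, he']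
      group
    rw [e]; exact hx.2 y0 hy0
  have hsub : ∀ s : S, ∀ y ∈ Y, ⁅s, y⁆ ∈ Ys := by
    intro s y hy
    obtain ⟨y1, hy1, q, hq, rfl⟩ := mem_sup_of_normal_right.mp (hYfull ▸ mem_top s)
    rw [show ⁅y1 * q, y⁆ = y1 * ⁅q, y⁆ * y1⁻¹ * ⁅y1, y⁆ by simp only [commutatorElement_def]; group]
    refine mul_mem (nYs.conj ⟨?_, fun z hz => hzero q hq y hy z hz⟩ y1) ?_
    · rw [commutatorElement_def]; exact mul_mem (nY.conj hy q) (inv_mem hy)
    · refine ⟨?_, fun z _ => ?_⟩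
      · rw [commutatorElement_def]; exact mul_mem (nY.conj hy y1) (inv_mem hy)
      · rw [comm_eq_one (i.Fix_comm (hYY y1 hy1 y hy) z).symm]; exact one_mem _
  haveI : (Ys.map i.τ).Normal := nYs
  haveI : (Y.map i.τ).Normal := nY
  have hall : Sec (Ys.map i.τ) (Y.map i.τ) = ⊤ := i.R.le_of_normal inferInstance fun s hs => by
    obtain ⟨s, rfl⟩ := i.exists_pre hs
    refine mem_Sec.mpr ?_
    rintro _ ⟨y, hy, rfl⟩
    rw [← map_commutatorElement]
    exact mem_map_of_mem _ (hsub s y hy)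
  refine k.not_V_le_center h fun z hz => k.comm_fix h hv2Q hz ?_
  obtain ⟨v, hv, he⟩ := i.exists_of_mem_cjS hv2
  obtain ⟨w, hw, hew⟩ := mem_Sec.mp (hall ▸ mem_top g : g ∈ Sec (Ys.map i.τ) (Y.map i.τ)) _
    (mem_map_of_mem i.τ (hlY hv))
  have e : v2 = w * v := by
    refine i.inj ?_
    rw [he, map_mul, hew, commutatorElement_def, inv_mul_cancel_right]
  rw [e, ← commutatorElement_inv]
  refine inv_mem ?_
  rw [show ⁅z, w * v⁆ = ⁅z, w⁆ * (w * ⁅z, v⁆ * w⁻¹) by simp only [commutatorElement_def]; group,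
    comm_eq_one (k.V_comm_Q (hlk hv) hz).symm, mul_one, mul_inv_cancel, mul_one, ← commutatorElement_inv]
  exact inv_mem (hw.2 z (hkY hz))

end Mem

end Cfsg.Agent.H42.PairPush
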