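import Cfsg.Agent.H42.PairPush.Twist
import Cfsg.Agent.H42.PairPush.Tame
import Cfsg.Agent.H42.PairPush.Sym

/-!
# One characteristic subgroup for all members
-/

set_option autoImplicit false
set_option linter.unusedSectionVars false

namespace Cfsg.Agent.H42.PairPush

open Subgroup Cfsg.Agent Cfsg.Agent.H62 Cfsg.Agent.H60 Monoid
open scoped Pointwise commutatorElement

universe u

variable {p : ℕ} [Fact p.Prime] {S : Type u} [Group S] [Finite S]

namespace Graph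

variable {J : Type (u + 1)} {μ : J → Mem p S}

theorem not_far_one (h : Std p S) (hS1 : ∀ j, ¬ center S ⊓ szero p (⊤ : Subgroup S) ≤ (μ j).Fix) :
    ¬ Far μ 1 := by
  rintro ⟨j, x, l, ⟨k, y, g, ⟨rfl, g0, rfl⟩, rfl⟩, hne⟩
  rw [← cj_cj, cj_V', ← cj_Q' μ k g0, cj_le_cj_iff] at hne
  have hne' : ¬ (μ l).V ≤ (μ k).Q := fun e => hne (map_mono e)
  have hne2 : ¬ (μ k).V ≤ (μ l).Q := fun e => hne' (Mem.V_le_Q_swap h e)
  have hb : ∀ n < 1, ¬ Far μ n := fun n hn => by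
    rw [Nat.lt_one_iff.mp hn]
    exact not_far_zero μ
  have key : ∀ a c : J, ¬ (μ c).V ≤ (μ a).Q → (μ c).V ⊔ (μ a).Q = ⊤ := by
    intro a c hac
    have w : Win (b := 1) μ a c 1 a c := ⟨⟨rfl, 1, (map_one _).symm⟩, ⟨rfl, 1, (map_one _).symm⟩, by
      rw [cj_one]
      exact fun e => hac ((map_le_map_iff_of_injective (σ_inj μ)).mp e)⟩
    obtain ⟨A, hA, -, hfull⟩ := w.full μ hb h le_rfl
    rw [cj_one] at hA
    rwa [map_injective (σ_inj μ) hA] at hfull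
  exact hS1 k (Mem.fix_of_pair h (key k l hne') (key l k hne2))

theorem not_far_two (h : Std p S) (hS1 : ∀ j, ¬ center S ⊓ szero p (⊤ : Subgroup S) ≤ (μ j).Fix)
    (hb : ∀ n < 2, ¬ Far μ n) : ¬ Far μ 2 := by
  rintro ⟨k, x, l, hx, hne⟩
  obtain ⟨g0, i, y, rfl, hy⟩ := exists_left μ (n := 1) hx
  rw [← cj_cj, ← cj_Q' μ k g0, cj_le_cj_iff] at hne
  obtain ⟨i', y0, g1, ⟨rfl, g, rfl⟩, rfl⟩ := hy
  rw [← cj_cj, cj_V'] at hne
  have hVQ := V_le μ hb le_rfl
  have w : Win (b := 2) μ k i' (ι μ i' g) i' l :=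
    ⟨⟨i', ι μ i' g, 1, ⟨rfl, g, rfl⟩, by simp⟩, ⟨k, 1, g, ⟨rfl, 1, (map_one _).symm⟩, by simp⟩, hne⟩
  have aik := w.arrow μ hb h (by omega) le_rfl
  have ail := (w.inv μ hb h (by omega)).arrow μ hb h (by omega) le_rfl
  obtain ⟨A, hA, hAQ, hfull⟩ := w.full μ hb h (by omega)
  rw [show cj (V' μ l) (ι μ i' g) = ((μ i').cjS g (μ l).V).map (σ μ) from cj_ι μ (hVQ i' l) g] at hA
  rw [map_injective (σ_inj μ) hA] at hfull
  by_cases aki : Mem.Arrow (μ k) (μ i')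
  · have out : ∀ {a c : J} {z : (μ c).G}, (¬ cj (V' μ a) (ι μ c z) ≤ Q' μ a) →
        ¬ Mem.clPair (μ c) (μ a) ≤ (μ a).Q := fun {a c z} hz hle => hz (by
      rw [show cj (V' μ a) (ι μ c z) = ((μ c).cjS z (μ a).V).map (σ μ) from cj_ι μ (hVQ c a) z]
      exact map_mono ((((μ c).cjS_mono le_sup_right z).trans
        (le_iSup (fun z => (μ c).cjS z ((μ c).V ⊔ (μ a).V)) z)).trans hle))
    obtain ⟨g', hg'⟩ := (μ k).R.exists_not_mem
    have c1 := w.backshift μ hb h (by omega) aki (hVQ k i') hg'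
    rw [← cj_cj, cj_V'] at c1
    have out_k : ¬ Mem.clPair (μ k) (μ i') ≤ (μ i').Q := by
      intro hle
      refine c1 ?_
      rw [show cj (V' μ i') (ι μ k g'⁻¹) = ((μ k).cjS g'⁻¹ (μ i').V).map (σ μ) from cj_ι μ (hVQ k i') g'⁻¹]
      exact map_mono ((((μ k).cjS_mono le_sup_right g'⁻¹).trans
        (le_iSup (fun z => (μ k).cjS z ((μ k).V ⊔ (μ i').V)) g'⁻¹)).trans hle)
    have w' : Win (b := 2) μ i' k (ι μ k g'⁻¹) k i' :=
      ⟨⟨k, ι μ k g'⁻¹, 1, ⟨rfl, g'⁻¹, rfl⟩, by simp⟩, ⟨i', 1, g'⁻¹, ⟨rfl, 1, (map_one _).symm⟩, by simp⟩, c1⟩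
    obtain ⟨g'', hg''⟩ := (μ i').R.exists_not_mem
    have c2 := w'.backshift μ hb h (by omega) aik (hVQ i' k) hg''
    rw [← cj_cj, cj_V'] at c2
    exact hS1 i' (Mem.SymPair.fix h ⟨hVQ k i', hVQ i' k, aik, aki, out c2, out_k⟩)
  · exact Mem.tame h (hVQ i' k) (hVQ i' l) (hVQ k l) aik ail hfull aki

theorem no_far (h : Std p S) (hS1 : ∀ j, ¬ center S ⊓ szero p (⊤ : Subgroup S) ≤ (μ j).Fix) :
    ∀ n, ¬ Far μ n := by
  classical
  by_contra hex
  push Not at hex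
  set b := Nat.find hex with hbdef
  have hfar : Far μ b := Nat.find_spec hex
  have hb : ∀ n < b, ¬ Far μ n := fun n hn => Nat.find_min hex hn
  have h0 : b ≠ 0 := fun e => not_far_zero μ (e ▸ hfar)
  have h2 := le_two μ hb h hfar
  rcases (show b = 1 ∨ b = 2 by omega) with e | e
  · exact not_far_one h hS1 (e ▸ hfar)
  · exact not_far_two h hS1 (e ▸ hb) (e ▸ hfar)

end Graph

/-- There is one characteristic centrally large subgroup, normal in every member moving the centre part of `szero`. -/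
theorem exists_common (h : Std p S) : ∃ S2 : Subgroup S, S2.Characteristic ∧ Cfsg.IsCentrallyLarge S2 ∧
    ∀ m : Mem p S, ¬ m.Nrm (center S ⊓ szero p (⊤ : Subgroup S)) → m.Nrm S2 := by
  classical
  let J := {m : Mem p S // ¬ m.Nrm (center S ⊓ szero p (⊤ : Subgroup S))}
  rcases isEmpty_or_nonempty J with hJ | ⟨⟨j0⟩⟩
  · exact ⟨⊤, inferInstance, h.cl_top, fun m hm => (hJ.false ⟨m, hm⟩).elim⟩
  let μ : J → Mem p S := Subtype.val
  have hfar := Graph.no_far (μ := μ) h fun j e => j.2 (Mem.nrm_of_le_Fix _ e)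
  obtain ⟨Y0, hY0c, hY0⟩ := Graph.exists_invariant μ hfar
  set T : Set (Subgroup S) := {H | ∀ j : J, (μ j).V ≤ H ∧ (μ j).Nrm H} with hT
  set Y := sInf T with hY
  have hY0T : Y0 ∈ T := fun j => ⟨(hY0 j).1, (hY0 j).2.2⟩
  have hYQ : ∀ j, Y ≤ (μ j).Q := fun j => (sInf_le hY0T).trans (hY0 j).2.1
  have hVY : ∀ j, (μ j).V ≤ Y := fun j => le_sInf fun H hH => (hH j).1
  have hYn : ∀ j, (μ j).Nrm Y := fun j => (μ j).nrm_of (hYQ j) fun g => le_sInf fun H hH =>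
    ((μ j).cjS_mono (sInf_le hH) g).trans ((hH j).2.cjS_eq g).le
  obtain ⟨W, ⟨lW, hWY⟩, -, hmax⟩ := exists_large_max
    (P := fun K : Subgroup S => Cfsg.IsCentralizerLarge K ∧ K ≤ Y) (H := (μ j0).V)
    ⟨(μ j0).large_V h, hVY j0⟩ (fun K hK => hK.1) fun K L hK hL => ⟨large_sup hK.1 hL.1, sup_le hK.2 hL.2⟩
  have hVW : ∀ j, (μ j).V ≤ W := fun j => hmax _ ⟨(μ j).large_V h, hVY j⟩
  have hWT : W ∈ T := fun j => ⟨hVW j, (μ j).nrm_of (hWY.trans (hYQ j)) fun g => hmax _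
    ⟨(μ j).large_cjS h lW (hVW j) (hWY.trans (hYQ j)) g,
      ((μ j).cjS_mono hWY g).trans ((hYn j).cjS_eq g).le⟩⟩
  have hYW : Y = W := le_antisymm (sInf_le hWT) hWY
  have lY : Cfsg.IsCentralizerLarge Y := hYW ▸ lW
  have hYc : Y ≤ cc Y := ((sInf_le hY0T).trans hY0c).trans (cc_anti (sInf_le hY0T))
  -- invariance under automorphisms
  have hchar : Y.Characteristic := by
    refine characteristic_iff_le_comap.mpr fun α => sInf_le fun j => ?_
    let j' : J := ⟨(μ j).twist α.symm, fun e => j.2 (by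
      rw [Mem.twist_nrm, Subgroup.map_inf _ _ _ α.symm.injective, char_iff_map inferInstance α.symm,
        szero_map, Subgroup.map_top_of_surjective _ α.symm.surjective] at e
      exact e)⟩
    constructor
    · have h1 := hVY j'
      rw [show μ j' = (μ j).twist α.symm from rfl, Mem.twist_V] at h1
      intro v hv
      refine h1 ?_
      show α.symm (α v) ∈ (μ j).V
      rwa [α.symm_apply_apply]
    · have h1 := hYn j'
      rw [show μ j' = (μ j).twist α.symm from rfl, Mem.twist_nrm] at h1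
      have e : Y.comap α.toMonoidHom = Y.map α.symm.toMonoidHom :=
        (Subgroup.map_equiv_eq_comap_symm' α.symm Y).symm
      rw [e]
      exact h1
  haveI := hchar
  refine ⟨cc Y, inferInstance, cl_iff.mpr ⟨large_cc' lY, (cc_cc lY).le.trans hYc⟩, fun m hm => ?_⟩
  have hn := m.nrm_inf_cc (hYn ⟨m, hm⟩)
  rwa [inf_eq_right.mpr (m.cc_le_Q (hVY ⟨m, hm⟩) h)] at hn

end Cfsg.Agent.H42.PairPush
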