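import Cfsg.Agent.H31.PushUp.Setup
import Cfsg.Agent.H31.PushUp.Factors
import Cfsg.Agent.H31.PushUp.Engel
import Cfsg.Agent.H42.PairPush.Lattice

/-!
# A group having a given `p`-group as Sylow subgroup: subgroups of the `p`-group
-/

set_option autoImplicit false
set_option linter.unusedSectionVars false

namespace Cfsg.Agent.H42.PairPush

open Subgroup Cfsg.Agent Cfsg.Agent.H62 Cfsg.Agent.H60
open scoped Pointwise commutatorElement

universe u

variable {p : ℕ} [Fact p.Prime] {S : Type u} [Group S] [Finite S]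

/-- A member of the family. -/
structure Mem (p : ℕ) [Fact p.Prime] (S : Type u) [Group S] : Type (u + 1) where
  G : Type u
  [grp : Group G]
  [fin : Finite G]
  τ : S →* G
  inj : Function.Injective τ
  P : Sylow p G
  range_eq : τ.range = (P : Subgroup G)
  F : Type
  [fld : Field F]
  [ft : Fintype F]
  R : H31.PushUp.RankOne P F
  cent : centralizer (Cfsg.pCore p G : Set G) ≤ Cfsg.pCore p G
  moved : ¬ ((center S).map τ).Normal

attribute [instance] Mem.grp Mem.fin Mem.fld Mem.ft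

namespace Mem

variable (m : Mem p S)

/-- The largest normal `p`-subgroup. -/
def Q : Subgroup S := (Cfsg.pCore p m.G).comap m.τ
/-- Its centre. -/
def V : Subgroup S := cc m.Q
/-- The elements of `S` which are central in the group. -/
def Fix : Subgroup S := (center m.G).comap m.τ
/-- Normality in the group. -/
def Nrm (H : Subgroup S) : Prop := (H.map m.τ).Normal
/-- Conjugates inside `S`. -/
def cjS (g : m.G) (H : Subgroup S) : Subgroup S := (cj (H.map m.τ) g).comap m.τ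

theorem τ_mem (s : S) : m.τ s ∈ (m.P : Subgroup m.G) := by
  rw [← m.range_eq]; exact ⟨s, rfl⟩

theorem exists_pre {x : m.G} (hx : x ∈ (m.P : Subgroup m.G)) : ∃ s, m.τ s = x := by
  rw [← m.range_eq] at hx; exact hx

theorem map_top : (⊤ : Subgroup S).map m.τ = (m.P : Subgroup m.G) := by
  rw [← m.range_eq, MonoidHom.range_eq_map]

theorem pgroup (m : Mem p S) : IsPGroup p S := m.P.2.of_injective (m.τ.codRestrict _ m.τ_mem) (fun a b h =>
  m.inj (congrArg Subtype.val h))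

theorem pCore_le_range : Cfsg.pCore p m.G ≤ m.τ.range := m.range_eq ▸ Cores.pCore_le_sylow m.P

theorem mem_Q {x : S} : x ∈ m.Q ↔ m.τ x ∈ Cfsg.pCore p m.G := Iff.rfl

theorem map_Q : m.Q.map m.τ = Cfsg.pCore p m.G := map_comap_eq_self m.pCore_le_range

theorem Q_conj {x : S} (hx : x ∈ m.Q) (s : S) : s * x * s⁻¹ ∈ m.Q := by
  show m.τ (s * x * s⁻¹) ∈ Cfsg.pCore p m.G
  rw [map_mul, map_mul, map_inv]
  exact (inferInstance : (Cfsg.pCore p m.G).Normal).conj_mem _ hx _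

theorem mem_map {H : Subgroup S} {x : S} : m.τ x ∈ H.map m.τ ↔ x ∈ H := mem_map_iff_mem m.inj

theorem map_le_pCore {H : Subgroup S} (h : H ≤ m.Q) : H.map m.τ ≤ Cfsg.pCore p m.G :=
  m.map_Q ▸ map_mono h

theorem cj_map_le {H : Subgroup S} (h : H ≤ m.Q) (g : m.G) : cj (H.map m.τ) g ≤ Cfsg.pCore p m.G :=
  (cj_mono (m.map_le_pCore h) g).trans (le_of_eq (H31.PushUp.cj_normal g))

theorem map_cjS {H : Subgroup S} (h : H ≤ m.Q) (g : m.G) : (m.cjS g H).map m.τ = cj (H.map m.τ) g :=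
  map_comap_eq_self ((m.cj_map_le h g).trans m.pCore_le_range)

theorem mem_cjS {H : Subgroup S} {g : m.G} {x : S} : x ∈ m.cjS g H ↔ g⁻¹ * m.τ x * g ∈ H.map m.τ :=
  H60.mem_cj

theorem cjS_le_Q {H : Subgroup S} (h : H ≤ m.Q) (g : m.G) : m.cjS g H ≤ m.Q :=
  comap_mono (m.cj_map_le h g)

theorem cjS_mono {H K : Subgroup S} (h : H ≤ K) (g : m.G) : m.cjS g H ≤ m.cjS g K :=
  comap_mono (cj_mono (map_mono h) g)

theorem cjS_one (H : Subgroup S) : m.cjS 1 H = H := by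
  rw [cjS, cj_one, comap_map_eq_self_of_injective m.inj]

theorem cjS_cjS {H : Subgroup S} (h : H ≤ m.Q) (g k : m.G) : m.cjS g (m.cjS k H) = m.cjS (g * k) H := by
  show (cj ((m.cjS k H).map m.τ) g).comap m.τ = _
  rw [m.map_cjS h, cj_cj]
  rfl

theorem cjS_inv_cancel {H : Subgroup S} (h : H ≤ m.Q) (g : m.G) : m.cjS g (m.cjS g⁻¹ H) = H := by
  rw [m.cjS_cjS h, mul_inv_cancel, cjS_one]

theorem cjS_inv_cancel' {H : Subgroup S} (h : H ≤ m.Q) (g : m.G) : m.cjS g⁻¹ (m.cjS g H) = H := by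
  rw [m.cjS_cjS h, inv_mul_cancel, cjS_one]

theorem card_cjS {H : Subgroup S} (h : H ≤ m.Q) (g : m.G) : Nat.card (m.cjS g H) = Nat.card H := by
  rw [← card_map_of_injective m.inj, m.map_cjS h, card_cj, card_map_of_injective m.inj]

theorem cjS_sup {H K : Subgroup S} (hH : H ≤ m.Q) (hK : K ≤ m.Q) (g : m.G) :
    m.cjS g (H ⊔ K) = m.cjS g H ⊔ m.cjS g K := by
  apply map_injective m.inj
  rw [m.map_cjS (sup_le hH hK), Subgroup.map_sup, Subgroup.map_sup, m.map_cjS hH, m.map_cjS hK, cj_sup]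

theorem cjS_inf (H K : Subgroup S) (g : m.G) : m.cjS g (H ⊓ K) = m.cjS g H ⊓ m.cjS g K := by
  show (cj ((H ⊓ K).map m.τ) g).comap m.τ = _
  rw [Subgroup.map_inf _ _ _ m.inj, cj_inf]
  rfl

theorem exists_conj {H : Subgroup S} (h : H ≤ m.Q) (g : m.G) {x : S} (hx : x ∈ H) :
    ∃ y ∈ m.cjS g H, m.τ y = g * m.τ x * g⁻¹ := by
  have : g * m.τ x * g⁻¹ ∈ (m.cjS g H).map m.τ := by
    rw [m.map_cjS h, H60.mem_cj]
    simpa [mul_assoc] using mem_map_of_mem m.τ hx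
  obtain ⟨y, hy, he⟩ := this
  exact ⟨y, hy, he⟩

theorem exists_of_mem_cjS {H : Subgroup S} {g : m.G} {y : S} (hy : y ∈ m.cjS g H) :
    ∃ x ∈ H, m.τ y = g * m.τ x * g⁻¹ := by
  obtain ⟨x, hx, he⟩ := m.mem_cjS.mp hy
  exact ⟨x, hx, by rw [he]; group⟩

theorem mem_cjS_of_eq {H : Subgroup S} {g : m.G} {x y : S} (hx : x ∈ H) (he : m.τ y = g * m.τ x * g⁻¹) :
    y ∈ m.cjS g H := m.mem_cjS.mpr ⟨x, hx, by rw [he]; group⟩

theorem mem_cjS_τ {H : Subgroup S} {s x : S} : x ∈ m.cjS (m.τ s) H ↔ s⁻¹ * x * s ∈ H := by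
  rw [mem_cjS, ← map_inv, ← map_mul, ← map_mul, m.mem_map]

theorem cjS_inf_cc {H : Subgroup S} (h : H ≤ m.Q) (g : m.G) :
    m.cjS g (m.Q ⊓ cc H) = m.Q ⊓ cc (m.cjS g H) := by
  ext y
  constructor
  · intro hy
    obtain ⟨x, ⟨hxQ, hxc⟩, he⟩ := m.exists_of_mem_cjS hy
    refine ⟨m.cjS_le_Q inf_le_left g hy, fun z hz => ?_⟩
    obtain ⟨w, hw, he'⟩ := m.exists_of_mem_cjS hz
    apply m.inj
    rw [map_mul, map_mul, he, he']
    have := congrArg m.τ (hxc w hw)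
    rw [map_mul, map_mul] at this
    calc g * m.τ w * g⁻¹ * (g * m.τ x * g⁻¹) = g * (m.τ w * m.τ x) * g⁻¹ := by group
      _ = g * (m.τ x * m.τ w) * g⁻¹ := by rw [this]
      _ = _ := by group
  · rintro ⟨hyQ, hyc⟩
    obtain ⟨x, hx, he⟩ := m.exists_conj le_rfl g⁻¹ hyQ
    refine m.mem_cjS_of_eq (x := x) ⟨m.cjS_le_Q le_rfl _ hx, fun w hw => m.inj ?_⟩ (by rw [he]; group)
    obtain ⟨z, hz, hez⟩ := m.exists_conj h g hw
    have := congrArg m.τ (hyc z hz)
    rw [map_mul, map_mul, hez] at this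
    rw [map_mul, map_mul, he]
    calc m.τ w * (g⁻¹ * m.τ y * g⁻¹⁻¹) = g⁻¹ * (g * m.τ w * g⁻¹ * m.τ y) * g := by group
      _ = g⁻¹ * (m.τ y * (g * m.τ w * g⁻¹)) * g := by rw [this]
      _ = _ := by group

/-- The elements normalizing a subgroup of `Q`. -/
theorem cjS_eq_of_le {H : Subgroup S} (h : H ≤ m.Q) {g : m.G} (hg : m.cjS g H ≤ H) : m.cjS g H = H :=
  eq_of_le_of_card_ge hg (m.card_cjS h g).ge

theorem nrm_of {H : Subgroup S} (h : H ≤ m.Q) (hg : ∀ g, m.cjS g H ≤ H) : m.Nrm H := by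
  refine ⟨fun x hx g => ?_⟩
  have : cj (H.map m.τ) g = H.map m.τ := by rw [← m.map_cjS h, m.cjS_eq_of_le h (hg g)]
  rw [← this, H60.mem_cj]
  simpa [mul_assoc] using hx

variable {m}

theorem Nrm.le_Q {H : Subgroup S} (h : m.Nrm H) : H ≤ m.Q := fun _ hx =>
  haveI : (H.map m.τ).Normal := h
  Cores.le_pCore ((m.pgroup.to_subgroup H).map m.τ) (mem_map_of_mem _ hx)

theorem Nrm.cjS_eq {H : Subgroup S} (h : m.Nrm H) (g : m.G) : m.cjS g H = H := by
  haveI : (H.map m.τ).Normal := h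
  rw [cjS, H31.PushUp.cj_normal, comap_map_eq_self_of_injective m.inj]

theorem Nrm.conj {H : Subgroup S} (h : m.Nrm H) {x : S} (hx : x ∈ H) (s : S) : s * x * s⁻¹ ∈ H := by
  rw [← m.mem_map, map_mul, map_mul, map_inv]
  exact Subgroup.Normal.conj_mem h _ (mem_map_of_mem _ hx) _

theorem Nrm.sup {H K : Subgroup S} (h : m.Nrm H) (k : m.Nrm K) : m.Nrm (H ⊔ K) := by
  haveI : (H.map m.τ).Normal := h
  haveI : (K.map m.τ).Normal := k
  show ((H ⊔ K).map m.τ).Normal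
  rw [Subgroup.map_sup]
  infer_instance

variable (m)

theorem nrm_Q : m.Nrm m.Q := by
  show (m.Q.map m.τ).Normal
  rw [m.map_Q]
  infer_instance

theorem nrm_inf {H K : Subgroup S} (h : m.Nrm H) (k : m.Nrm K) : m.Nrm (H ⊓ K) := by
  haveI : (H.map m.τ).Normal := h
  haveI : (K.map m.τ).Normal := k
  show ((H ⊓ K).map m.τ).Normal
  rw [Subgroup.map_inf _ _ _ m.inj]
  infer_instance

theorem nrm_inf_cc {H : Subgroup S} (h : m.Nrm H) : m.Nrm (m.Q ⊓ cc H) :=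
  m.nrm_of inf_le_left fun g => by rw [m.cjS_inf_cc h.le_Q, h.cjS_eq]

/-- The closure in `Q` under conjugation. -/
def cl (H : Subgroup S) : Subgroup S := ⨆ g : m.G, m.cjS g H

theorem le_cl (H : Subgroup S) : H ≤ m.cl H := (m.cjS_one H).ge.trans (le_iSup (fun g => m.cjS g H) 1)

theorem cl_le {H K : Subgroup S} (hK : m.Nrm K) (h : H ≤ K) : m.cl H ≤ K :=
  iSup_le fun g => (m.cjS_mono h g).trans (hK.cjS_eq g).le

theorem nrm_cl {H : Subgroup S} (h : H ≤ m.Q) : m.Nrm (m.cl H) := by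
  refine m.nrm_of (iSup_le fun g => m.cjS_le_Q h g) fun g => ?_
  rw [← map_le_map_iff_of_injective m.inj, cl, m.map_cjS (iSup_le fun g => m.cjS_le_Q h g),
    Subgroup.map_iSup, cj, Subgroup.map_iSup]
  refine iSup_le fun k => ?_
  show cj ((m.cjS k H).map m.τ) g ≤ _
  rw [m.map_cjS h, cj_cj, ← m.map_cjS h]
  exact le_iSup (fun x => (m.cjS x H).map m.τ) (g * k)

end Mem

end Cfsg.Agent.H42.PairPush
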