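import Cfsg.Agent.H42.PairPush.Trick

/-!
# Two members sharing the Sylow subgroup
-/

set_option autoImplicit false
set_option linter.unusedSectionVars false

namespace Cfsg.Agent.H42.PairPush

open Subgroup Cfsg.Agent Cfsg.Agent.H62 Cfsg.Agent.H60
open scoped Pointwise commutatorElement

universe u

variable {p : ℕ} [Fact p.Prime] {S : Type u} [Group S] [Finite S]

namespace Mem

/-- The centre of `t` moves over the centre of `i`. -/
def Arrow (i t : Mem p S) : Prop := ¬ i.Nrm (i.V ⊔ t.V)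

variable (m : Mem p S)

theorem cl_sup_le {H K : Subgroup S} (hH : H ≤ m.Q) (hK : K ≤ m.Q) : m.cl (H ⊔ K) ≤ m.cl H ⊔ m.cl K :=
  iSup_le fun g => by
    rw [m.cjS_sup hH hK]
    exact sup_le_sup (le_iSup (fun g => m.cjS g H) g) (le_iSup (fun g => m.cjS g K) g)

theorem comm_cl {H D U : Subgroup S} (hH : H ≤ m.Q) (hD : m.Nrm D) (hU : m.Nrm U)
    (hv : ∀ x ∈ H, ∀ d ∈ D, ⁅x, d⁆ ∈ U) : ∀ y ∈ m.cl H, ∀ d ∈ D, ⁅y, d⁆ ∈ U := by
  intro y hy d hd
  induction hy using Subgroup.iSup_induction' generalizing d with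
  | hp g y hy =>
    obtain ⟨x, hx, he⟩ := m.exists_of_mem_cjS hy
    obtain ⟨d0, hd0, he'⟩ := m.exists_conj hD.le_Q g⁻¹ hd
    rw [hD.cjS_eq] at hd0
    rw [← hU.cjS_eq g]
    refine m.mem_cjS_of_eq (hv x hx d0 hd0) ?_
    rw [map_commutatorElement, map_commutatorElement, conj_comm, he, he']
    group
  | h1 => rw [commutatorElement_one_left]; exact one_mem _
  | hmul a b _ _ ha hb =>
    rw [show ⁅a * b, d⁆ = a * ⁅b, d⁆ * a⁻¹ * ⁅a, d⁆ by simp only [commutatorElement_def]; group]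
    exact mul_mem (hU.conj (hb d hd) a) (ha d hd)

theorem sup_conj {H K : Subgroup S} (hH : ∀ s, ∀ x ∈ H, s * x * s⁻¹ ∈ H)
    (hK : ∀ s, ∀ x ∈ K, s * x * s⁻¹ ∈ K) (s : S) : ∀ x ∈ H ⊔ K, s * x * s⁻¹ ∈ H ⊔ K := by
  have h : H ⊔ K ≤ (H ⊔ K).comap (MulAut.conj s).toMonoidHom :=
    sup_le (fun x hx => mem_sup_left (hH s x hx)) fun x hx => mem_sup_right (hK s x hx)
  exact fun x hx => h hx

variable {m} {i t : Mem p S} (h : Std p S)
include h

theorem V_le_Q_swap (hle : t.V ≤ i.Q) : i.V ≤ t.Q := by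
  rw [← t.cc_V h]
  exact fun v hv z hz => i.V_comm_Q (hle hz) hv

theorem cc_pair : cc (i.V ⊔ t.V) = i.Q ⊓ t.Q := by rw [cc_sup, i.cc_V h, t.cc_V h]

/-- The values of the pairing of `V t` with `Q i` are central. -/
theorem lemmaA (hle : t.V ≤ i.Q) (harr : Arrow i t) : ∀ z ∈ t.V, ∀ q ∈ i.Q, ⁅z, q⁆ ∈ i.Fix := by
  set T := i.V ⊔ t.V with hT
  have hTQ : T ≤ i.Q := sup_le i.V_le_Q hle
  have hTn : ∀ s, ∀ x ∈ T, s * x * s⁻¹ ∈ T :=
    sup_conj (fun s x hx => i.nrm_V.conj hx s) fun s x hx => t.nrm_V.conj hx s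
  have lT : IsCentralizerLarge T := large_sup (i.large_V h) (t.large_V h)
  have hccV : cc i.V = i.Q := i.cc_V h
  have hTZ : ∀ x ∈ T, ∀ d ∈ cc i.V, ⁅x, d⁆ ∈ center S := by
    intro x hx d hd
    rw [hccV] at hd
    obtain ⟨v, hv, z, hz, rfl⟩ := mem_large_sup (i.large_V h) (t.large_V h) hx
    have hc : ⁅z, d⁆ ∈ center S := by
      rw [← commutatorElement_inv]; exact inv_mem (t.comm_Z h hz d)
    rw [comm_mul_left (mem_center_iff.mp hc v)]
    exact mul_mem hc (by rw [comm_eq_one (i.V_comm_Q hd hv).symm]; exact one_mem _)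
  have hY := i.nrm_cl hTQ
  have hval : ∀ y ∈ i.cl T, ∀ d ∈ cc i.V, ⁅y, d⁆ ∈ i.V := by
    rw [hccV]
    exact i.comm_cl hTQ i.nrm_Q i.nrm_V fun x hx d hd => i.center_le_V (hTZ x hx d (hccV.symm ▸ hd))
  obtain ⟨D0, lD0, hD0, hfix, hn⟩ := i.trick h i.nrm_V hY (i.large_V h) lT
    (i.large_cl h lT le_sup_left hTQ) le_rfl le_sup_left (i.le_cl T) (hccV.symm ▸ hY.le_Q) hTn le_rfl hval hTZ
  have hnot : ¬ D0 ≤ cc T := fun e => harr (hn e)
  have hTD : T ⊓ cc D0 ≤ i.V := by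
    rintro x ⟨hxT, hxD⟩
    obtain ⟨v, hv, z, hz, rfl⟩ := mem_large_sup (i.large_V h) (t.large_V h) hxT
    refine mul_mem hv ?_
    by_contra hzV
    refine hnot fun d hd => ?_
    rw [hT, cc_pair h]
    have hdi : d ∈ i.Q := hccV ▸ hD0 hd
    refine ⟨hdi, by_contra fun hdt => hzV (i.center_le_V (t.fixed_Z h hdt hz ?_))⟩
    have h1 : d * (v * z) = v * z * d := hxD d hd
    rw [← mul_assoc, i.V_comm_Q hdi hv, mul_assoc, mul_assoc] at h1
    exact mul_left_cancel h1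
  intro z hz q hq
  have hq' : q ∈ cc T ⊔ D0 := by
    rw [← hccV] at hq
    have := cc_anti hTD hq
    rwa [cc_inf lT (large_cc' lD0), cc_cc lD0] at this
  obtain ⟨a, ha, d, hd, rfl⟩ := mem_large_sup (large_cc' lT) lD0 hq'
  have hf := hfix z (i.le_cl T (mem_sup_right hz)) d hd
  rw [comm_mul_right (mem_center_iff.mp (i.Fix_le_center hf) a),
    comm_eq_one (ha z (mem_sup_right hz)), one_mul]
  exact hf

/-- The relation is symmetric if the closure stays in the core. -/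
theorem lemmaB (hle : t.V ≤ i.Q) (harr : Arrow i t) (hcl : i.cl t.V ≤ t.Q) : Arrow t i := by
  intro hW
  have hle' := V_le_Q_swap h hle
  set W := t.V ⊔ i.V with hWd
  set H := i.V ⊔ t.V with hH
  have hHQ : H ≤ i.Q := sup_le i.V_le_Q hle
  set T := i.cl H with hTd
  have lH : IsCentralizerLarge H := large_sup (i.large_V h) (t.large_V h)
  have lT : IsCentralizerLarge T := i.large_cl h lH le_sup_left hHQ
  have lW : IsCentralizerLarge W := large_sup (t.large_V h) (i.large_V h)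
  have hTi := i.nrm_cl hHQ
  have hWT : W ≤ T := (sup_comm t.V i.V).le.trans (i.le_cl H)
  have hTt : T ≤ t.Q := (i.cl_sup_le i.V_le_Q hle).trans (sup_le ((i.cl_le i.nrm_V le_rfl).trans hle') hcl)
  have hTD : T ≤ cc W := by rw [hWd, cc_pair h]; exact le_inf hTt hTi.le_Q
  have hval0 : ∀ x ∈ T, ∀ d ∈ i.Q, ⁅x, d⁆ ∈ i.Fix := by
    refine i.comm_cl hHQ i.nrm_Q (i.nrm_of_le_Fix le_rfl) fun x hx d hd => ?_
    obtain ⟨v, hv, z, hz, rfl⟩ := mem_large_sup (i.large_V h) (t.large_V h) hx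
    have hf := lemmaA h hle harr z hz d hd
    rw [comm_mul_left (mem_center_iff.mp (i.Fix_le_center hf) v), comm_eq_one (i.V_comm_Q hd hv).symm, mul_one]
    exact hf
  have hWi : cc W ≤ i.Q := by rw [hWd, cc_pair h]; exact inf_le_right
  have hTZ : ∀ x ∈ T, ∀ d ∈ cc W, ⁅x, d⁆ ∈ center S := fun x hx d hd =>
    i.Fix_le_center (hval0 x hx d (hWi hd))
  have hWt : cc W ≤ t.Q := t.cc_le_Q le_sup_left h
  have nD : t.Nrm (cc W) := by
    have := t.nrm_inf_cc hW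
    rwa [inf_eq_right.mpr hWt] at this
  have hY := t.nrm_cl hTt
  have hval : ∀ y ∈ t.cl T, ∀ d ∈ cc W, ⁅y, d⁆ ∈ t.V :=
    t.comm_cl hTt nD t.nrm_V fun x hx d hd => t.center_le_V (hTZ x hx d hd)
  obtain ⟨D0, lD0, hD0, hfix, hn⟩ := t.trick h hW hY lW lT (t.large_cl h lT (le_sup_left.trans hWT) hTt)
    le_sup_left hWT (t.le_cl T) (t.cl_le nD hTD) (fun s x hx => hTi.conj hx s) le_rfl hval hTZ
  obtain ⟨E, hED, hEfix, hEne⟩ : ∃ E, E ≤ cc W ∧ (∀ x ∈ T, ∀ d ∈ E, ⁅x, d⁆ ∈ t.Fix) ∧ ¬ E ≤ cc T := by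
    by_cases hD : D0 ≤ cc T
    · refine ⟨cc W, le_rfl, fun x hx d hd => ?_, fun e => ?_⟩
      · have hc : t.Nrm ⁅T, cc W⁆ := by
          haveI : (T.map t.τ).Normal := hn hD
          haveI : ((cc W).map t.τ).Normal := nD
          show (⁅T, cc W⁆.map t.τ).Normal
          rw [Subgroup.map_commutator]
          infer_instance
        exact t.le_Fix_of_nrm hc (commutator_le.mpr hTZ) (commutator_mem_commutator hx hd)
      · have hTW : T ≤ W := cc_le_iff lW e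
        refine harr ?_
        rw [← hH, show H = T from le_antisymm (i.le_cl H) (hTW.trans (sup_comm t.V i.V).le)]
        exact hTi
    · exact ⟨D0, hD0, fun x hx d hd => hfix x (t.le_cl T hx) d hd, hD⟩
  obtain ⟨d, hdE, hdT⟩ := SetLike.not_le_iff_exists.mp hEne
  obtain ⟨g, y, hy, hne⟩ : ∃ g, ∃ y ∈ i.cjS g H, y * d ≠ d * y := by
    by_contra hno
    push Not at hno
    refine hdT fun x hx => ?_
    have hle : T ≤ cc (zpowers d) := iSup_le fun g y hy => by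
      intro z hz
      obtain ⟨n, rfl⟩ := hz
      exact ((show Commute y d from hno g y hy).zpow_right n).eq.symm
    exact ((hle hx) d (mem_zpowers d)).symm
  have hdi : d ∈ i.Q := hWi (hED hdE)
  have hyT : y ∈ T := le_iSup (fun g => i.cjS g H) g hy
  have hf := hEfix y hyT d hdE
  obtain ⟨x, hx, hex⟩ := i.exists_of_mem_cjS hy
  obtain ⟨d0, hd0, hed⟩ := i.exists_conj le_rfl g⁻¹ hdi
  rw [i.nrm_Q.cjS_eq] at hd0
  obtain ⟨v, hv, z, hz, rfl⟩ := mem_large_sup (i.large_V h) (t.large_V h) hx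
  have hA := lemmaA h hle harr z hz d0 hd0
  have e : ⁅y, d⁆ = ⁅z, d0⁆ := by
    have e1 : ⁅v * z, d0⁆ = ⁅z, d0⁆ := by
      rw [comm_mul_left (mem_center_iff.mp (i.Fix_le_center hA) v), comm_eq_one (i.V_comm_Q hd0 hv).symm,
        mul_one]
    refine i.inj ?_
    rw [← i.Fix_conj hA g, ← e1, map_commutatorElement, map_commutatorElement, conj_comm, hex, hed]
    group
  rw [e] at hf
  refine hne (commutatorElement_eq_one_iff_mul_comm.mp (e.trans ?_))
  by_cases hdt : d0 ∈ t.Q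
  · exact comm_eq_one (t.V_comm_Q hdt hz).symm
  · refine comm_eq_one ?_
    have := t.comm_fix h hdt hz (by rw [← commutatorElement_inv]; exact inv_mem hf)
    exact (mem_center_iff.mp this d0).symm

end Mem

end Cfsg.Agent.H42.PairPush
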