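import Cfsg.Agent.H42.PairPush.Main
import Cfsg.Agent.H42.TwoNorm.Functor
import Cfsg.Agent.H59.ThompsonMap
import Cfsg.Agent.Signalizer.PushUpJ
import Cfsg.Agent.S2770
import Cfsg.Agent.S2990
import Cfsg.Agent.S2989
import Cfsg.Agent.S3008

/-!
# The characteristic pair
-/

set_option autoImplicit false
set_option linter.unusedSectionVars false

namespace Cfsg.Agent.H42.PairPush

open Subgroup Cfsg Cfsg.Agent Cfsg.Agent.H62 Cfsg.Agent.H60
open Cfsg.Agent.H46.PushUp (phi)
open scoped Pointwise commutatorElement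

universe u

variable {p : ℕ} [Fact p.Prime] {S : Type u} [Group S]

/-- The centre of the Thompson subgroup. -/
def zj (S : Type u) [Group S] : Subgroup S :=
  thompsonSubgroupA S ⊓ centralizer (thompsonSubgroupA S : Set S)

/-- Its centralizer. -/
def jt (S : Type u) [Group S] : Subgroup S := centralizer (zj S : Set S)

/-- The pair works for every embedding. -/
def Good (p : ℕ) (S1 S2 : Subgroup S) : Prop :=
  ∀ (G : Type u) [Group G] [Finite G] (τ : S →* G), Function.Injective τ →
    Cfsg.IsPushingUpSituation p τ.range → (S1.map τ).Normal ∨ (S2.map τ).Normal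

/-- The properties asked of the pair. -/
structure Props (S1 S2 : Subgroup S) : Prop where
  ne₁ : S1 ≠ ⊥
  ne₂ : S2 ≠ ⊥
  char₁ : S1.Characteristic
  char₂ : S2.Characteristic
  le₁ : S1 ≤ center S
  le₂ : S2 ≤ jt S
  rel : (S2.subgroupOf (jt S)).Characteristic
  cp : Cfsg.maxCentralProduct ↥S2 = Cfsg.maxCentralProduct ↥(jt S)

section Maps

variable {G : Type u} [Group G] {τ : S →* G}

theorem map_cc (hτ : Function.Injective τ) (H : Subgroup S) :
    (cc H).map τ = τ.range ⊓ centralizer ((H.map τ : Subgroup G) : Set G) := by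
  ext x
  constructor
  · rintro ⟨a, ha, rfl⟩
    refine ⟨⟨a, rfl⟩, ?_⟩
    rintro _ ⟨b, hb, rfl⟩
    rw [← map_mul, ← map_mul, ha b hb]
  · rintro ⟨⟨a, rfl⟩, hc⟩
    refine mem_map_of_mem τ fun b hb => hτ ?_
    rw [map_mul, map_mul]
    exact hc _ (mem_map_of_mem τ hb)

theorem map_center (hτ : Function.Injective τ) :
    (center S).map τ = τ.range ⊓ centralizer ((τ.range : Subgroup G) : Set G) := by
  rw [← (show cc (⊤ : Subgroup S) = center S by rw [cc, coe_top, centralizer_univ]), map_cc hτ, ← MonoidHom.range_eq_map]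

theorem map_thompson (hτ : Function.Injective τ) :
    Cfsg.thompsonSubgroupAOf τ.range = (thompsonSubgroupA S).map τ := by
  rw [MonoidHom.range_eq_map, H59.thompsonAOf_map τ ⊤ fun a _ b _ h => hτ h]
  congr 1
  exact H59.map_thompsonA Subgroup.topEquiv

theorem map_zj (hτ : Function.Injective τ) : Cfsg.centerThompsonAOf τ.range = (zj S).map τ := by
  rw [Cfsg.centerThompsonAOf, map_thompson hτ, zj, H59.center_map τ _ fun a _ b _ h => hτ h]

theorem map_jt (hτ : Function.Injective τ) :
    (jt S).map τ = τ.range ⊓ centralizer (Cfsg.centerThompsonAOf τ.range : Set G) := by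
  rw [map_zj hτ, ← map_cc hτ]
  rfl

/-- The data of a situation. -/
theorem exists_data [Finite G] (hsit : Cfsg.IsPushingUpSituation p τ.range) :
    ∃ P : Sylow p G, τ.range = (P : Subgroup G) ∧
      centralizer (Cfsg.pCore p G : Set G) ≤ Cfsg.pCore p G ∧
      (∃! M : Subgroup G, IsCoatom M ∧ (P : Subgroup G) ≤ M) ∧
      ∃ (K : Subgroup G) (_ : K.Normal) (F : Type) (_ : Field F) (_ : Fintype F) (n : ℕ), 1 ≤ n ∧
        Fintype.card F = p ^ n ∧ Nonempty (G ⧸ K ≃* Matrix.ProjectiveSpecialLinearGroup (Fin 2) F) ∧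
        Nonempty (H31.PushUp.RankOne P F) := by
  obtain ⟨-, ⟨P, hP⟩, hC, hM, K, hK, F, hFd, hFf, n, hF, ⟨e⟩⟩ := hsit
  rw [← hP] at hM
  obtain ⟨hchar, hn⟩ := H59.charP_of_card_eq (p := p) hF
  obtain ⟨M, ⟨hM1, hM2⟩, hu⟩ := hM
  exact ⟨P, hP.symm, hC, ⟨M, ⟨hM1, hM2⟩, hu⟩, K, hK, F, hFd, hFf, n, Nat.one_le_iff_ne_zero.mpr hn, hF, ⟨e⟩,
    ⟨{ M := M, hM := hM1, SM := hM2, uniq := fun N hN hPN => hu N ⟨hN, hPN⟩,
       π := e.toMonoidHom.comp (QuotientGroup.mk' K),
       surj := e.surjective.comp (QuotientGroup.mk'_surjective K), char := hchar }⟩⟩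

end Maps

theorem char_of_map (H : Subgroup S) (h : ∀ α : S ≃* S, H.map α.toMonoidHom = H) : H.Characteristic :=
  characteristic_iff_map_eq.mpr h

theorem inf_char {H K : Subgroup S} (hH : H.Characteristic) (hK : K.Characteristic) : (H ⊓ K).Characteristic :=
  char_of_map _ fun α => by
    rw [Subgroup.map_inf _ _ _ α.injective, characteristic_iff_map_eq.mp hH α, characteristic_iff_map_eq.mp hK α]

theorem zj_map (α : S ≃* S) : (zj S).map α.toMonoidHom = zj S := by
  rw [zj, H59.center_map _ _ fun a _ b _ h => α.injective h, H59.map_thompsonA α]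

variable [Finite S]

theorem jt_char : (jt S).Characteristic := by
  haveI : (zj S).Characteristic := char_of_map _ zj_map
  unfold jt
  infer_instance

theorem subgroupOf_top_char {H K : Subgroup S} (hH : H.Characteristic) (hK : K = ⊤) :
    (H.subgroupOf K).Characteristic := by
  subst hK
  refine characteristic_iff_le_comap.mpr fun φ x hx => ?_
  let α : S ≃* S := (Subgroup.topEquiv.symm.trans φ).trans Subgroup.topEquiv
  have := (characteristic_iff_map_eq.mp hH α).le (mem_map_of_mem α.toMonoidHom (show (x : S) ∈ H from hx))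
  exact this

theorem maxCP_of_cl {R : Subgroup S} (hR : IsCentrallyLarge R) :
    Cfsg.maxCentralProduct ↥R = Cfsg.maxCentralProduct S := by
  refine le_antisymm (csSup_le ⟨_, ⊥, rfl⟩ ?_) ?_
  · rintro k ⟨Y, rfl⟩
    refine le_csSup maxCentralProduct_bdd ⟨Y.map R.subtype, ?_⟩
    rw [card_map_of_injective R.subtype_injective, H46.PushUp.center_card_map _ R.subtype_injective]
  · refine le_csSup maxCentralProduct_bdd ⟨⊤, ?_⟩
    rw [card_top, Nat.card_congr (Subgroup.centerCongr (Subgroup.topEquiv (G := R))).toEquiv]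
    exact hR

/-- Assemble the properties when the centralizer of the centre of the Thompson subgroup is everything. -/
theorem props_of_top {S1 S2 : Subgroup S} (hjt : jt S = ⊤) (h1 : S1 ≠ ⊥) (h2 : S2 ≠ ⊥)
    (c1 : S1.Characteristic) (c2 : S2.Characteristic) (l1 : S1 ≤ center S)
    (hcl : Cfsg.maxCentralProduct ↥S2 = Cfsg.maxCentralProduct S) : Props S1 S2 where
  ne₁ := h1
  ne₂ := h2
  char₁ := c1
  char₂ := c2
  le₁ := l1
  le₂ := hjt ▸ le_top
  rel := subgroupOf_top_char c2 hjt
  cp := by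
    rw [hcl, hjt]
    exact TwoNorm.maxCentralProduct_equiv (Subgroup.topEquiv (G := S))

theorem mcl_join_map {R : Type u} [Group R] [Finite R] (e : S ≃* R) :
    (Cfsg.minimalCentrallyLargeJoin S).map e.toMonoidHom = Cfsg.minimalCentrallyLargeJoin R := by
  refine le_antisymm (map_le_iff_le_comap.mpr (sSup_le fun X hX => map_le_iff_le_comap.mp
    (le_sSup (show X.map e.toMonoidHom ∈ {R' : Subgroup R | IsMinimalCentrallyLarge R'} from
      (TwoNorm.mcl_equiv e X).mpr hX)))) (sSup_le fun Y hY => ?_)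
  have hY' : (Y.comap e.toMonoidHom).map e.toMonoidHom = Y := map_comap_eq_self_of_surjective e.surjective Y
  rw [← hY']
  exact map_mono (le_sSup (show Y.comap e.toMonoidHom ∈ {R' : Subgroup S | IsMinimalCentrallyLarge R'} from
    (TwoNorm.mcl_equiv e _).mp (by rw [hY']; exact hY)))

theorem range_hJ {G : Type u} [Group G] {τ : S →* G} (hτ : Function.Injective τ) (hjt : jt S = ⊤) :
    τ.range ≤ centralizer (Cfsg.centerThompsonAOf τ.range : Set G) := by
  have := map_jt hτ
  rw [hjt, ← MonoidHom.range_eq_map] at this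
  exact this.le.trans inf_le_right

theorem phi_bot {H : Subgroup S} (h : phi p H ≤ ⊥) : IsElementaryAbelian p H :=
  ⟨Subgroup.le_centralizer_iff_isMulCommutative.mp fun a ha b hb =>
      commutatorElement_eq_one_iff_mul_comm.mp (mem_bot.mp (h (Subgroup.subset_closure (Or.inl ⟨b, hb, a, ha, rfl⟩)))),
    fun a ha => mem_bot.mp (h (Subgroup.subset_closure (Or.inr ⟨a, ha, rfl⟩)))⟩

theorem char_szero : (szero p (⊤ : Subgroup S)).Characteristic :=
  char_of_map _ fun α => by
    rw [szero_map, Subgroup.map_top_of_surjective _ α.surjective]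

theorem jt_eq_top_iff : ⁅zj S, (⊤ : Subgroup S)⁆ = ⊥ ↔ jt S = ⊤ := by
  rw [commutator_eq_bot_iff_le_centralizer, jt, centralizer_eq_top_iff_subset, coe_top, centralizer_univ]
  rfl

variable [Nontrivial S] (hS : IsPGroup p S)
include hS

theorem center_ne : center S ≠ ⊥ := by
  haveI := hS.center_nontrivial
  exact (nontrivial_iff_ne_bot _).mp inferInstance

theorem cl_ne_bot {R : Subgroup S} (hR : IsCentrallyLarge R) : R ≠ ⊥ := by
  rintro rfl
  have h := (cl_iff.mp hR).2
  refine center_ne (p := p) hS (le_bot_iff.mp (le_trans (fun z _ => ?_) h))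
  intro x hx
  rw [SetLike.mem_coe, mem_bot] at hx
  rw [hx, one_mul, mul_one]

/-- The pair, outside the exceptional class. -/
theorem exists_pair (hexc : ⁅zj S, (⊤ : Subgroup S)⁆ ≠ ⊥ ∨
      (¬ ∀ Q : Subgroup S, IsMinimalCentrallyLarge Q → IsMulCommutative Q) ∨
      ¬ IsElementaryAbelian p (center S) ∨ szero p (⊤ : Subgroup S) ≠ ⊥ ∨ IsMulCommutative S) :
    ∃ S1 S2 : Subgroup S, Props S1 S2 ∧ Good p S1 S2 := by
  classical
  have hZ := center_ne (p := p) hS
  by_cases ha : ⁅zj S, (⊤ : Subgroup S)⁆ = ⊥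
  swap
  · haveI : (zj S).Characteristic := char_of_map _ zj_map
    refine ⟨center S ⊓ ⁅zj S, (⊤ : Subgroup S)⁆, jt S, ⟨?_, ?_, ?_, jt_char, inf_le_left, le_rfl, ?_, rfl⟩, ?_⟩
    · rw [inf_comm]; exact PGroups.inf_center_ne_bot hS _ ha
    · exact fun e => hZ (le_bot_iff.mp (e ▸ center_le_centralizer _))
    · exact inf_char inferInstance inferInstance
    · rw [subgroupOf_self]; infer_instance
    · intro G _ _ τ hτ hsit
      obtain ⟨P, hP, hC, hM, K, hK, F, hFd, hFf, n, hn, hF, ⟨e⟩, -⟩ := exists_data hsit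
      have eZ : (P : Subgroup G) ⊓ centralizer ((P : Subgroup G) : Set G) = (center S).map τ := by
        rw [map_center hτ, hP]
      have e1 : (center S ⊓ ⁅zj S, (⊤ : Subgroup S)⁆).map τ = ⁅Cfsg.centerThompsonAOf (P : Subgroup G),
          (P : Subgroup G)⁆ ⊓ ((P : Subgroup G) ⊓ centralizer ((P : Subgroup G) : Set G)) := by
        rw [Subgroup.map_inf _ _ _ hτ, inf_comm, eZ, ← hP, map_zj hτ, Subgroup.map_commutator,
          ← MonoidHom.range_eq_map]
      rcases Signalizer.PushUpJ.main P hC hM K hF e with h | h | ⟨h, -⟩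
      · exact Or.inl (Signalizer.PushUpJ.normal_of_le_center (e1.le.trans (inf_le_right.trans h)))
      · right
        rw [map_jt hτ, hP]
        exact h
      · exact Or.inl (Signalizer.PushUpJ.normal_of_le_center (e1.le.trans h))
  have hjt := jt_eq_top_iff.mp ha
  by_cases hab : ∀ Q : Subgroup S, IsMinimalCentrallyLarge Q → IsMulCommutative Q
  swap
  · push Not at hab
    obtain ⟨Q, hQ, hQab⟩ := hab
    have hQne : ⁅Q, Q⁆ ≠ ⊥ := fun e =>
      hQab (Subgroup.le_centralizer_iff_isMulCommutative.mp (commutator_eq_bot_iff_le_centralizer.mp e))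
    have hQc : (⁅Q, Q⁆).Characteristic := char_of_map _ fun α => by
      rw [Subgroup.map_commutator]
      exact H46.PushUp.derived_eq_of_mcl hS ((TwoNorm.mcl_equiv α Q).mpr hQ) hQ
    have hcl : IsCentrallyLarge (minimalCentrallyLargeJoin S) := cl_sSup ⟨Q, hQ⟩ fun R hR => hR.1
    refine ⟨center S ⊓ ⁅Q, Q⁆, minimalCentrallyLargeJoin S, props_of_top hjt ?_ (cl_ne_bot hS hcl)
      (inf_char inferInstance hQc) (char_of_map _ fun α => mcl_join_map α) inf_le_left
      (maxCP_of_cl hcl), fun G _ _ τ hτ hsit => ?_⟩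
    · haveI := hQc
      rw [inf_comm]; exact PGroups.inf_center_ne_bot hS _ hQne
    let e := MonoidHom.ofInjective hτ
    have he : τ.range.subtype.comp e.toMonoidHom = τ := rfl
    obtain ⟨-, h2, -⟩ := S2990.result τ.range hsit (range_hJ hτ hjt) (Q.map e.toMonoidHom)
      ((TwoNorm.mcl_equiv e Q).mpr hQ)
    refine h2.imp (fun h => ?_) fun h => ?_
    · rwa [← Subgroup.map_commutator, Subgroup.map_map, he, ← map_center hτ, ← Subgroup.map_inf _ _ _ hτ] at h
    · rwa [← mcl_join_map e, Subgroup.map_map, he] at h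
  by_cases hel : IsElementaryAbelian p (center S)
  swap
  · refine ⟨powerClosure p 1 (center S), ⊤, props_of_top hjt ?_ top_ne_bot ?_ inferInstance
      (powerClosure_le _) (TwoNorm.maxCentralProduct_equiv (Subgroup.topEquiv (G := S))).symm,
      fun G _ _ τ hτ hsit => ?_⟩
    · intro e
      refine hel ⟨inferInstance, fun a ha => ?_⟩
      have : a ^ p ∈ powerClosure p 1 (center S) := Subgroup.subset_closure ⟨a, ha, by rw [pow_one]⟩
      rwa [e, mem_bot] at this
    · exact char_of_map _ fun α => by rw [powerClosure_map, characteristic_iff_map_eq.mp inferInstance α]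
    · obtain ⟨P, hP, hC, hM, K, hK, F, hFd, hFf, n, hn, hF, he, -⟩ := exists_data hsit
      have eZ : (P : Subgroup G) ⊓ centralizer ((P : Subgroup G) : Set G) = (center S).map τ := by
        rw [map_center hτ, hP]
      refine (S2770.result P hC hM K F n hn hF he fun hh => hel ⟨inferInstance, fun a ha => hτ ?_⟩).imp
        (fun h => ?_) fun h => ?_
      · rw [map_pow, map_one]
        exact hh.2 _ (eZ.ge (mem_map_of_mem τ ha))
      · rwa [eZ, ← powerClosure_map] at h
      · rwa [← hP, ← map_jt hτ, hjt] at h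
  by_cases hcom : IsMulCommutative S
  · refine ⟨center S, ⊤, props_of_top hjt hZ top_ne_bot inferInstance inferInstance le_rfl
      (TwoNorm.maxCentralProduct_equiv (Subgroup.topEquiv (G := S))).symm, fun G _ _ τ hτ hsit => ?_⟩
    right
    obtain ⟨P, hP, hC, -⟩ := exists_data hsit
    have hle : τ.range ≤ Cfsg.pCore p G := by
      rintro _ ⟨s, rfl⟩
      refine hC fun x hx => ?_
      obtain ⟨a, rfl⟩ := (hP ▸ Cores.pCore_le_sylow P hx : x ∈ τ.range)
      rw [← map_mul, ← map_mul, mul_comm']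
    rw [← MonoidHom.range_eq_map, le_antisymm hle (hP ▸ Cores.pCore_le_sylow P)]
    infer_instance
  have h0 : szero p (⊤ : Subgroup S) ≠ ⊥ := by tauto
  have hJ : thompsonSubgroupA S = ⊤ := ((S3008.result (p := p) S hS).2.2.2 hab).symm.trans hjt
  have hstd : Std p S := ⟨hS, hJ, hab, hel⟩
  obtain ⟨S2, hc2, hcl, hgood⟩ := exists_common hstd
  haveI := char_szero (p := p) (S := S)
  refine ⟨center S ⊓ szero p ⊤, S2, props_of_top hjt ?_ (cl_ne_bot hS hcl) (inf_char inferInstance char_szero) hc2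
    inf_le_left (maxCP_of_cl hcl), fun G _ _ τ hτ hsit => ?_⟩
  · rw [inf_comm]; exact PGroups.inf_center_ne_bot hS _ h0
  obtain ⟨P, hP, hC, -, K, hK, F, hFd, hFf, n, -, -, -, ⟨R⟩⟩ := exists_data hsit
  by_cases hn1 : ((center S ⊓ szero p (⊤ : Subgroup S)).map τ).Normal
  · exact Or.inl hn1
  refine Or.inr (hgood (Mem.mk (p := p) (S := S) G τ hτ P hP F R hC fun hZn => hn1 ?_) hn1)
  haveI := hZn
  refine Signalizer.PushUpJ.normal_of_le_center ((map_mono inf_le_left).trans
    (H31.PushUp.le_center_of_normal R _ ?_))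
  rintro _ ⟨z, hz, rfl⟩ s hs
  obtain ⟨s, rfl⟩ := (hP ▸ hs : s ∈ τ.range)
  rw [← map_mul, ← map_mul, mem_center_iff.mp hz s]

/-- The shared conditions of the exceptional class. -/
theorem exception (ha : ⁅zj S, (⊤ : Subgroup S)⁆ = ⊥)
    (hab : ∀ Q : Subgroup S, IsMinimalCentrallyLarge Q → IsMulCommutative Q)
    (hel : IsElementaryAbelian p (center S)) (h0 : szero p (⊤ : Subgroup S) = ⊥) :
    Std p S ∧ thompsonSubgroupA S = ⊤ ∧ IsElementaryAbelian p (frattini S) ∧
      (p = 2 → frattini S ≤ center S) ∧ (p = 3 → frattini S ≤ Subgroup.upperCentralSeries S 2) ∧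
      (3 < p → frattini S ≤ center S ∧ Monoid.exponent S = p) ∧
      (∀ A ∈ maxAbelianSubgroups S, ∀ B ∈ maxAbelianSubgroups S, ∀ Q : Subgroup S,
        Nat.card ↥A ^ 2 = Nat.card S * Nat.card ↥(center S) ∧
        Nat.card ↥Q * Nat.card ↥(center ↥Q) ≤ Nat.card S * Nat.card ↥(center S) ∧
        ((A ⊔ B : Subgroup S) : Set S) = (A : Set S) * (B : Set S) ∧
        A ⊔ B = centralizer ((A ⊓ B : Subgroup S) : Set S)) := by
  have hjt := jt_eq_top_iff.mp ha
  have hJ : thompsonSubgroupA S = ⊤ := ((S3008.result (p := p) S hS).2.2.2 hab).symm.trans hjt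
  have h : Std p S := ⟨hS, hJ, hab, hel⟩
  have hp : p.Prime := Fact.out
  rw [← le_bot_iff, szero] at h0
  have hcomm : p ≠ 3 → frattini S ≤ center S := by
    intro hp3
    rw [if_neg hp3] at h0
    have : ⁅phi p (⊤ : Subgroup S), (⊤ : Subgroup S)⁆ ≤ ⊥ := by
      split_ifs at h0 <;> exact le_sup_left.trans h0
    rw [← phi_top hS]
    exact fun x hx => mem_center_iff.mpr fun y => (commutatorElement_eq_one_iff_mul_comm.mp
      (mem_bot.mp (this (commutator_mem_commutator hx (mem_top y))))).symm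
  have hfr : IsElementaryAbelian p (frattini S) := by
    rw [← phi_top hS]
    by_cases h23 : p = 2 ∨ p = 3
    · refine phi_bot ?_
      rcases h23 with e | e <;> subst e <;> simp only [↓reduceIte, Nat.reduceEqDiff] at h0 <;>
        exact le_sup_right.trans h0
    · push Not at h23
      have hle := hcomm h23.2
      rw [← phi_top hS] at hle
      exact ⟨Subgroup.le_centralizer_iff_isMulCommutative.mp fun a ha b _ =>
        mem_center_iff.mp (hle ha) b, fun a ha => hel.2 a (hle ha)⟩
  refine ⟨h, hJ, hfr, fun e => hcomm (by omega), fun e => ?_, fun e => ⟨hcomm (by omega), ?_⟩, fun A hA B hB Q => ?_⟩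
  · subst e
    simp only [↓reduceIte, Nat.reduceEqDiff] at h0
    rw [← phi_top hS]
    intro x hx
    refine Subgroup.mem_upperCentralSeries_succ_iff.mpr fun y => ?_
    rw [Subgroup.upperCentralSeries_one]
    refine mem_center_iff.mpr fun z => (commutatorElement_eq_one_iff_mul_comm.mp (mem_bot.mp
      ((le_sup_left.trans h0) (commutator_mem_commutator
        (commutator_mem_commutator hx (mem_top y)) (mem_top z))))).symm
  · rw [if_neg (by omega), if_neg (by omega)] at h0
    refine (Monoid.exponent_eq_prime_iff hp).mpr fun x hx => ?_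
    refine orderOf_eq_prime (mem_bot.mp ((le_sup_right.trans h0) ?_)) hx
    exact Subgroup.subset_closure ⟨x, mem_top x, by rw [pow_one]⟩
  · have hAl : IsCentralizerLarge A := h.large_A hA
    have hBl : IsCentralizerLarge B := h.large_A hB
    refine ⟨?_, ?_, (large_sup_inf hAl hBl).2.2.1, ?_⟩
    · rw [← h.max_eq, ← hAl, ← (show cc A = A from cc_maxAbelian hA)]
      rw [cc_maxAbelian hA, pow_two]
      conv_rhs => rw [show centralizer (A : Set S) = A from cc_maxAbelian hA]
    · rw [← h.max_eq]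
      exact (center_prod_le Q).trans (meas_le Q)
    · rw [show centralizer ((A ⊓ B : Subgroup S) : Set S) = cc (A ⊓ B) from rfl, cc_inf hAl hBl,
        cc_maxAbelian hA, cc_maxAbelian hB]

end Cfsg.Agent.H42.PairPush
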