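import Cfsg.Agent.H42.PairPush.Facts
import Cfsg.Agent.Cores.Residual

/-!
# Elements of order prime to `p` normalizing the Sylow subgroup
-/

set_option autoImplicit false
set_option linter.unusedSectionVars false

namespace Cfsg.Agent.H42.PairPush

open Subgroup Cfsg.Agent Cfsg.Agent.H62 Cfsg.Agent.H60
open Cfsg.Agent.H31.PushUp (Sec mem_Sec up up_mem up_entries eq_up up_mul)
open scoped Pointwise commutatorElement

universe u

variable {p : ℕ} [Fact p.Prime] {S : Type u} [Group S] [Finite S]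

namespace Mem

variable (m : Mem p S)

/-- A normal subgroup containing an element of the Sylow subgroup outside the core contains the residual. -/
theorem residual_le {N : Subgroup m.G} [N.Normal] {x : S} (hx : x ∉ m.Q) (hxN : m.τ x ∈ N) :
    Cfsg.pResidual p m.G ≤ N := by
  rcases m.R.normal_cases N with hle | htop
  · exact absurd (m.R.core_inf_le ⟨m.τ_mem x, (normal_le_normalCore.mpr hle) hxN⟩) hx
  · refine Cores.pResidual_le_of_isPGroup_quotient N (m.P.2.of_surjective
      ((QuotientGroup.mk' N).comp (m.P : Subgroup m.G).subtype) fun y => ?_)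
    obtain ⟨g, rfl⟩ := QuotientGroup.mk'_surjective N y
    obtain ⟨s, hs, n, hn, rfl⟩ := mem_sup_of_normal_right.mp (htop ▸ mem_top g)
    refine ⟨⟨s, hs⟩, ?_⟩
    show QuotientGroup.mk' N s = QuotientGroup.mk' N (s * n)
    rw [map_mul, show QuotientGroup.mk' N n = 1 from (QuotientGroup.eq_one_iff n).mpr hn, mul_one]

/-- An element normalizing the Sylow subgroup induces a map of `S`. -/
theorem exists_conj_norm {t : m.G} (ht : t ∈ normalizer ((m.P : Subgroup m.G) : Set m.G)) (x : S) :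
    ∃ y, m.τ y = t * m.τ x * t⁻¹ :=
  m.exists_pre ((mem_normalizer_iff.mp ht _).mp (m.τ_mem x))

variable (h : Std p S)
include h

/-- Lifts of diagonal matrices, of order prime to `p`, normalizing the Sylow subgroup. -/
theorem exists_torus {a : m.F} (ha : a ≠ 0) : ∃ (t : m.G) (j : ℕ), (orderOf t).Coprime p ∧
    t ∈ normalizer ((m.P : Subgroup m.G) : Set m.G) ∧
    ((m.lay h).e t : Matrix (Fin 2) (Fin 2) m.F) 0 0 = a ^ p ^ j ∧
    ((m.lay h).e t : Matrix (Fin 2) (Fin 2) m.F) 1 0 = 0 ∧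
    ((m.lay h).e t : Matrix (Fin 2) (Fin 2) m.F) 0 1 = 0 := by
  set e := (m.lay h).e
  let d : Matrix.SpecialLinearGroup (Fin 2) m.F := ⟨!![a, 0; 0, a⁻¹], by simp [Matrix.det_fin_two_of, ha]⟩
  have hd : (d : Matrix (Fin 2) (Fin 2) m.F) 0 0 = a ∧ (d : Matrix (Fin 2) (Fin 2) m.F) 1 0 = 0 ∧
      (d : Matrix (Fin 2) (Fin 2) m.F) 0 1 = 0 ∧ (d : Matrix (Fin 2) (Fin 2) m.F) 1 1 = a⁻¹ :=
    ⟨rfl, rfl, rfl, rfl⟩
  obtain ⟨d0, d1, d2, d3⟩ := hd
  obtain ⟨g, hg⟩ := (m.lay h).surj d
  clear_value d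
  set K := (Linear.unitriSL 2 m.F).comap e with hK
  have hPK : (m.P : Subgroup m.G) ≤ K := fun s hs => (m.lay h).mem_unitri s hs
  let P' : Sylow p m.G := g • m.P
  have hP'K : (P' : Subgroup m.G) ≤ K := by
    rw [Sylow.coe_subgroup_smul]
    rintro _ ⟨s, hs, rfl⟩
    show e (g * s * g⁻¹) ∈ Linear.unitriSL 2 m.F
    have hu := (m.lay h).mem_unitri s hs
    obtain ⟨u1, u2, u3⟩ := Linear.unitriSL_two_eq.mp hu
    obtain ⟨i0, i1, i2, i3⟩ := Linear.SL_inv_entries d
    rw [map_mul, map_mul, map_inv, show e g = d from hg]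
    refine Linear.unitriSL_two_eq.mpr ⟨?_, ?_, ?_⟩ <;>
      simp [Linear.SL_mul_entries, d0, d1, d2, d3, i0, i1, i2, i3, e, u1, u2, u3, ha]
  obtain ⟨n, hn⟩ := MulAction.exists_smul_eq K (m.P.subtype hPK) (P'.subtype hP'K)
  have h2 : ((n : m.G) • m.P : Sylow p m.G) = P' := by
    apply Sylow.subtype_injective (hP := by
      rw [Sylow.coe_subgroup_smul]
      rintro _ ⟨x, hx, rfl⟩
      exact mul_mem (mul_mem n.2 (hPK hx)) (inv_mem n.2)) (hQ := hP'K)
    rw [← hn, Sylow.smul_subtype hPK n]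
    rfl
  have h3 : ((n : m.G)⁻¹ * g) • m.P = m.P := by
    rw [mul_smul, show g • m.P = P' from rfl, ← h2, inv_smul_smul]
  obtain ⟨s, hs, hse⟩ := (m.lay h).surj_S (e (n : m.G)) n.2
  set t0 := s * ((n : m.G)⁻¹ * g) with ht0
  have ht0N : t0 ∈ normalizer ((m.P : Subgroup m.G) : Set m.G) :=
    mul_mem (le_normalizer hs) (Sylow.smul_eq_iff_mem_normalizer.mp h3)
  have het0 : e t0 = d := by rw [ht0, map_mul, map_mul, map_inv, hse, mul_inv_cancel_left, hg]
  have hp : p.Prime := Fact.out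
  refine ⟨t0 ^ p ^ (orderOf t0).factorization p, (orderOf t0).factorization p, ?_,
    pow_mem ht0N _, ?_⟩
  · rw [orderOf_pow_of_dvd (pow_ne_zero _ hp.ne_zero) (Nat.ordProj_dvd _ p)]
    exact (Nat.coprime_ordCompl hp (orderOf_pos t0).ne').symm
  · rw [map_pow, het0]
    generalize p ^ (orderOf t0).factorization p = N
    induction N with
    | zero => simp
    | succ N ih =>
      rw [pow_succ d, pow_succ a]
      obtain ⟨x0, x1, x2⟩ := ih
      refine ⟨?_, ?_, ?_⟩ <;>
        simp [Linear.SL_mul_entries, -Matrix.SpecialLinearGroup.coe_pow, x0, x1, x2, d0, d1, d2]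

/-- An element of `S` outside the core differs from a commutator with a torus element by an element of the core. -/
theorem exists_comm_torus {a : m.F} (ha0 : a ≠ 0) (ha : a ^ 2 ≠ 1) (y : S) :
    ∃ n : S, m.τ n ∈ Cfsg.pResidual p m.G ∧ n⁻¹ * y ∈ m.Q := by
  obtain ⟨t, j, hco, hN, t00, t10, t01⟩ := m.exists_torus h ha0
  have hb : (a ^ p ^ j) ^ 2 ≠ 1 := by
    haveI := m.R.char
    intro e
    refine ha ?_
    rw [← pow_mul, mul_comm, pow_mul] at e
    have := sub_pow_char_pow (x := a ^ 2) (y := (1 : m.F)) (p := p) (n := j)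
    rw [e, one_pow, sub_self] at this
    exact sub_eq_zero.mp ((pow_eq_zero_iff (pow_ne_zero _ (Fact.out : p.Prime).ne_zero)).mp this)
  set b := a ^ p ^ j
  set c := ((m.lay h).e (m.τ y) : Matrix (Fin 2) (Fin 2) m.F) 0 1 / (1 - b ^ 2) with hc
  obtain ⟨x, hx, hxe⟩ := (m.lay h).surj_S _ (up_mem c)
  obtain ⟨s, rfl⟩ := m.exists_pre hx
  have hmem : ⁅m.τ s, t⁆ ∈ (m.P : Subgroup m.G) := by
    rw [show ⁅m.τ s, t⁆ = m.τ s * (t * (m.τ s)⁻¹ * t⁻¹) by simp only [commutatorElement_def]; group]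
    exact mul_mem (m.τ_mem s) ((mem_normalizer_iff.mp hN _).mp (inv_mem (m.τ_mem s)))
  obtain ⟨n, hn⟩ := m.exists_pre hmem
  refine ⟨n, ?_, ?_⟩
  · rw [hn, commutatorElement_def]
    exact mul_mem ((inferInstance : (Cfsg.pResidual p m.G).Normal).conj_mem _
      (Cores.mem_pResidual_of_coprime hco) _) (inv_mem (Cores.mem_pResidual_of_coprime hco))
  · rw [← m.e_eq_one h, map_mul, map_inv, hn, map_mul, map_inv, map_commutatorElement, hxe, inv_mul_eq_one,
      eq_up (m.e_unitri h y)]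
    have hdet := Linear.SL_det_two ((m.lay h).e t)
    rw [t00, t01, zero_mul, sub_zero] at hdet
    obtain ⟨i0, i1, i2, i3⟩ := Linear.SL_inv_entries ((m.lay h).e t)
    obtain ⟨u0, u1, u2, u3⟩ := up_entries c
    obtain ⟨v0, v1, v2, v3⟩ := up_entries (-c)
    obtain ⟨w0, w1, w2, w3⟩ := up_entries (((m.lay h).e (m.τ y) : Matrix (Fin 2) (Fin 2) m.F) 0 1)
    have hinv : (up c : Matrix.SpecialLinearGroup (Fin 2) m.F)⁻¹ = up (-c) := by
      refine inv_eq_of_mul_eq_one_right ?_
      rw [up_mul, add_neg_cancel]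
      obtain ⟨z0, z1, z2, z3⟩ := up_entries (0 : m.F)
      exact Linear.SL_ext_two (by simp [z0]) (by simp [z1]) (by simp [z2]) (by simp [z3])
    rw [commutatorElement_def, hinv]
    generalize (m.lay h).e t = W at t00 t10 t01 hdet i0 i1 i2 i3 ⊢
    have hcy : c * (1 - b ^ 2) = ((m.lay h).e (m.τ y) : Matrix (Fin 2) (Fin 2) m.F) 0 1 :=
      div_mul_cancel₀ _ (sub_ne_zero.mpr hb.symm)
    clear_value c b
    refine Linear.SL_ext_two ?_ ?_ ?_ ?_ <;>
      simp [Linear.SL_mul_entries, t00, t10, t01, i0, i1, i2, i3, u0, u1, u2, u3, v0, v1, v2, v3, w0, w1, w2,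
        w3] <;>
      first
        | linear_combination hdet
        | linear_combination hcy
        | linear_combination c * hdet
        | linear_combination hcy + c * hdet
        | linear_combination hcy - c * hdet
        | linear_combination -hcy + c * hdet

end Mem

end Cfsg.Agent.H42.PairPush
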