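import Cfsg.Agent.H42.PairPush.Facts

/-!
# Commutators of conjugate centralizer pairs are central
-/

set_option autoImplicit false
set_option linter.unusedSectionVars false

namespace Cfsg.Agent.H42.PairPush

open Subgroup Cfsg.Agent Cfsg.Agent.H62 Cfsg.Agent.H60
open scoped Pointwise commutatorElement

universe u

variable {p : ℕ} [Fact p.Prime] {S : Type u} [Group S] [Finite S]

section Group

variable {G : Type*} [Group G]

theorem comm_mul_left {x y k : G} (h : x * ⁅y, k⁆ = ⁅y, k⁆ * x) : ⁅x * y, k⁆ = ⁅y, k⁆ * ⁅x, k⁆ := by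
  calc ⁅x * y, k⁆ = x * ⁅y, k⁆ * x⁻¹ * ⁅x, k⁆ := by simp only [commutatorElement_def]; group
    _ = _ := by rw [h, mul_inv_cancel_right]

theorem comm_mul_right {x k l : G} (h : k * ⁅x, l⁆ = ⁅x, l⁆ * k) : ⁅x, k * l⁆ = ⁅x, k⁆ * ⁅x, l⁆ := by
  calc ⁅x, k * l⁆ = ⁅x, k⁆ * (k * ⁅x, l⁆ * k⁻¹) := by simp only [commutatorElement_def]; group
    _ = _ := by rw [h, mul_inv_cancel_right]

theorem comm_eq_one {x y : G} (h : x * y = y * x) : ⁅x, y⁆ = 1 := commutatorElement_eq_one_iff_mul_comm.mpr h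

theorem conj_comm (a x y : G) : a * ⁅x, y⁆ * a⁻¹ = ⁅a * x * a⁻¹, a * y * a⁻¹⁆ := by
  simp only [commutatorElement_def]; group

theorem conj_eq_comm_mul (a x : G) : a * x * a⁻¹ = ⁅a, x⁆ * x := by
  rw [commutatorElement_def]; group

end Group

namespace Mem

variable (m : Mem p S) (h : Std p S)

theorem cc_le_Q {H : Subgroup S} (hV : m.V ≤ H) (hl : Std p S) : cc H ≤ m.Q :=
  (cc_anti hV).trans (m.cc_V hl).le

theorem cjS_cc {H : Subgroup S} (hl : Std p S) (hV : m.V ≤ H) (hQ : H ≤ m.Q) (g : m.G) :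
    m.cjS g (cc H) = cc (m.cjS g H) := by
  have h1 := m.cjS_inf_cc hQ g
  rwa [inf_eq_right.mpr (m.cc_le_Q hV hl), inf_eq_right.mpr (m.cc_le_Q
    ((m.nrm_V.cjS_eq g).ge.trans (m.cjS_mono hV g)) hl)] at h1

theorem large_cjS {H : Subgroup S} (hl : Std p S) (hH : IsCentralizerLarge H) (hV : m.V ≤ H) (hQ : H ≤ m.Q)
    (g : m.G) : IsCentralizerLarge (m.cjS g H) := by
  refine large_of_le (le_of_eq ?_)
  rw [meas, ← m.cjS_cc hl hV hQ, m.card_cjS hQ, m.card_cjS (m.cc_le_Q hV hl)]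
  exact hH.symm

theorem large_cl {H : Subgroup S} (hl : Std p S) (hH : IsCentralizerLarge H) (hV : m.V ≤ H) (hQ : H ≤ m.Q) :
    IsCentralizerLarge (m.cl H) := large_iSup fun g => m.large_cjS hl hH hV hQ g

/-- An element outside the maximal subgroup, with the Sylow subgroup, generates. -/
theorem sup_zpowers {b : m.G} (hb : b ∉ m.R.M) : (m.P : Subgroup m.G) ⊔ zpowers b = ⊤ := by
  by_contra hne
  obtain ⟨T, hT, hle⟩ := (eq_top_or_exists_le_coatom _).resolve_left hne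
  exact hb (m.R.uniq T hT (le_sup_left.trans hle) ▸ hle (mem_sup_right (mem_zpowers b)))

theorem mem_normalizer_of {H : Subgroup S} (hH : H ≤ m.Q) {b : m.G} (hb : m.cjS b H = H) :
    b ∈ normalizer ((H.map m.τ : Subgroup m.G) : Set m.G) := by
  rw [← cj_eq_self_iff, ← m.map_cjS hH, hb]

theorem cjS_τ_eq {H : Subgroup S} {a : S} (ha : ∀ x ∈ H, a * x * a⁻¹ ∈ H) (hQ : H ≤ m.Q) :
    m.cjS (m.τ a) H = H := by
  refine m.cjS_eq_of_le hQ fun x hx => ?_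
  have := ha _ (m.mem_cjS_τ.mp hx)
  rwa [show a * (a⁻¹ * x * a) * a⁻¹ = x by group] at this

/-- A subgroup normalized by `S` and by an element outside the maximal subgroup is normal. -/
theorem nrm_of_S {H : Subgroup S} (hH : H ≤ m.Q) (hS : ∀ s, ∀ x ∈ H, s * x * s⁻¹ ∈ H) {b : m.G}
    (hb : b ∉ m.R.M) (hbH : m.cjS b H = H) : m.Nrm H := by
  show (H.map m.τ).Normal
  rw [← normalizer_eq_top_iff, eq_top_iff, ← m.sup_zpowers hb]
  refine sup_le (fun x hx => ?_) (zpowers_le.mpr (m.mem_normalizer_of hH hbH))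
  obtain ⟨s, rfl⟩ := m.exists_pre hx
  exact m.mem_normalizer_of hH (m.cjS_τ_eq (hS s) hH)

include h

/-- A subgroup containing `T` and invariant under `A` and an element outside `M` contains the closure. -/
theorem cl_le_of {T H A : Subgroup S} (hH : H ≤ m.Q) (hTH : T ≤ H) (hT : ∀ s, ∀ x ∈ T, s * x * s⁻¹ ∈ T)
    (hA : A ∈ maxAbelianSubgroups S) (hAQ : ¬ A ≤ m.Q) (hAH : ∀ a ∈ A, ∀ x ∈ H, a * x * a⁻¹ ∈ H)
    {b : m.G} (hb : b ∉ m.R.M) (hbH : m.cjS b H = H) : m.cl T ≤ H := by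
  set N := normalizer ((H.map m.τ : Subgroup m.G) : Set m.G) with hN
  have hbN : b ∈ N := m.mem_normalizer_of hH hbH
  have hAN : A.map m.τ ≤ N := by
    rintro _ ⟨a, ha, rfl⟩
    exact m.mem_normalizer_of hH (m.cjS_τ_eq (hAH a ha) hH)
  have htop : N ⊔ Cfsg.pCore p m.G = ⊤ := by
    rw [eq_top_iff, ← m.sup_zpowers hb]
    refine sup_le ?_ (zpowers_le.mpr (mem_sup_left hbN))
    rw [← m.map_top, ← m.sup_Q h hA hAQ, Subgroup.map_sup, m.map_Q]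
    exact sup_le_sup_right hAN _
  refine iSup_le fun k => ?_
  have hTQ := hTH.trans hH
  obtain ⟨l, hl, q, hq, rfl⟩ := mem_sup_of_normal_right.mp (htop ▸ mem_top k)
  obtain ⟨q, rfl⟩ := m.pCore_le_range hq
  rw [← m.cjS_cjS hTQ, m.cjS_τ_eq (hT q) hTQ]
  refine (m.cjS_mono hTH l).trans (le_of_eq ?_)
  apply map_injective m.inj
  rw [m.map_cjS hH]
  exact cj_eq_self_iff.mpr hl

omit h in
/-- Invariance under a conjugate of an element. -/
theorem cjS_conj_eq {H : Subgroup S} (hH : H ≤ m.Q) {g : m.G} {a : S}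
    (ha : ∀ x ∈ m.cjS g⁻¹ H, a * x * a⁻¹ ∈ m.cjS g⁻¹ H) : m.cjS (g * m.τ a * g⁻¹) H = H := by
  have h1 := m.cjS_τ_eq ha (m.cjS_le_Q hH _)
  rw [← m.cjS_cjS hH, ← m.cjS_cjS (m.cjS_le_Q hH _), h1, m.cjS_inv_cancel hH]

theorem exists_antidiag : ∃ g : m.G, ((m.lay h).e g : Matrix (Fin 2) (Fin 2) m.F) 0 0 = 0 ∧
    ((m.lay h).e g : Matrix (Fin 2) (Fin 2) m.F) 1 1 = 0 := by
  obtain ⟨g, hg⟩ := (m.lay h).surj ⟨!![0, -1; 1, 0], by simp [Matrix.det_fin_two_of]⟩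
  exact ⟨g, by rw [hg]; rfl, by rw [hg]; rfl⟩

/-- The conjugate of an element of `S` outside `Q` by an antidiagonal element. -/
theorem conj_lower {g : m.G} (h0 : ((m.lay h).e g : Matrix (Fin 2) (Fin 2) m.F) 0 0 = 0)
    (h1 : ((m.lay h).e g : Matrix (Fin 2) (Fin 2) m.F) 1 1 = 0) {a : S} (ha : a ∉ m.Q) :
    ∃ t s : m.F, t ≠ 0 ∧ s ≠ 0 ∧
      ((m.lay h).e (m.τ a) : Matrix (Fin 2) (Fin 2) m.F) = !![1, t; 0, 1] ∧
      ((m.lay h).e (g * m.τ a * g⁻¹) : Matrix (Fin 2) (Fin 2) m.F) = !![1, 0; s, 1] := by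
  have he : (m.lay h).e (g * m.τ a * g⁻¹) =
      (m.lay h).e g * (m.lay h).e (m.τ a) * ((m.lay h).e g)⁻¹ := by rw [map_mul, map_mul, map_inv]
  obtain ⟨a0, a1, a2⟩ := Linear.unitriSL_two_eq.mp (m.e_unitri h a)
  have ht := H31.PushUp.PreLayer.unitri_ne_zero (m.e_unitri h a) fun e => ha ((m.e_eq_one h).mp e)
  rw [he]
  generalize (m.lay h).e g = W at h0 h1 ⊢
  generalize (m.lay h).e (m.τ a) = E at a0 a1 a2 ht ⊢
  have hdet := Linear.SL_det_two W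
  rw [h0, zero_mul, zero_sub] at hdet
  obtain ⟨i0, i1, i2, i3⟩ := Linear.SL_inv_entries W
  refine ⟨_, ((W * E * W⁻¹ : Matrix.SpecialLinearGroup (Fin 2) m.F) : Matrix (Fin 2) (Fin 2) m.F) 1 0, ht, ?_, ?_, ?_⟩
  · simp [Linear.SL_mul_entries, a0, a1, a2, h0, h1, i0, i1, i2, i3]
    refine ⟨⟨?_, ht⟩, ?_⟩ <;> intro e <;>
      rw [e, mul_zero, neg_zero] at hdet <;> exact zero_ne_one hdet
  · ext i j
    fin_cases i <;> fin_cases j <;> simp [a0, a1, a2]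
  · ext i j
    fin_cases i <;> fin_cases j <;> simp [Linear.SL_mul_entries, a0, a1, a2, h0, h1, i0, i1, i2, i3] <;>
      linear_combination hdet

/-- The main computation: `D₀` centralizes `Y` modulo the fixed points. -/
theorem trick {W T Y : Subgroup S} (hW : m.Nrm W) (hY : m.Nrm Y) (lW : IsCentralizerLarge W)
    (lT : IsCentralizerLarge T) (lY : IsCentralizerLarge Y) (hVW : m.V ≤ W) (hWT : W ≤ T) (hTY : T ≤ Y)
    (hYD : Y ≤ cc W) (hT : ∀ s, ∀ x ∈ T, s * x * s⁻¹ ∈ T) (hmin : Y ≤ m.cl T)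
    (hval : ∀ y ∈ Y, ∀ d ∈ cc W, ⁅y, d⁆ ∈ m.V) (hTZ : ∀ t ∈ T, ∀ d ∈ cc W, ⁅t, d⁆ ∈ center S) :
    ∃ D0, IsCentralizerLarge D0 ∧ D0 ≤ cc W ∧ (∀ y ∈ Y, ∀ d ∈ D0, ⁅y, d⁆ ∈ m.Fix) ∧
      (D0 ≤ cc T → m.Nrm T) := by
  classical
  obtain ⟨A, hA, hAQ⟩ := m.exists_A h
  have lA := h.large_A hA
  have hcom : ∀ a ∈ A, ∀ b ∈ A, a * b = b * a := fun a ha b hb =>
    congrArg Subtype.val (hA.1.is_comm.comm (⟨a, ha⟩ : A) ⟨b, hb⟩)
  set D := cc W with hD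
  set C := cc Y with hC
  set X := (A ⊓ Y) ⊔ W with hX
  set K := (A ⊓ D) ⊔ C with hK
  have hWY : W ≤ Y := hWT.trans hTY
  have hDQ : D ≤ m.Q := m.cc_le_Q hVW h
  have hYQ : Y ≤ m.Q := hYD.trans hDQ
  have hCD : C ≤ D := cc_anti hWY
  have hCQ : C ≤ m.Q := hCD.trans hDQ
  have lD := large_cc' lW
  have lC := large_cc' lY
  have lX : IsCentralizerLarge X := large_sup (large_inf lA lY) lW
  have lK : IsCentralizerLarge K := large_sup (large_inf lA lD) lC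
  have hVC : m.V ≤ C := cc_anti hYQ
  have hXY : X ≤ Y := sup_le inf_le_right hWY
  have hXQ : X ≤ m.Q := hXY.trans hYQ
  have hKD : K ≤ D := sup_le inf_le_right hCD
  have hKQ : K ≤ m.Q := hKD.trans hDQ
  have hVX : m.V ≤ X := hVW.trans le_sup_right
  have hVK : m.V ≤ K := hVC.trans le_sup_right
  have nC : m.Nrm C := by
    have := m.nrm_inf_cc hY
    rwa [inf_eq_right.mpr hCQ] at this
  have ccX : cc X = K := by
    rw [hX, cc_sup, cc_inf lA lY, cc_maxAbelian hA]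
    refine le_antisymm (fun x hx => ?_) (sup_le (le_inf (inf_le_left.trans le_sup_left) inf_le_right)
      (le_inf le_sup_right hCD))
    obtain ⟨a, ha, c, hc, rfl⟩ := mem_large_sup lA lC hx.1
    refine Subgroup.mul_mem _ (mem_sup_left (mem_inf.mpr ⟨ha, ?_⟩)) (mem_sup_right hc)
    simpa using Subgroup.mul_mem _ hx.2 (Subgroup.inv_mem _ (hCD hc))
  have ccK : cc K = X := by rw [← ccX, cc_cc lX]
  -- `A` acts trivially modulo `W` and modulo `C`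
  have aX : ∀ a ∈ A, ∀ x ∈ X, ⁅a, x⁆ ∈ W := fun a ha x hx => by
    obtain ⟨a0, ha0, w, hw, rfl⟩ := mem_large_sup (large_inf lA lY) lW hx
    rw [show ⁅a, a0 * w⁆ = ⁅a, a0⁆ * (a0 * ⁅a, w⁆ * a0⁻¹) by simp only [commutatorElement_def]; group,
      comm_eq_one (hcom a ha a0 ha0.1), one_mul]
    exact hW.conj (by rw [commutatorElement_def]; exact mul_mem (hW.conj hw a) (inv_mem hw)) a0
  have aK : ∀ a ∈ A, ∀ k ∈ K, ⁅a, k⁆ ∈ C := fun a ha k hk => by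
    obtain ⟨a0, ha0, c, hc, rfl⟩ := mem_large_sup (large_inf lA lD) lC hk
    rw [show ⁅a, a0 * c⁆ = ⁅a, a0⁆ * (a0 * ⁅a, c⁆ * a0⁻¹) by simp only [commutatorElement_def]; group,
      comm_eq_one (hcom a ha a0 ha0.1), one_mul]
    exact nC.conj (by rw [commutatorElement_def]; exact mul_mem (nC.conj hc a) (inv_mem hc)) a0
  -- conjugates
  set Kc := fun g => m.cjS g K with hKc
  set Xc := fun g => m.cjS g X with hXc
  have ccXc : ∀ g, cc (Xc g) = Kc g := fun g => by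
    rw [hXc, hKc]; simp only; rw [← ccX, m.cjS_cc h hVX hXQ]
  have lXc : ∀ g, IsCentralizerLarge (Xc g) := fun g => m.large_cjS h lX hVX hXQ g
  have lKc : ∀ g, IsCentralizerLarge (Kc g) := fun g => m.large_cjS h lK hVK hKQ g
  have hXcY : ∀ g, Xc g ≤ Y := fun g => (m.cjS_mono hXY g).trans (hY.cjS_eq g).le
  have hKcD : ∀ g, Kc g ≤ D := fun g => by
    rw [← ccXc g]
    exact cc_anti ((hW.cjS_eq g).ge.trans (m.cjS_mono le_sup_right g))
  have hDW : ∀ d ∈ D, ∀ w ∈ W, d * w = w * d := fun d hd w hw => (hd w hw).symm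
  have hCY : ∀ c ∈ C, ∀ y ∈ Y, c * y = y * c := fun c hc y hy => (hc y hy).symm
  have hVD : ∀ d ∈ D, ∀ v ∈ m.V, d * v = v * d := fun d hd v hv => hDW d hd v (hVW hv)
  have hVY : ∀ y ∈ Y, ∀ v ∈ m.V, y * v = v * y := fun y hy v hv => m.V_comm_Q (hYQ hy) hv
  have aD0 : ∀ g, ∀ a ∈ A, ∀ d ∈ K ⊔ Kc g, a * d * a⁻¹ ∈ K ⊔ Kc g := by
    intro g a ha d hd
    have hdD : d ∈ D := sup_le hKD (hKcD g) hd
    rw [← ccX, ← ccXc, ← cc_inf lX (lXc g)] at hd ⊢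
    intro x hx
    have hw := aX a⁻¹ (inv_mem ha) x hx.1
    have e : a⁻¹ * x * a = ⁅a⁻¹, x⁆ * x := by rw [commutatorElement_def]; group
    have hc : (a⁻¹ * x * a) * d = d * (a⁻¹ * x * a) := by
      rw [e, mul_assoc, hd x hx, ← mul_assoc, ← hDW d hdD _ hw, mul_assoc]
    calc x * (a * d * a⁻¹) = a * ((a⁻¹ * x * a) * d) * a⁻¹ := by group
      _ = a * (d * (a⁻¹ * x * a)) * a⁻¹ := by rw [hc]
      _ = _ := by group
  have bD0 : ∀ g, ∀ a ∈ A, m.cjS (g * m.τ a * g⁻¹) (K ⊔ Kc g) = K ⊔ Kc g := fun g a ha => by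
    refine m.cjS_conj_eq (sup_le hKQ (m.cjS_le_Q hKQ g)) ?_
    rw [m.cjS_sup hKQ (m.cjS_le_Q hKQ g), m.cjS_inv_cancel' hKQ, sup_comm]
    exact aD0 g⁻¹ a ha
  have aY0 : ∀ g, ∀ a ∈ A, ∀ y ∈ X ⊔ Xc g, a * y * a⁻¹ ∈ X ⊔ Xc g := by
    intro g a ha y hy
    have hyY : y ∈ Y := sup_le hXY (hXcY g) hy
    have hcc : cc (K ⊓ Kc g) = X ⊔ Xc g := by
      rw [cc_inf lK (lKc g), ccK, ← ccXc g, cc_cc (lXc g)]
    rw [← hcc] at hy ⊢
    intro k hk
    have hc1 := aK a⁻¹ (inv_mem ha) k hk.1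
    have e : a⁻¹ * k * a = ⁅a⁻¹, k⁆ * k := by rw [commutatorElement_def]; group
    have hc : (a⁻¹ * k * a) * y = y * (a⁻¹ * k * a) := by
      rw [e, mul_assoc, hy k hk, ← mul_assoc, hCY _ hc1 y hyY, mul_assoc]
    calc k * (a * y * a⁻¹) = a * ((a⁻¹ * k * a) * y) * a⁻¹ := by group
      _ = a * (y * (a⁻¹ * k * a)) * a⁻¹ := by rw [hc]
      _ = _ := by group
  obtain ⟨a, haA, haQ⟩ := SetLike.not_le_iff_exists.mp hAQ
  -- the values are fixed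
  have hφ : ∀ g : m.G, ((m.lay h).e g : Matrix (Fin 2) (Fin 2) m.F) 0 0 = 0 →
      ((m.lay h).e g : Matrix (Fin 2) (Fin 2) m.F) 1 1 = 0 →
      ∀ x' ∈ Xc g, ∀ k ∈ K, ⁅x', k⁆ ∈ m.Fix := by
    intro g h0 h1 x' hx' k hk
    obtain ⟨t, s, ht, hs, hea, heb⟩ := m.conj_lower h h0 h1 haQ
    set b := g * m.τ a * g⁻¹ with hb
    obtain ⟨x1, hx1, ξ, hξ, hax⟩ := mem_large_sup lX (lXc g) (aY0 g a haA x' (mem_sup_right hx'))
    have hka : ∀ k ∈ K, ∀ y ∈ Xc g, ⁅y, a * k * a⁻¹⁆ = ⁅y, k⁆ := fun k hk y hy => by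
      have hc := aK a haA k hk
      rw [conj_eq_comm_mul, comm_mul_right (hVD _ (hCD hc) _ (hval _ (hXcY g hy) _ (hKD hk))),
        comm_eq_one (hCY _ hc _ (hXcY g hy)).symm, one_mul]
    have hcX : ∀ k ∈ K, ⁅x1, k⁆ = 1 := fun k hk => by
      rw [← ccX] at hk
      exact comm_eq_one (hk x1 hx1)
    have hA1 : ∀ k ∈ K, a * ⁅x', k⁆ * a⁻¹ = ⁅ξ, k⁆ := fun k hk => by
      have hka' : a * k * a⁻¹ ∈ K := by
        rw [conj_eq_comm_mul]; exact mul_mem (mem_sup_right (aK a haA k hk)) hk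
      rw [conj_comm, hax, comm_mul_left (hVY _ (hXY hx1) _ (hval _ (hXcY g hξ) _ (hKD hka'))),
        hcX _ hka', mul_one, hka k hk ξ hξ]
    obtain ⟨y, hy, hye⟩ : ∃ y ∈ K ⊔ Kc g, m.τ y = b * m.τ k * b⁻¹ := by
      have := m.exists_conj (sup_le hKQ (m.cjS_le_Q hKQ g)) b (mem_sup_left hk : k ∈ K ⊔ Kc g)
      rwa [bD0 g a haA] at this
    rw [sup_comm] at hy
    obtain ⟨kg, hkg, κ, hκ, rfl⟩ := mem_large_sup (lKc g) lK hy
    have hB : ∀ z ∈ Xc g, b * m.τ ⁅z, k⁆ * b⁻¹ = m.τ ⁅z, κ⁆ := fun z hz => by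
      obtain ⟨x0, hx0, he⟩ := m.exists_of_mem_cjS hz
      obtain ⟨w, hw, hwe⟩ := m.exists_conj ((le_sup_right : W ≤ X).trans hXQ) g (aX a haA x0 hx0)
      rw [hW.cjS_eq] at hw
      have hz' : b * m.τ z * b⁻¹ = m.τ (w * z) := by
        rw [map_mul, hwe, he, map_commutatorElement, hb, commutatorElement_def]; group
      rw [map_commutatorElement, conj_comm, hz', ← hye, ← map_commutatorElement]
      congr 1
      have hkz : kg * z = z * kg := by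
        rw [← ccXc g] at hkg
        exact (hkg z hz).symm
      have hwY : w * ⁅z, kg * κ⁆ = ⁅z, kg * κ⁆ * w :=
        hVY _ (hWY hw) _ (hval _ (hXcY g hz) _ (mul_mem (hKcD g hkg) (hKD hκ)))
      rw [comm_mul_left hwY, comm_eq_one (hDW _ (mul_mem (hKcD g hkg) (hKD hκ)) _ hw).symm, mul_one,
        comm_mul_right (hVD _ (hKcD g hkg) _ (hval _ (hXcY g hz) _ (hKD hκ))), comm_eq_one hkz.symm, one_mul]
    have hv := hval _ (hXcY g hx') _ (hKD hk)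
    have heq : (b * m.τ a) * m.τ ⁅x', k⁆ * (b * m.τ a)⁻¹ = (m.τ a * b) * m.τ ⁅x', k⁆ * (m.τ a * b)⁻¹ := by
      calc (b * m.τ a) * m.τ ⁅x', k⁆ * (b * m.τ a)⁻¹ = b * m.τ (a * ⁅x', k⁆ * a⁻¹) * b⁻¹ := by
            rw [map_mul, map_mul, map_inv]; group
        _ = m.τ ⁅ξ, κ⁆ := by rw [hA1 k hk, hB ξ hξ]
        _ = m.τ (a * ⁅x', κ⁆ * a⁻¹) := by rw [hA1 κ hκ]
        _ = m.τ a * (b * m.τ ⁅x', k⁆ * b⁻¹) * (m.τ a)⁻¹ := by rw [hB x' hx', map_mul, map_mul, map_inv]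
        _ = _ := by group
    rw [← m.ψ_zero_iff h hv]
    have he := congrArg (m.lay h).ψ heq
    rw [(m.lay h).equiv _ _ (mem_map_of_mem _ hv), (m.lay h).equiv _ _ (mem_map_of_mem _ hv)] at he
    simp only [map_mul, Matrix.SpecialLinearGroup.coe_mul, hea, heb] at he
    have e0 := congrFun he 0
    have e1 := congrFun he 1
    simp [Matrix.mulVec, dotProduct, Fin.sum_univ_two] at e0 e1
    refine funext (Fin.forall_fin_two.mpr ⟨?_, ?_⟩)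
    · have : t * s * m.ψ h ⁅x', k⁆ 0 = 0 := by
        show t * s * (m.lay h).ψ (m.τ ⁅x', k⁆) 0 = 0
        rw [map_commutatorElement]; linear_combination -e0
      exact (mul_eq_zero.mp this).resolve_left (mul_ne_zero ht hs)
    · have : t * s * m.ψ h ⁅x', k⁆ 1 = 0 := by
        show t * s * (m.lay h).ψ (m.τ ⁅x', k⁆) 1 = 0
        rw [map_commutatorElement]; linear_combination e1
      exact (mul_eq_zero.mp this).resolve_left (mul_ne_zero ht hs)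
  obtain ⟨g, hg0, hg1⟩ := m.exists_antidiag h
  have hgi : ((m.lay h).e g⁻¹ : Matrix (Fin 2) (Fin 2) m.F) 0 0 = 0 ∧
      ((m.lay h).e g⁻¹ : Matrix (Fin 2) (Fin 2) m.F) 1 1 = 0 := by
    rw [show (m.lay h).e g⁻¹ = ((m.lay h).e g)⁻¹ from map_inv _ _]
    generalize (m.lay h).e g = W at hg0 hg1 ⊢
    obtain ⟨i0, i1, -, -⟩ := Linear.SL_inv_entries W
    rw [i0, i1]
    exact ⟨hg1, hg0⟩
  set b := g * m.τ a * g⁻¹ with hb
  have hbM : b ∉ m.R.M := by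
    obtain ⟨t, s, -, hs, -, heb⟩ := m.conj_lower h hg0 hg1 haQ
    rw [(m.lay h).mem_M]
    intro e
    exact hs ((congrFun (congrFun heb 1) 0).symm.trans e)
  set D0 := K ⊔ Kc g with hD0
  set Y0 := X ⊔ Xc g with hY0
  have lD0 : IsCentralizerLarge D0 := large_sup lK (lKc g)
  have hD0D : D0 ≤ D := sup_le hKD (hKcD g)
  -- invariance of centralizers in `Y`
  have hinv : ∀ E : Subgroup S, E ≤ m.Q → (∀ a ∈ A, ∀ y ∈ Y ⊓ cc E, a * y * a⁻¹ ∈ Y ⊓ cc E) →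
      (∀ a ∈ A, ∀ y ∈ Y ⊓ cc (m.cjS g⁻¹ E), a * y * a⁻¹ ∈ Y ⊓ cc (m.cjS g⁻¹ E)) → E ≤ cc T → E ≤ C := by
    intro E hEQ h1 h2 hET
    have hQ' : Y ⊓ cc E = Y ⊓ (m.Q ⊓ cc E) := by rw [← inf_assoc, inf_eq_left.mpr hYQ]
    have hle := m.cl_le_of h (H := Y ⊓ cc E) (inf_le_left.trans hYQ)
      (le_inf hTY ((le_cc_cc T).trans (cc_anti hET))) hT hA hAQ h1 hbM (by
        refine m.cjS_conj_eq (inf_le_left.trans hYQ) ?_
        rw [hQ', m.cjS_inf, hY.cjS_eq, m.cjS_inf_cc hEQ, ← inf_assoc, inf_eq_left.mpr hYQ]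
        exact h2 a haA)
    exact (le_cc_cc E).trans (cc_anti ((hmin.trans hle).trans inf_le_right))
  have hYT : Y ≤ T ⊔ Y0 := by
    refine cc_le_iff (large_sup lT (large_sup lX (lXc g))) ?_
    rw [cc_sup, cc_sup, ccX, ccXc g]
    have hE : ∀ E : Subgroup S, E ≤ K → ∀ a ∈ A, ∀ y ∈ Y ⊓ cc E, a * y * a⁻¹ ∈ Y ⊓ cc E := by
      intro E hEK a' ha y hy
      refine ⟨hY.conj hy.1 a', fun e he => ?_⟩
      have hc1 := aK a'⁻¹ (inv_mem ha) e (hEK he)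
      have e' : a'⁻¹ * e * a' = ⁅a'⁻¹, e⁆ * e := by rw [commutatorElement_def]; group
      have hc : (a'⁻¹ * e * a') * y = y * (a'⁻¹ * e * a') := by
        rw [e', mul_assoc, hy.2 e he, ← mul_assoc, hCY _ hc1 y hy.1, mul_assoc]
      calc e * (a' * y * a'⁻¹) = a' * ((a'⁻¹ * e * a') * y) * a'⁻¹ := by group
        _ = a' * (y * (a'⁻¹ * e * a')) * a'⁻¹ := by rw [hc]
        _ = _ := by group
    refine hinv _ ((inf_le_right.trans inf_le_left).trans hKQ) (hE _ (inf_le_right.trans inf_le_left))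
      (hE _ ?_) inf_le_left
    calc m.cjS g⁻¹ (cc T ⊓ (K ⊓ Kc g)) ≤ m.cjS g⁻¹ (Kc g) := m.cjS_mono (inf_le_right.trans inf_le_right) _
      _ = K := m.cjS_inv_cancel' hKQ g
  have hfix0 : ∀ y ∈ Y0, ∀ d ∈ D0, ⁅y, d⁆ ∈ m.Fix := by
    intro y hy d hd
    obtain ⟨x, hx, x', hx', rfl⟩ := mem_large_sup lX (lXc g) hy
    obtain ⟨k, hk, k', hk', rfl⟩ := mem_large_sup lK (lKc g) hd
    have c1 : ⁅x, k⁆ = 1 := by
      rw [← ccX] at hk; exact comm_eq_one (hk x hx)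
    have c2 : ⁅x', k'⁆ = 1 := by
      rw [← ccXc] at hk'; exact comm_eq_one (hk' x' hx')
    have c3 : ⁅x', k⁆ ∈ m.Fix := hφ g hg0 hg1 x' hx' k hk
    have c4 : ⁅x, k'⁆ ∈ m.Fix := by
      obtain ⟨x0, hx0, he⟩ := m.exists_conj hXQ g⁻¹ hx
      obtain ⟨k0, hk0, he'⟩ := m.exists_of_mem_cjS hk'
      have hf := hφ g⁻¹ hgi.1 hgi.2 x0 hx0 k0 hk0
      have e : m.τ ⁅x, k'⁆ = m.τ ⁅x0, k0⁆ := by
        rw [← m.Fix_conj hf g, map_commutatorElement, map_commutatorElement, conj_comm, he, ← he']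
        group
      rw [m.inj e]; exact hf
    rw [comm_mul_left (hVY _ (hXY hx) _ (hval _ (hXcY g hx') _ (mul_mem (hKD hk) (hKcD g hk')))),
      comm_mul_right (hVD _ (hKD hk) _ (hval _ (hXcY g hx') _ (hKcD g hk'))),
      comm_mul_right (hVD _ (hKD hk) _ (hval _ (hXY hx) _ (hKcD g hk'))), c1, c2, one_mul, mul_one]
    exact mul_mem c3 c4
  have hcen : ∀ y ∈ Y, ∀ d ∈ D0, ⁅y, d⁆ ∈ center S := by
    intro y hy d hd
    obtain ⟨t, ht, y0, hy0, rfl⟩ := mem_large_sup lT (large_sup lX (lXc g)) (hYT hy)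
    have h1 := m.Fix_le_center (hfix0 y0 hy0 d hd)
    rw [comm_mul_left (mem_center_iff.mp h1 t)]
    exact mul_mem h1 (hTZ t ht d (hD0D hd))
  refine ⟨D0, lD0, hD0D, fun y hy d hd => ?_, fun hDT => ?_⟩
  · obtain ⟨y', hy', hey⟩ := m.exists_conj hYQ b hy
    obtain ⟨d', hd', hed⟩ := m.exists_conj (hD0D.trans hDQ) b hd
    rw [hY.cjS_eq] at hy'
    rw [hD0, hb, bD0 g a haA] at hd'
    refine m.fix_of_two h hbM (hcen y hy d hd) (hcen y' hy' d' hd') ?_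
    rw [map_commutatorElement, map_commutatorElement, hey, hed, conj_comm]
  · have hD0C : D0 ≤ C := by
      have hE : ∀ g, ∀ a ∈ A, ∀ y ∈ Y ⊓ cc (K ⊔ Kc g), a * y * a⁻¹ ∈ Y ⊓ cc (K ⊔ Kc g) := by
        intro g a ha y hy
        refine ⟨hY.conj hy.1 a, fun e he => ?_⟩
        have := aD0 g a⁻¹ (inv_mem ha) e he
        rw [inv_inv] at this
        have hc := hy.2 _ this
        calc e * (a * y * a⁻¹) = a * ((a⁻¹ * e * a) * y) * a⁻¹ := by group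
          _ = a * (y * (a⁻¹ * e * a)) * a⁻¹ := by rw [hc]
          _ = _ := by group
      refine hinv D0 (hD0D.trans hDQ) (hE g) ?_ hDT
      rw [hD0, m.cjS_sup hKQ (m.cjS_le_Q hKQ g), m.cjS_inv_cancel' hKQ, sup_comm]
      exact hE g⁻¹
    have hYX : Y ≤ X := by
      rw [← ccK, ← cc_cc lY]; exact cc_anti ((le_sup_left : K ≤ D0).trans hD0C)
    refine m.nrm_of_S (hTY.trans hYQ) hT hbM (m.cjS_conj_eq (hTY.trans hYQ) fun x hx => ?_)
    have hxY : x ∈ Y := (m.cjS_mono hTY g⁻¹).trans (hY.cjS_eq _).le hx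
    rw [conj_eq_comm_mul]
    exact mul_mem ((hW.cjS_eq g⁻¹).ge.trans (m.cjS_mono hWT _) (aX a haA x (hYX hxY))) hx

end Mem

end Cfsg.Agent.H42.PairPush
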