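import Cfsg.Agent.H42.PairPush.Graph

/-!
# Twisting members by automorphisms
-/

set_option autoImplicit false
set_option linter.unusedSectionVars false

namespace Cfsg.Agent.H42.PairPush

open Subgroup Cfsg.Agent Cfsg.Agent.H62 Cfsg.Agent.H60
open scoped Pointwise commutatorElement

universe u

variable {p : ℕ} [Fact p.Prime] {S : Type u} [Group S] [Finite S]

theorem comap_cc (α : S ≃* S) (H : Subgroup S) : cc (H.comap α.toMonoidHom) = (cc H).comap α.toMonoidHom := by
  ext x
  constructor
  · intro hx y hy
    apply α.symm.injective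
    show α.symm (y * α x) = α.symm (α x * y)
    rw [map_mul, map_mul, α.symm_apply_apply]
    exact hx _ (by show α (α.symm y) ∈ H; rwa [α.apply_symm_apply])
  · intro hx y hy
    apply α.injective
    rw [map_mul, map_mul]
    exact hx (α y) hy

theorem char_iff_map {H : Subgroup S} (hH : H.Characteristic) (α : S ≃* S) : H.map α.toMonoidHom = H :=
  characteristic_iff_map_eq.mp hH α

namespace Mem

variable (m : Mem p S)

/-- The member with its embedding composed with an automorphism. -/
def twist (α : S ≃* S) : Mem p S where
  G := m.G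
  τ := m.τ.comp α.toMonoidHom
  inj := m.inj.comp α.injective
  P := m.P
  range_eq := by
    rw [MonoidHom.range_comp, MonoidHom.range_eq_top.mpr α.surjective, ← MonoidHom.range_eq_map]
    exact m.range_eq
  F := m.F
  R := m.R
  cent := m.cent
  moved := by
    rw [← Subgroup.map_map, char_iff_map inferInstance α]
    exact m.moved

theorem twist_V (α : S ≃* S) : (m.twist α).V = m.V.comap α.toMonoidHom := by
  show cc ((Cfsg.pCore p m.G).comap (m.τ.comp α.toMonoidHom)) = _
  rw [← Subgroup.comap_comap, comap_cc]
  rfl

theorem twist_nrm (α : S ≃* S) (H : Subgroup S) : (m.twist α).Nrm H ↔ m.Nrm (H.map α.toMonoidHom) := by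
  show (H.map (m.τ.comp α.toMonoidHom)).Normal ↔ _
  rw [← Subgroup.map_map]
  rfl

end Mem

end Cfsg.Agent.H42.PairPush
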